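/-
Element orders in PSL_n(F), F a finite field.
-/
import Mathlib.GroupTheory.OrderOfElement
import Mathlib.LinearAlgebra.Matrix.ProjectiveSpecialLinearGroup
import Mathlib.LinearAlgebra.Matrix.Charpoly.Coeff
import Mathlib.LinearAlgebra.Matrix.Charpoly.Minpoly
import Mathlib.FieldTheory.Finite.Extension
import Mathlib.FieldTheory.Finite.Trace
import Mathlib.RingTheory.AdjoinRoot
import Mathlib.RingTheory.Norm.Basic
import Mathlib.GroupTheory.Perm.Cycle.Type

set_option autoImplicit false

open Polynomial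

namespace CfsgLib.Spectrum

theorem orderOf_eq_of_pow_iff {G : Type*} [Monoid G] (x : G) {M : ℕ}
    (h : ∀ k, x ^ k = 1 ↔ M ∣ k) : orderOf x = M :=
  Nat.dvd_antisymm (orderOf_dvd_of_pow_eq_one ((h M).2 dvd_rfl)) ((h _).1 (pow_orderOf_eq_one x))

theorem exists_orderOf_eq_of_dvd_orderOf {G : Type*} [Group G] [Finite G] (x : G) {m : ℕ}
    (hm : m ∣ orderOf x) : ∃ y : G, orderOf y = m :=
  ⟨x ^ (orderOf x / m), orderOf_pow_orderOf_div (orderOf_pos x).ne' hm⟩

/-- The sum `1 + q + ... + q^(d-1)`. -/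
def geomExp (q d : ℕ) : ℕ := ∑ i ∈ Finset.range d, q ^ i

theorem sub_one_mul_geomExp {q : ℕ} (hq : 1 ≤ q) (d : ℕ) : (q - 1) * geomExp q d = q ^ d - 1 := by
  rw [mul_comm, geomExp, geom_sum_mul_of_one_le hq]

theorem gcd_geomExp {q : ℕ} (hq : 1 ≤ q) (d : ℕ) :
    Nat.gcd (geomExp q d) (q - 1) = Nat.gcd d (q - 1) := by
  have h1 : q ≡ 1 [MOD q - 1] := by
    have h := Nat.modEq_sub hq
    exact h
  have h2 : geomExp q d ≡ d [MOD q - 1] := by
    induction d with
    | zero => simp [geomExp, Nat.ModEq]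
    | succ d ih =>
      have : geomExp q (d + 1) = geomExp q d + q ^ d := by
        simp [geomExp, Finset.sum_range_succ]
      rw [this]
      have h3 := h1.pow d
      rw [one_pow] at h3
      exact ih.add h3
  exact h2.gcd_eq

/-- Exponent of the image of a norm one cyclic torus in `PSL_n(q)`. -/
def singerExp (q n : ℕ) : ℕ := geomExp q n / Nat.gcd n (q - 1)

section general

variable {F : Type*} [Field F]

theorem pslMk_pow_eq_one_iff {n : ℕ} (g : Matrix.SpecialLinearGroup (Fin n) F) (k : ℕ) :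
    (QuotientGroup.mk g : Matrix.ProjectiveSpecialLinearGroup (Fin n) F) ^ k = 1 ↔
      ∃ c : F, (g : Matrix (Fin n) (Fin n) F) ^ k = Matrix.scalar (Fin n) c := by
  rw [← QuotientGroup.mk_pow, QuotientGroup.eq_one_iff, Matrix.SpecialLinearGroup.mem_center_iff]
  constructor
  · rintro ⟨r, -, hr⟩
    exact ⟨r, by rw [hr, Matrix.SpecialLinearGroup.coe_pow]⟩
  · rintro ⟨c, hc⟩
    refine ⟨c, ?_, by rw [Matrix.SpecialLinearGroup.coe_pow, hc]⟩
    have := congrArg Matrix.det hc
    rw [Matrix.det_pow, g.2, one_pow] at this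
    simpa using this.symm

/-- A norm one element of an `n`-dimensional commutative algebra gives an element of `PSL_n`. -/
theorem exists_psl_of_algebra {A : Type*} [CommRing A] [Algebra F A] [Module.Finite F A] {n : ℕ}
    (hA : Module.finrank F A = n) (x : A) (hx : Algebra.norm F x = 1) :
    ∃ g : Matrix.ProjectiveSpecialLinearGroup (Fin n) F,
      ∀ k : ℕ, g ^ k = 1 ↔ ∃ c : F, x ^ k = algebraMap F A c := by
  let b := Module.finBasisOfFinrankEq F A hA
  let g : Matrix.SpecialLinearGroup (Fin n) F :=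
    ⟨Algebra.leftMulMatrix b x, by rw [← Algebra.norm_eq_matrix_det b x, hx]⟩
  refine ⟨QuotientGroup.mk g, fun k => ?_⟩
  rw [pslMk_pow_eq_one_iff]
  refine exists_congr fun c => ?_
  show (Algebra.leftMulMatrix b x) ^ k = _ ↔ _
  rw [← map_pow]
  have : Matrix.scalar (Fin n) c = Algebra.leftMulMatrix b (algebraMap F A c) := by
    rw [AlgHom.commutes]; rfl
  rw [this]
  exact (Algebra.leftMulMatrix_injective b).eq_iff

theorem exists_eq_pow_of_forall_irreducible_dvd {f P : F[X]} (hf : f.Monic) (hfi : Irreducible f)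
    (hP : P.Monic) (h : ∀ g : F[X], Irreducible g → g ∣ P → f ∣ g) : ∃ k, P = f ^ k := by
  obtain ⟨k, b, hb, hPb⟩ := WfDvdMonoid.max_power_factor hP.ne_zero hfi
  refine ⟨k, ?_⟩
  have hb0 : b ≠ 0 := by
    rintro rfl
    exact hP.ne_zero (by simpa using hPb)
  have hbu : IsUnit b := by
    by_contra hu
    obtain ⟨g, hg, hgb⟩ := WfDvdMonoid.exists_irreducible_factor hu hb0
    exact hb ((h g hg (hPb ▸ hgb.mul_left _)).trans hgb)
  have hbm : b.Monic := (hf.pow k).of_mul_monic_left (hPb ▸ hP)
  rw [hPb, hbm.eq_one_of_isUnit hbu, mul_one]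

theorem exists_dvd_pow_of_forall_irreducible {P m : F[X]} (hm : m ≠ 0)
    (h : ∀ g : F[X], Irreducible g → g ∣ m → g ∣ P) : ∃ k, m ∣ P ^ k := by
  induction m using UniqueFactorizationMonoid.induction_on_prime with
  | h₁ => exact absurd rfl hm
  | h₂ u hu => exact ⟨0, by simpa using hu.dvd⟩
  | h₃ a g ha hg ih =>
    obtain ⟨k, hk⟩ := ih ha (fun g' hg' hd => h g' hg' (hd.mul_left g))
    exact ⟨k + 1, by rw [pow_succ']; exact mul_dvd_mul (h g hg.irreducible (dvd_mul_right g a)) hk⟩

theorem charpoly_dvd_minpoly_pow {n : ℕ} (M : Matrix (Fin n) (Fin n) F) :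
    M.charpoly ∣ (minpoly F M) ^ n := by
  set m := minpoly F M with hm
  obtain ⟨Q, hQ⟩ := X_sub_C_dvd_sub_C_eval (p := m.map (C : F →+* F[X])) (a := (X : F[X]))
  have heval : (m.map (C : F →+* F[X])).eval X = m := by
    rw [eval_map, eval₂_C_X]
  rw [heval] at hQ
  have h0 := congrArg (aeval ((C : F →+* F[X]).mapMatrix M)) hQ
  have h1 : aeval ((C : F →+* F[X]).mapMatrix M) (m.map (C : F →+* F[X])) = 0 := by
    have hcomp : (C : F →+* F[X]).mapMatrix M = (Algebra.ofId F F[X]).mapMatrix M := rfl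
    rw [← Polynomial.algebraMap_eq, aeval_map_algebraMap, Polynomial.algebraMap_eq, hcomp,
      aeval_algHom_apply, hm, minpoly.aeval, map_zero]
  rw [map_sub, map_mul, map_sub, h1, aeval_X, aeval_C, aeval_C, zero_sub] at h0
  have h2 : (C : F →+* F[X]).mapMatrix M - algebraMap F[X] (Matrix (Fin n) (Fin n) F[X]) X
      = - Matrix.charmatrix M := by
    rw [Matrix.charmatrix, neg_sub]; rfl
  rw [h2, neg_mul, neg_inj] at h0
  have h3 := congrArg Matrix.det h0
  rw [Matrix.det_mul, Matrix.algebraMap_eq_diagonal, Matrix.det_diagonal] at h3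
  simp only [Pi.algebraMap_apply, Algebra.algebraMap_self, RingHom.id_apply, Finset.prod_const,
    Finset.card_univ, Fintype.card_fin] at h3
  exact ⟨_, h3⟩

theorem not_X_dvd_minpoly {n : ℕ} [NeZero n] (g : Matrix.SpecialLinearGroup (Fin n) F) :
    ¬ X ∣ minpoly F (g : Matrix (Fin n) (Fin n) F) := by
  intro hX
  have hd : X ∣ (g : Matrix (Fin n) (Fin n) F).charpoly :=
    hX.trans (Matrix.minpoly_dvd_charpoly _)
  rw [Polynomial.X_dvd_iff] at hd
  have := Matrix.det_eq_sign_charpoly_coeff (g : Matrix (Fin n) (Fin n) F)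
  rw [hd, mul_zero, g.2] at this
  exact one_ne_zero this

theorem natDegree_minpoly_le {n : ℕ} (M : Matrix (Fin n) (Fin n) F) :
    (minpoly F M).natDegree ≤ n := by
  have h := Polynomial.natDegree_le_of_dvd (Matrix.minpoly_dvd_charpoly M)
    (Matrix.charpoly_monic M).ne_zero
  simpa using h

theorem pow_eq_zero_of_isNilpotent_matrix {n e : ℕ} (M : Matrix (Fin n) (Fin n) F)
    (hM : IsNilpotent M) (he : n ≤ e) : M ^ e = 0 := by
  have hn : M ^ n = 0 := by
    obtain ⟨k, hk⟩ := hM
    have hd : minpoly F M ∣ X ^ k := minpoly.dvd F M (by simp [hk])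
    obtain ⟨i, -, hi⟩ := (dvd_prime_pow prime_X _).1 hd
    have hi' : minpoly F M = X ^ i :=
      eq_of_monic_of_associated (minpoly.monic (Matrix.isIntegral M)) (monic_X_pow i) hi
    have hin := natDegree_minpoly_le M
    rw [hi', natDegree_X_pow] at hin
    have h0 := minpoly.aeval F M
    rw [hi', map_pow, aeval_X] at h0
    exact pow_eq_zero_of_le hin h0
  exact pow_eq_zero_of_le he hn

end general

section finite

variable {F : Type*} [Field F] [Fintype F]

theorem exists_algebraMap_eq_of_pow_card {K : Type*} [Field K] [Algebra F K] (y : K)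
    (h : y ^ Fintype.card F = y) : ∃ c : F, algebraMap F K c = y := by
  classical
  have hq : 1 < Fintype.card F := Fintype.one_lt_card
  have hP : (X ^ Fintype.card F - X : K[X]) ≠ 0 := FiniteField.X_pow_card_sub_X_ne_zero K hq
  let S : Finset K := Finset.univ.image (algebraMap F K)
  have hS : S.card = Fintype.card F := by
    rw [Finset.card_image_of_injective _ (algebraMap F K).injective, Finset.card_univ]
  by_contra hne
  push Not at hne
  have hy : y ∉ S := by simpa [S] using hne
  have hsub : insert y S ⊆ (X ^ Fintype.card F - X : K[X]).roots.toFinset := by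
    intro z hz
    rw [Multiset.mem_toFinset, mem_roots hP]
    rcases Finset.mem_insert.1 hz with rfl | hz
    · simp [h]
    · obtain ⟨c, -, rfl⟩ := Finset.mem_image.1 hz
      simp [← map_pow, FiniteField.pow_card]
  have h1 := (Finset.card_le_card hsub).trans
    ((Multiset.toFinset_card_le _).trans (card_roots' _))
  rw [Finset.card_insert_of_notMem hy, hS, FiniteField.X_pow_card_sub_X_natDegree_eq K hq] at h1
  omega

/-- Irreducible factors of the minimal polynomial: the root is killed by `q^d - 1`. -/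
theorem root_pow_eq_one {n : ℕ} [NeZero n] (g : Matrix.SpecialLinearGroup (Fin n) F) (f : F[X])
    [Fact (Irreducible f)] (hfd : f ∣ minpoly F (g : Matrix (Fin n) (Fin n) F)) :
    f.natDegree ≤ n ∧ 1 ≤ f.natDegree ∧ AdjoinRoot.root f ≠ 0 ∧
      AdjoinRoot.root f ^ (Fintype.card F ^ f.natDegree - 1) = 1 := by
  have hf : Irreducible f := Fact.out
  have hne : AdjoinRoot.root f ≠ 0 := by
    intro h0
    rw [← AdjoinRoot.mk_X, AdjoinRoot.mk_eq_zero] at h0
    exact not_X_dvd_minpoly g (((Associated.dvd (hf.associated_of_dvd irreducible_X h0).symm)).trans hfd)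
  have hdn : f.natDegree ≤ n := (Polynomial.natDegree_le_of_dvd hfd
    (minpoly.ne_zero (Matrix.isIntegral _))).trans (natDegree_minpoly_le _)
  refine ⟨hdn, hf.natDegree_pos, hne, ?_⟩
  have : Module.Finite F (AdjoinRoot f) := (AdjoinRoot.powerBasis hf.ne_zero).finite
  have : Finite (AdjoinRoot f) := Module.finite_of_finite F
  have := Fintype.ofFinite (AdjoinRoot f)
  have hc : Fintype.card (AdjoinRoot f) = Fintype.card F ^ f.natDegree := by
    rw [Module.card_eq_pow_finrank (K := F), (AdjoinRoot.powerBasis hf.ne_zero).finrank,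
      AdjoinRoot.powerBasis_dim]
  rw [← hc]
  exact FiniteField.pow_card_sub_one_eq_one _ hne

end finite

end CfsgLib.Spectrum
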