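/-
Witnesses for element orders in PSL_n(F): Singer, regular unipotent and two-block elements.
-/
import Cfsg.Agent.Lib.Spectrum.LinearElements

set_option autoImplicit false

open Polynomial

namespace CfsgLib.Spectrum

variable {F : Type*} [Field F] [Fintype F]

theorem exists_orderOf_eq_singerExp {n : ℕ} (hn : 1 ≤ n) :
    ∃ g : Matrix.ProjectiveSpecialLinearGroup (Fin n) F,
      orderOf g = singerExp (Fintype.card F) n := by
  obtain ⟨p, hp⟩ := CharP.exists F
  obtain ⟨a, hprime, hcard⟩ := FiniteField.card F p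
  haveI := Fact.mk hprime
  haveI : NeZero n := ⟨by omega⟩
  let K := FiniteField.Extension F p n
  haveI : Fintype K := Fintype.ofFinite K
  set q := Fintype.card F with hqdef
  have hq : 2 ≤ q := Fintype.one_lt_card
  have hK : Fintype.card K = q ^ n := by
    rw [← Nat.card_eq_fintype_card, FiniteField.natCard_extension, Nat.card_eq_fintype_card]
  obtain ⟨γ, hγ⟩ := IsCyclic.exists_ofOrder_eq_natCard (α := Kˣ)
  rw [Nat.card_units, Nat.card_eq_fintype_card, hK, ← sub_one_mul_geomExp (by omega) n] at hγ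
  set x : K := (γ : K) ^ (q - 1) with hx
  have hnorm : Algebra.norm F x = 1 := by
    rw [hx, map_pow]
    exact FiniteField.pow_card_sub_one_eq_one _ (by simp [Algebra.norm_eq_zero_iff])
  obtain ⟨g, hg⟩ := exists_psl_of_algebra (F := F) (FiniteField.finrank_extension F p n) x hnorm
  refine ⟨g, orderOf_eq_of_pow_iff g fun k => ?_⟩
  have key : (∃ c : F, x ^ k = algebraMap F K c) ↔ (γ : K) ^ ((q - 1) * k * (q - 1)) = 1 := by
    rw [hx, ← pow_mul, pow_mul (γ : K) ((q - 1) * k)]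
    have hne : (γ : K) ^ ((q - 1) * k) ≠ 0 := pow_ne_zero _ γ.ne_zero
    constructor
    · rintro ⟨c, hc⟩
      rw [hc, ← map_pow, FiniteField.pow_card_sub_one_eq_one c ?_, map_one]
      rintro rfl
      exact hne (by rw [hc, map_zero])
    · intro h
      obtain ⟨c, hc⟩ := exists_algebraMap_eq_of_pow_card (F := F) ((γ : K) ^ ((q - 1) * k))
        (by
          have : Fintype.card F = (q - 1) + 1 := by omega
          rw [this, pow_succ, h, one_mul])
      exact ⟨c, hc.symm⟩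
  rw [hg k, key, ← Units.val_pow_eq_pow_val, Units.val_eq_one, ← orderOf_dvd_iff_pow_eq_one, hγ,
    mul_assoc, Nat.mul_dvd_mul_iff_left (by omega : 0 < q - 1), singerExp,
    ← gcd_geomExp (by omega : 1 ≤ q) n, Nat.dvd_mul, ]
  constructor
  · rintro ⟨y, z, hy, hz, hyz⟩
    have h1 : geomExp q n ∣ k * Nat.gcd (geomExp q n) (q - 1) := by
      rw [← hyz]
      exact mul_dvd_mul hy (Nat.dvd_gcd (hyz ▸ dvd_mul_left z y) hz)
    exact Nat.div_dvd_iff_dvd_mul (Nat.gcd_dvd_left _ _)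
      (Nat.gcd_pos_of_pos_right _ (by omega)) |>.2 (by rwa [mul_comm])
  · intro h
    refine ⟨geomExp q n / Nat.gcd (geomExp q n) (q - 1), Nat.gcd (geomExp q n) (q - 1), h,
      Nat.gcd_dvd_right _ _, Nat.div_mul_cancel (Nat.gcd_dvd_left _ _)⟩

theorem eq_one_of_pow_char_pow (p : ℕ) [Fact p.Prime] [CharP F p] (c : F) (e : ℕ)
    (h : c ^ (p ^ e) = 1) : c = 1 := by
  have : ExpChar F p := ExpChar.prime Fact.out
  apply iterateFrobenius_inj F p e
  simp [iterateFrobenius_def, h]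

section unipotent

variable (p : ℕ) [Fact p.Prime] [CharP F p]

/-- The unipotent generator `1 + t` of `F[t]/(t^m)`. -/
theorem truncated_one_add_root {m : ℕ} (hm : 1 ≤ m) :
    Module.finrank F (AdjoinRoot (X ^ m : F[X])) = m ∧
    orderOf (1 + AdjoinRoot.root (X ^ m : F[X])) = p ^ Nat.clog p m ∧
    (∃ ev : AdjoinRoot (X ^ m : F[X]) →ₐ[F] F, ev (1 + AdjoinRoot.root (X ^ m : F[X])) = 1) ∧
    Algebra.norm F (1 + AdjoinRoot.root (X ^ m : F[X])) = 1 := by
  have hp : p.Prime := Fact.out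
  have hne : (X ^ m : F[X]) ≠ 0 := pow_ne_zero _ X_ne_zero
  have hfin : Module.finrank F (AdjoinRoot (X ^ m : F[X])) = m := by
    rw [(AdjoinRoot.powerBasis hne).finrank, AdjoinRoot.powerBasis_dim, natDegree_X_pow]
  haveI : Nontrivial (AdjoinRoot (X ^ m : F[X])) :=
    Module.nontrivial_of_finrank_pos (R := F) (by omega)
  haveI : CharP (AdjoinRoot (X ^ m : F[X])) p :=
    charP_of_injective_algebraMap (algebraMap F (AdjoinRoot (X ^ m : F[X]))).injective p
  have hpow : ∀ e, (1 + AdjoinRoot.root (X ^ m : F[X])) ^ (p ^ e) = 1 ↔ m ≤ p ^ e := by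
    intro e
    rw [add_pow_char_pow, one_pow, add_eq_left, ← AdjoinRoot.mk_X, ← map_pow,
      AdjoinRoot.mk_eq_zero, pow_dvd_pow_iff X_ne_zero not_isUnit_X]
  have hE : (1 + AdjoinRoot.root (X ^ m : F[X])) ^ (p ^ Nat.clog p m) = 1 :=
    (hpow _).2 (Nat.le_pow_clog hp.one_lt m)
  refine ⟨hfin, ?_, ?_, ?_⟩
  · obtain ⟨i, hi, hord⟩ := (Nat.dvd_prime_pow hp).1 (orderOf_dvd_of_pow_eq_one hE)
    rw [hord]
    have := (hpow i).1 (hord ▸ pow_orderOf_eq_one _)
    rw [le_antisymm hi (Nat.clog_le_of_le_pow this)]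
  · refine ⟨AdjoinRoot.liftAlgHom (X ^ m : F[X]) (Algebra.ofId F F) 0 ?_, ?_⟩
    · simp [eval₂_X_pow, show m ≠ 0 by omega]
    · simp
  · have h := congrArg (Algebra.norm F) hE
    rw [map_pow, map_one] at h
    exact eq_one_of_pow_char_pow p _ _ h

end unipotent

theorem exists_orderOf_eq_unipotent (p : ℕ) [Fact p.Prime] [CharP F p] {n : ℕ} (hn : 1 ≤ n) :
    ∃ g : Matrix.ProjectiveSpecialLinearGroup (Fin n) F, orderOf g = p ^ Nat.clog p n := by
  obtain ⟨hfin, hord, ⟨ev, hev⟩, hnorm⟩ := truncated_one_add_root (F := F) p hn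
  haveI : Module.Finite F (AdjoinRoot (X ^ n : F[X])) :=
    (AdjoinRoot.powerBasis (pow_ne_zero _ X_ne_zero)).finite
  obtain ⟨g, hg⟩ := exists_psl_of_algebra (F := F) hfin _ hnorm
  refine ⟨g, orderOf_eq_of_pow_iff g fun k => ?_⟩
  rw [hg k, ← hord, orderOf_dvd_iff_pow_eq_one]
  constructor
  · rintro ⟨c, hc⟩
    have := congrArg ev hc
    rw [map_pow, hev, one_pow, AlgHom.commutes] at this
    rw [hc, show c = 1 by simpa using this.symm, map_one]
  · intro h
    exact ⟨1, by rw [h, map_one]⟩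

theorem exists_orderOf_eq_of_prime_dvd_card_sub_one {r : ℕ} (hr : r.Prime)
    (hrq : r ∣ Fintype.card F - 1) : ∃ ζ : Fˣ, orderOf ζ = r := by
  classical
  haveI := Fact.mk hr
  exact exists_prime_orderOf_dvd_card r (by rwa [Fintype.card_units])

theorem exists_orderOf_eq_block (p : ℕ) [Fact p.Prime] [CharP F p] {n r : ℕ} (hn : 2 ≤ n)
    (hr : r.Prime) (hrq : r ∣ Fintype.card F - 1) (hrn : ¬ r ∣ n) :
    ∃ g : Matrix.ProjectiveSpecialLinearGroup (Fin n) F,
      orderOf g = p ^ Nat.clog p (n - 1) * r := by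
  obtain ⟨ζ, hζ⟩ := exists_orderOf_eq_of_prime_dvd_card_sub_one hr hrq
  obtain ⟨hfin, hord, ⟨ev, hev⟩, -⟩ :=
    truncated_one_add_root (F := F) p (show 1 ≤ n - 1 by omega)
  set A := AdjoinRoot (X ^ (n - 1) : F[X])
  set w : A := 1 + AdjoinRoot.root (X ^ (n - 1) : F[X])
  haveI : Module.Finite F A := (AdjoinRoot.powerBasis (pow_ne_zero _ X_ne_zero)).finite
  have hfinB : Module.finrank F (A × F) = n := by
    rw [Module.finrank_prod, hfin, Module.finrank_self]; omega
  have hp : p.Prime := Fact.out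
  let y : A × F := (algebraMap F A (ζ : F), 1)
  have hy : IsUnit y := Prod.isUnit_iff.2 ⟨(ζ.isUnit).map _, isUnit_one⟩
  set c := Algebra.norm F y
  have hc : c ≠ 0 := (hy.map (Algebra.norm F)).ne_zero
  have hu : ((w, 1) : A × F) ^ (p ^ Nat.clog p (n - 1)) = 1 := by
    rw [Prod.pow_mk, one_pow, ← hord, pow_orderOf_eq_one]; rfl
  have hu1 : Algebra.norm F ((w, 1) : A × F) = 1 := by
    have h := congrArg (Algebra.norm F) hu
    rw [map_pow, map_one] at h
    exact eq_one_of_pow_char_pow p _ _ h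
  set x : A × F := algebraMap F (A × F) c⁻¹ * y ^ n * (w, 1)
  have hx : Algebra.norm F x = 1 := by
    rw [map_mul, map_mul, Algebra.norm_algebraMap, hfinB, map_pow, hu1, mul_one, ← mul_pow,
      inv_mul_cancel₀ hc, one_pow]
  obtain ⟨g, hg⟩ := exists_psl_of_algebra (F := F) hfinB x hx
  refine ⟨g, orderOf_eq_of_pow_iff g fun k => ?_⟩
  have hrp : r ≠ p := by
    rintro rfl
    obtain ⟨a, -, hcard⟩ := FiniteField.card F r
    have h1 : r ∣ Fintype.card F := hcard ▸ dvd_pow_self r a.ne_zero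
    exact hr.ne_one (Nat.dvd_one.1 (by
      have := Nat.dvd_sub h1 hrq
      rwa [Nat.sub_sub_self Fintype.card_pos] at this))
  have hcop : Nat.Coprime (p ^ Nat.clog p (n - 1)) r :=
    Nat.Coprime.pow_left _ ((Nat.coprime_primes hp hr).2 (Ne.symm hrp))
  have hxk : x ^ k = (algebraMap F A (c⁻¹ ^ k * (ζ : F) ^ (n * k)) * w ^ k, c⁻¹ ^ k) := by
    ext
    · simp only [x, y, Prod.fst_mul, Prod.pow_fst, Prod.algebraMap_apply, mul_pow, ← map_pow,
        map_mul, ← pow_mul]
    · simp [x, y, mul_pow]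
  rw [hg k, hxk]
  constructor
  · rintro ⟨s, hs⟩
    rw [Prod.ext_iff] at hs
    obtain ⟨hs1, hs2⟩ := hs
    have hs2' : c⁻¹ ^ k = s := by simpa using hs2
    replace hs1 : algebraMap F A (c⁻¹ ^ k * (ζ : F) ^ (n * k)) * w ^ k = algebraMap F A s := hs1
    have he := congrArg ev hs1
    rw [map_mul, map_pow, hev, one_pow, mul_one, AlgHom.commutes, AlgHom.commutes] at he
    have hz : (ζ : F) ^ (n * k) = 1 := by
      have he' : c⁻¹ ^ k * (ζ : F) ^ (n * k) = c⁻¹ ^ k * 1 :=
        ((by simpa using he : c⁻¹ ^ k * (ζ : F) ^ (n * k) = s)).trans (by rw [mul_one, hs2'])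
      exact mul_left_cancel₀ (pow_ne_zero _ (inv_ne_zero hc)) he'
    have hrk : r ∣ k := by
      refine (hr.dvd_mul.1 ?_).resolve_left hrn
      rw [← hζ, orderOf_dvd_iff_pow_eq_one]
      exact Units.ext (by simpa using hz)
    rw [hz, mul_one, ← hs2'] at hs1
    have hw : w ^ k = 1 :=
      ((inv_ne_zero hc |> pow_ne_zero k).isUnit.map (algebraMap F A)).mul_left_cancel
        (by rw [mul_one]; exact hs1)
    exact hcop.mul_dvd_of_dvd_of_dvd (hord ▸ orderOf_dvd_of_pow_eq_one hw) hrk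
  · intro hk
    refine ⟨c⁻¹ ^ k, ?_⟩
    have h1 : w ^ k = 1 := orderOf_dvd_iff_pow_eq_one.1 (hord ▸ (dvd_mul_right _ _).trans hk)
    have h2 : (ζ : F) ^ (n * k) = 1 := by
      have h : ζ ^ (n * k) = 1 :=
        orderOf_dvd_iff_pow_eq_one.1 (hζ ▸ ((dvd_mul_left _ _).trans hk).mul_left n)
      simpa using congrArg Units.val h
    rw [h1, h2]
    ext <;> simp

end CfsgLib.Spectrum
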