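/-
Upper bounds for element orders in PSL_n(F).
-/
import Cfsg.Agent.Lib.Spectrum.LinearConstructions

set_option autoImplicit false

open Polynomial

namespace CfsgLib.Spectrum

variable {F : Type*} [Field F] [Fintype F]

theorem coe_pow_eq_one_of_forall_dvd (p : ℕ) [Fact p.Prime] [CharP F p] {n : ℕ} [NeZero n]
    (g : Matrix.SpecialLinearGroup (Fin n) F) (L : ℕ)
    (hL : ∀ d, 1 ≤ d → d ≤ n → Fintype.card F ^ d - 1 ∣ L) :
    (g : Matrix (Fin n) (Fin n) F) ^ (L * p ^ Nat.clog p n) = 1 := by
  set M := (g : Matrix (Fin n) (Fin n) F)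
  have : CharP (Matrix (Fin n) (Fin n) F) p :=
    charP_of_injective_algebraMap (algebraMap F (Matrix (Fin n) (Fin n) F)).injective p
  have hm0 : minpoly F M ≠ 0 := minpoly.ne_zero (Matrix.isIntegral _)
  obtain ⟨k, hk⟩ := exists_dvd_pow_of_forall_irreducible (P := X ^ L - 1) hm0 (fun h hh hd => by
    haveI := Fact.mk hh
    obtain ⟨h1, h2, -, h4⟩ := root_pow_eq_one g h hd
    rw [← AdjoinRoot.mk_eq_zero, map_sub, map_pow, map_one, AdjoinRoot.mk_X,
      orderOf_dvd_iff_pow_eq_one.1 ((orderOf_dvd_of_pow_eq_one h4).trans (hL _ h2 h1)), sub_self])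
  have h0 : (M ^ L - 1) ^ k = 0 := by
    obtain ⟨s, hs⟩ := hk
    have := congrArg (aeval M) hs
    simpa using this
  have h1 := pow_eq_zero_of_isNilpotent_matrix (M ^ L - 1) ⟨k, h0⟩
    (Nat.le_pow_clog (Fact.out : p.Prime).one_lt n)
  rwa [sub_pow_char_pow_of_commute _ _ (Commute.one_right _), one_pow, sub_eq_zero, ← pow_mul] at h1

/-- Either the centralizer of `g` in `PSL_n(q)` has an element of order `r`, or the order of the
image of `g` divides `p^clog * singerExp`. -/
theorem exists_commute_orderOf_or_pow_eq_one (p : ℕ) [Fact p.Prime] [CharP F p] {n r : ℕ}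
    (hn : 2 ≤ n) (hr : r.Prime) (hrq : r ∣ Fintype.card F - 1) (hrn : ¬ r ∣ n)
    (g : Matrix.SpecialLinearGroup (Fin n) F) :
    (∃ y : Matrix.ProjectiveSpecialLinearGroup (Fin n) F,
        Commute (QuotientGroup.mk g) y ∧ orderOf y = r) ∨
      (QuotientGroup.mk g : Matrix.ProjectiveSpecialLinearGroup (Fin n) F) ^
          (p ^ Nat.clog p n * singerExp (Fintype.card F) n) = 1 := by
  haveI : NeZero n := ⟨by omega⟩
  haveI : Fact r.Prime := ⟨hr⟩
  haveI : CharP (Matrix (Fin n) (Fin n) F) p :=
    charP_of_injective_algebraMap (algebraMap F (Matrix (Fin n) (Fin n) F)).injective p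
  have hpp : p.Prime := Fact.out
  set M := (g : Matrix (Fin n) (Fin n) F) with hM
  set m := minpoly F M with hm
  have hMint : IsIntegral F M := Matrix.isIntegral _
  have hmm : m.Monic := minpoly.monic hMint
  have hmu : ¬ IsUnit m := minpoly.not_isUnit F M
  obtain ⟨f, hfm, hfi, hfd⟩ := exists_monic_irreducible_factor m hmu
  by_cases hall : ∀ h : F[X], Irreducible h → h ∣ m → f ∣ h
  · -- one primary component
    right
    obtain ⟨e, he⟩ := exists_eq_pow_of_forall_irreducible_dvd hfm hfi hmm hall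
    obtain ⟨μ, hμ⟩ := exists_eq_pow_of_forall_irreducible_dvd hfm hfi (Matrix.charpoly_monic M)
      (fun h hh hd => hall h hh
        (hh.prime.dvd_of_dvd_pow (hd.trans (charpoly_dvd_minpoly_pow M))))
    haveI := Fact.mk hfi
    obtain ⟨hdn, hd1, hα0, hαd⟩ := root_pow_eq_one g f hfd
    set d := f.natDegree
    set α := AdjoinRoot.root f
    set q := Fintype.card F
    have hq : 2 ≤ q := Fintype.one_lt_card
    have hnd : n = μ * d := by
      have := congrArg natDegree hμ
      rwa [Matrix.charpoly_natDegree_eq_dim, natDegree_pow, Fintype.card_fin] at this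
    have hfin : Module.finrank F (AdjoinRoot f) = d := by
      rw [(AdjoinRoot.powerBasis hfi.ne_zero).finrank, AdjoinRoot.powerBasis_dim]
    haveI : Module.Finite F (AdjoinRoot f) := (AdjoinRoot.powerBasis hfi.ne_zero).finite
    haveI : Finite (AdjoinRoot f) := Module.finite_of_finite F
    have hN : Algebra.norm F α = (-1) ^ d * f.coeff 0 := by
      have := Algebra.PowerBasis.norm_gen_eq_coeff_zero_minpoly
        (AdjoinRoot.powerBasis hfi.ne_zero)
      rwa [AdjoinRoot.powerBasis_gen, AdjoinRoot.powerBasis_dim, AdjoinRoot.minpoly_root hfi.ne_zero,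
        hfm.leadingCoeff, inv_one, C_1, mul_one] at this
    have hdet : (Algebra.norm F α) ^ μ = 1 := by
      have h := Matrix.det_eq_sign_charpoly_coeff M
      rw [hM, g.2, ← hM, hμ, Fintype.card_fin] at h
      rw [coeff_zero_eq_eval_zero, eval_pow, ← coeff_zero_eq_eval_zero] at h
      rw [hN, mul_pow, ← pow_mul, mul_comm d μ, ← hnd]
      exact h.symm
    have hα1 : α ^ (geomExp q d * μ) = 1 := by
      have h := congrArg (algebraMap F (AdjoinRoot f)) hdet
      rw [map_pow, FiniteField.algebraMap_norm_eq_pow_sum, hfin, Nat.card_eq_fintype_card,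
        map_one, ← pow_mul] at h
      exact h
    have hα2 : α ^ (geomExp q d * (q - 1)) = 1 := by
      rw [mul_comm, sub_one_mul_geomExp (by omega)]; exact hαd
    have hord : orderOf α ∣ geomExp q d * Nat.gcd μ (q - 1) := by
      rw [← Nat.gcd_mul_left]
      exact Nat.dvd_gcd (orderOf_dvd_of_pow_eq_one hα1) (orderOf_dvd_of_pow_eq_one hα2)
    have hqd : 1 ≤ q ^ d := Nat.one_le_pow _ _ (by omega)
    have hS : geomExp q n = geomExp q d * geomExp (q ^ d) μ := by
      apply Nat.eq_of_mul_eq_mul_left (by omega : 0 < q - 1)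
      rw [sub_one_mul_geomExp (by omega), ← mul_assoc, sub_one_mul_geomExp (by omega),
        sub_one_mul_geomExp hqd, ← pow_mul, hnd, mul_comm d μ]
    have haS : Nat.gcd μ (q - 1) ∣ geomExp (q ^ d) μ := by
      have h1 : Nat.gcd μ (q - 1) ∣ Nat.gcd μ (q ^ d - 1) :=
        Nat.dvd_gcd (Nat.gcd_dvd_left _ _)
          ((Nat.gcd_dvd_right _ _).trans ⟨geomExp q d, (sub_one_mul_geomExp (by omega) d).symm⟩)
      rw [← gcd_geomExp hqd μ] at h1
      exact h1.trans (Nat.gcd_dvd_left _ _)
    have hord' : orderOf α ∣ singerExp q n * (q - 1) := by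
      refine hord.trans ?_
      have hb : 0 < Nat.gcd n (q - 1) := Nat.gcd_pos_of_pos_left _ (by omega)
      have hbn : Nat.gcd n (q - 1) ∣ geomExp q n := by
        rw [← gcd_geomExp (by omega : 1 ≤ q) n]; exact Nat.gcd_dvd_left _ _
      apply Nat.dvd_of_mul_dvd_mul_right hb
      rw [singerExp, mul_right_comm (geomExp q n / Nat.gcd n (q - 1)), Nat.div_mul_cancel hbn, hS,
        mul_assoc, mul_assoc]
      exact mul_dvd_mul_left _ (mul_dvd_mul haS (Nat.gcd_dvd_right _ _))
    set A := singerExp q n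
    obtain ⟨c, hc⟩ := exists_algebraMap_eq_of_pow_card (F := F) (α ^ A) (by
      rw [show Fintype.card F = (q - 1) + 1 by omega, pow_succ, ← pow_mul,
        orderOf_dvd_iff_pow_eq_one.1 hord', one_mul])
    have hdvd : f ∣ X ^ A - C c := by
      rw [← AdjoinRoot.mk_eq_zero, map_sub, map_pow, AdjoinRoot.mk_X, AdjoinRoot.mk_C,
        ← AdjoinRoot.algebraMap_eq, hc, sub_self]
    have hnil : (M ^ A - algebraMap F _ c) ^ e = 0 := by
      obtain ⟨s, hs⟩ := (he ▸ pow_dvd_pow_of_dvd hdvd e : m ∣ (X ^ A - C c) ^ e)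
      have := congrArg (aeval M) hs
      rw [map_mul, hm, minpoly.aeval, zero_mul] at this
      simpa using this
    have h1 := pow_eq_zero_of_isNilpotent_matrix (M ^ A - algebraMap F _ c) ⟨e, hnil⟩
      (Nat.le_pow_clog hpp.one_lt n)
    rw [sub_pow_char_pow_of_commute _ _ (Algebra.commute_algebraMap_right _ _), sub_eq_zero,
      ← pow_mul, ← map_pow] at h1
    rw [pslMk_pow_eq_one_iff, mul_comm]
    exact ⟨_, h1⟩
  · -- two coprime components
    left
    push Not at hall
    obtain ⟨h, hh, hhm, hhf⟩ := hall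
    obtain ⟨e, b, hb, hmb⟩ := WfDvdMonoid.max_power_factor hmm.ne_zero hfi
    have hbu : ¬ IsUnit b := fun hu =>
      hhf (hh.dvd_symm hfi (hh.prime.dvd_of_dvd_pow
        ((hu.dvd_mul_right).1 (hmb ▸ hhm : h ∣ f ^ e * b))))
    obtain ⟨u, v, huv⟩ := ((hfi.coprime_iff_not_dvd.2 hb).pow_left (m := e))
    set E := aeval M (u * f ^ e) with hE
    have hm0 : aeval M (f ^ e * b) = 0 := by rw [← hmb]; exact minpoly.aeval F M
    have hvb : aeval M (v * b) = 1 - E := by
      rw [eq_sub_iff_add_eq, add_comm, hE, ← map_add, huv, map_one]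
    have hEE : E * E = E := by
      have : E * (1 - E) = 0 := by
        rw [← hvb, hE, ← map_mul, show u * f ^ e * (v * b) = u * v * (f ^ e * b) by ring, map_mul,
          hm0, mul_zero]
      rw [mul_sub, mul_one, sub_eq_zero] at this
      exact this.symm
    have hE0 : E ≠ 0 := by
      intro h0
      rw [h0, sub_zero] at hvb
      have : aeval M (f ^ e) = 0 := by
        calc aeval M (f ^ e) = aeval M (v * b) * aeval M (f ^ e) := by rw [hvb, one_mul]
          _ = 0 := by
            rw [← map_mul, show v * b * f ^ e = v * (f ^ e * b) by ring, map_mul, hm0, mul_zero]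
      have h2 : f ^ e * b ∣ f ^ e * 1 := by rw [mul_one, ← hmb]; exact minpoly.dvd F M this
      exact hbu (isUnit_of_dvd_one ((mul_dvd_mul_iff_left (pow_ne_zero _ hfi.ne_zero)).1 h2))
    have hE1 : (1 : Matrix (Fin n) (Fin n) F) - E ≠ 0 := by
      intro h0
      have : aeval M b = 0 := by
        calc aeval M b = E * aeval M b := by rw [← sub_eq_zero.1 h0, one_mul]
          _ = 0 := by
            rw [hE, ← map_mul, show u * f ^ e * b = u * (f ^ e * b) by ring, map_mul, hm0, mul_zero]
      exact hb (hfd.trans (minpoly.dvd F M this))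
    have hE1E : (1 - E) * E = 0 := by rw [sub_mul, one_mul, hEE, sub_self]
    have hEE1 : E * (1 - E) = 0 := by rw [mul_sub, mul_one, hEE, sub_self]
    have h11 : (1 - E) * (1 - E) = 1 - E := by rw [mul_sub, mul_one, hE1E, sub_zero]
    obtain ⟨ζ, hζ⟩ := exists_orderOf_eq_of_prime_dvd_card_sub_one hr hrq
    set Y := (ζ : F) • E + (1 - E) with hY
    have hYk : ∀ k, Y ^ k = (ζ : F) ^ k • E + (1 - E) := by
      intro k
      induction k with
      | zero => simp
      | succ k ih =>
        rw [pow_succ, ih, hY]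
        simp only [mul_add, add_mul, smul_mul_assoc, mul_smul_comm, hEE, hE1E, hEE1, h11, smul_zero,
          add_zero, zero_add, smul_smul, ← pow_succ']
    have hζr : (ζ : F) ^ r = 1 := by
      rw [← Units.val_pow_eq_pow_val, ← hζ, pow_orderOf_eq_one, Units.val_one]
    have hYr : Y ^ r = 1 := by rw [hYk, hζr, one_smul, add_sub_cancel]
    set c := Y.det
    have hc : c ≠ 0 := by
      intro h0
      have := congrArg Matrix.det hYr
      rw [Matrix.det_pow, Matrix.det_one] at this
      rw [show Y.det = 0 from h0, zero_pow hr.ne_zero] at this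
      exact zero_ne_one this
    let y0 : Matrix.SpecialLinearGroup (Fin n) F :=
      ⟨c⁻¹ • Y ^ n, by
        rw [Matrix.det_smul, Matrix.det_pow, Fintype.card_fin, ← mul_pow, inv_mul_cancel₀ hc,
          one_pow]⟩
    refine ⟨QuotientGroup.mk y0, ?_, orderOf_eq_prime ?_ ?_⟩
    · have hcomm : Commute g y0 := by
        apply Subtype.ext
        show M * (c⁻¹ • Y ^ n) = (c⁻¹ • Y ^ n) * M
        have h1 : Commute M E := by
          have := (Commute.all X (u * f ^ e)).map (aeval (R := F) M)
          rwa [aeval_X] at this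
        exact (((h1.smul_right _).add_right ((Commute.one_right M).sub_right h1)).pow_right n
          |>.smul_right _).eq
      exact hcomm.map (QuotientGroup.mk' _)
    · rw [pslMk_pow_eq_one_iff]
      refine ⟨c⁻¹ ^ r, ?_⟩
      show (c⁻¹ • Y ^ n) ^ r = _
      rw [smul_pow, ← pow_mul, mul_comm n r, pow_mul, hYr, one_pow, ← Algebra.algebraMap_eq_smul_one]
      rfl
    · intro h1
      rw [← pow_one (QuotientGroup.mk y0 : Matrix.ProjectiveSpecialLinearGroup (Fin n) F),
        pslMk_pow_eq_one_iff] at h1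
      obtain ⟨s, hs⟩ := h1
      have hs' : c⁻¹ • Y ^ n = s • (1 : Matrix (Fin n) (Fin n) F) := by
        rw [← Algebra.algebraMap_eq_smul_one]; simpa [y0] using! hs
      rw [hYk] at hs'
      have hA := congrArg (· * E) hs'
      simp only [add_mul, smul_mul_assoc, hEE, hE1E, one_mul, add_zero, smul_smul] at hA
      have hB := congrArg (· * (1 - E)) hs'
      simp only [add_mul, smul_mul_assoc, hEE1, h11, one_mul, smul_zero, zero_add] at hB
      have hA' := smul_left_injective F hE0 hA
      have hB' := smul_left_injective F hE1 hB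
      have hz : ζ ^ n = 1 := by
        apply Units.ext
        rw [Units.val_pow_eq_pow_val, Units.val_one]
        exact mul_left_cancel₀ (inv_ne_zero hc) (by rw [mul_one, hA', hB'])
      exact hrn (hζ ▸ orderOf_dvd_of_pow_eq_one hz)

end CfsgLib.Spectrum
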