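/-
Matrices whose adjoint is their inverse, for a transpose-like semilinear anti-involution: either a
nontrivial self-adjoint idempotent commutes with the matrix, or the characteristic polynomial is a
power of one orbit of irreducible factors under `α ↦ α⁻ᵉ`.
-/
import Cfsg.Agent.Lib.Spectrum.LinearBound
import Mathlib.Algebra.Polynomial.Reverse

set_option autoImplicit false

open Polynomial

namespace CfsgLib.Spectrum

variable {F : Type*} [Field F]

theorem exists_coprime_mul_dvd_pow {h m : F[X]} (hm : m ≠ 0) :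
    ∃ N b, m ∣ h ^ N * b ∧ b ∣ m ∧ (∀ g, Irreducible g → g ∣ b → ¬ g ∣ h) ∧
      (∀ g, Irreducible g → g ∣ m → ¬ g ∣ h → g ∣ b) := by
  induction m using UniqueFactorizationMonoid.induction_on_prime with
  | h₁ => exact absurd rfl hm
  | h₂ u hu =>
    refine ⟨0, 1, by simpa using hu.dvd, one_dvd _, fun g hg hd => absurd (isUnit_of_dvd_one hd) hg.1, ?_⟩
    exact fun g hg hd _ => absurd (isUnit_of_dvd_unit hd hu) hg.1
  | h₃ a g ha hg ih =>
    obtain ⟨N, b, h1, h2, h3, h4⟩ := ih ha
    by_cases hgh : g ∣ h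
    · refine ⟨N + 1, b, ?_, h2.mul_left g, h3, fun g' hg' hd hn => ?_⟩
      · rw [pow_succ', mul_assoc]
        exact mul_dvd_mul hgh h1
      · rcases hg'.prime.dvd_or_dvd hd with hd' | hd'
        · exact absurd ((hg'.associated_of_dvd hg.irreducible hd').dvd.trans hgh) hn
        · exact h4 g' hg' hd' hn
    · refine ⟨N, g * b, ?_, mul_dvd_mul_left g h2, fun g' hg' hd => ?_, fun g' hg' hd hn => ?_⟩
      · rw [mul_left_comm]
        exact mul_dvd_mul_left g h1
      · rcases hg'.prime.dvd_or_dvd hd with hd' | hd'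
        · exact fun hh => hgh ((hg'.associated_of_dvd hg.irreducible hd').symm.dvd.trans hh)
        · exact h3 g' hg' hd'
      · rcases hg'.prime.dvd_or_dvd hd with hd' | hd'
        · exact hd'.mul_right b
        · exact (h4 g' hg' hd' hn).mul_left g

section

variable (p l : ℕ) [Fact p.Prime] [CharP F p] {ι : Type*} [Fintype ι] [DecidableEq ι]

/-- The properties of a `σ`-semilinear adjoint map, `σ x = x ^ (p ^ l)`. -/
structure IsTwist (τ : Matrix ι ι F → Matrix ι ι F) : Prop where
  τ_mul : ∀ A B, τ (A * B) = τ B * τ A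
  τ_add : ∀ A B, τ (A + B) = τ A + τ B
  τ_one : τ 1 = 1
  τ_smul : ∀ (c : F) A, τ (c • A) = c ^ (p ^ l) • τ A
  invol : ∀ A, τ (τ A) = A
  τ_charpoly : ∀ A, (τ A).charpoly = A.charpoly.map (iterateFrobenius F p l)

variable {p l} {τ : Matrix ι ι F → Matrix ι ι F}

theorem IsTwist.τ_pow (hτ : IsTwist p l τ) (A : Matrix ι ι F) (n : ℕ) : τ (A ^ n) = τ A ^ n := by
  induction n with
  | zero => simpa using hτ.τ_one
  | succ n ih => rw [pow_succ, hτ.τ_mul, ih, pow_succ']

theorem IsTwist.τ_aeval (hτ : IsTwist p l τ) (A : Matrix ι ι F) (P : F[X]) :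
    τ (aeval A P) = aeval (τ A) (P.map (iterateFrobenius F p l)) := by
  induction P using Polynomial.induction_on' with
  | add P Q hP hQ => simp [hτ.τ_add, hP, hQ, Polynomial.map_add]
  | monomial n c =>
    rw [Polynomial.map_monomial, aeval_monomial, aeval_monomial, ← Algebra.smul_def,
      ← Algebra.smul_def, hτ.τ_smul, hτ.τ_pow, iterateFrobenius_def]

theorem IsTwist.exists_selfAdjoint_idempotent (hτ : IsTwist p l τ) {M : Matrix ι ι F} {k : ℕ}
    (hk : τ M = M ^ k) {h f g : F[X]} (hstab : h ∣ (h.map (iterateFrobenius F p l)).comp (X ^ k))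
    (hf : Irreducible f) (hfm : f ∣ minpoly F M) (hfh : f ∣ h)
    (hg : Irreducible g) (hgm : g ∣ minpoly F M) (hgh : ¬ g ∣ h) :
    ∃ E : Matrix ι ι F, Commute M E ∧ E * E = E ∧ E ≠ 0 ∧ 1 - E ≠ 0 ∧ τ E = E := by
  set m := minpoly F M with hm
  have hm0 : m ≠ 0 := minpoly.ne_zero (Matrix.isIntegral M)
  obtain ⟨N, b, h1, h2, h3, h4⟩ := exists_coprime_mul_dvd_pow (h := h) hm0
  have hbu : ¬ IsUnit b := fun hu => hg.1 (isUnit_of_dvd_unit (h4 g hg hgm hgh) hu)
  have hfb : ¬ f ∣ b := fun hd => h3 f hf hd hfh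
  have hcop : IsCoprime (h ^ N) b := by
    refine IsCoprime.pow_left ?_
    refine isCoprime_of_irreducible_dvd (fun h0 => ?_) fun z hz hzh hzb => h3 z hz hzb hzh
    exact hm0 (zero_dvd_iff.1 (h0.2 ▸ h2))
  obtain ⟨u, v, huv⟩ := hcop
  set E := aeval M (u * h ^ N) with hE
  have hzero : aeval M (h ^ N * b) = 0 := by
    obtain ⟨s, hs⟩ := h1
    rw [hs, map_mul, hm, minpoly.aeval, zero_mul]
  have hvb : aeval M (v * b) = 1 - E := by
    rw [eq_sub_iff_add_eq, add_comm, hE, ← map_add, huv, _root_.map_one]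
  have hE1 : E * (1 - E) = 0 := by
    rw [← hvb, hE, ← _root_.map_mul, show u * h ^ N * (v * b) = u * v * (h ^ N * b) by ring,
      _root_.map_mul, hzero, mul_zero]
  have hEE : E * E = E := by
    rw [mul_sub, mul_one, sub_eq_zero] at hE1
    exact hE1.symm
  have hτE : τ E * (1 - E) = 0 := by
    obtain ⟨s, hs⟩ := pow_dvd_pow_of_dvd hstab N
    rw [hE, hτ.τ_aeval, hk, ← aeval_X_pow (R := F) M, ← aeval_comp, Polynomial.map_mul,
      Polynomial.map_pow, mul_comp, pow_comp, hs, ← hE, ← hvb, ← _root_.map_mul,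
      show (u.map (iterateFrobenius F p l)).comp (X ^ k) * (h ^ N * s) * (v * b) =
        ((u.map (iterateFrobenius F p l)).comp (X ^ k) * s * v) * (h ^ N * b) by ring,
      _root_.map_mul, hzero, mul_zero]
  have hcomm : Commute M E := by
    have := (Commute.all X (u * h ^ N)).map (aeval (R := F) M)
    rwa [aeval_X] at this
  refine ⟨E, hcomm, hEE, ?_, ?_, ?_⟩
  · intro h0
    rw [h0, sub_zero] at hvb
    have : aeval M (h ^ N) = 0 := by
      calc aeval M (h ^ N) = aeval M (v * b) * aeval M (h ^ N) := by rw [hvb, one_mul]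
        _ = 0 := by
          rw [← _root_.map_mul, show v * b * h ^ N = v * (h ^ N * b) by ring, _root_.map_mul, hzero,
            mul_zero]
    exact hgh (hg.prime.dvd_of_dvd_pow (hgm.trans (minpoly.dvd F M this)))
  · intro h0
    have : aeval M b = 0 := by
      calc aeval M b = E * aeval M b := by rw [← sub_eq_zero.1 h0, one_mul]
        _ = 0 := by
          rw [hE, ← _root_.map_mul, show u * h ^ N * b = u * (h ^ N * b) by ring, _root_.map_mul,
            hzero, mul_zero]
    exact hfb (hfm.trans (minpoly.dvd F M this))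
  · have hsub : τ (1 - E) = 1 - τ E := by
      have h1 := hτ.τ_add (1 - E) E
      rw [sub_add_cancel, hτ.τ_one] at h1
      exact eq_sub_of_add_eq h1.symm
    have hτ0 : τ (0 : Matrix ι ι F) = 0 := by simpa using hτ.τ_add 0 0
    have h5 := congrArg τ hτE
    rw [hτ.τ_mul, hτ.invol, hsub, hτ0] at h5
    rw [sub_mul, one_mul, sub_eq_zero] at h5
    rw [mul_sub, mul_one, sub_eq_zero] at hτE
    exact hτE.trans h5.symm

end

section roots

variable (p l : ℕ) [Fact p.Prime] [CharP F p]

theorem aeval_pow_map_frobenius {K : Type*} [Field K] [Algebra F K] (z : K) (P : F[X]) :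
    aeval (z ^ (p ^ l)) (P.map (iterateFrobenius F p l)) = (aeval z P) ^ (p ^ l) := by
  haveI : CharP K p := charP_of_injective_algebraMap (algebraMap F K).injective p
  haveI : ExpChar K p := ExpChar.prime Fact.out
  induction P using Polynomial.induction_on' with
  | add P Q hP hQ => rw [Polynomial.map_add, map_add, map_add, hP, hQ, add_pow_char_pow]
  | monomial n c =>
    simp [iterateFrobenius_def, map_pow, mul_pow, ← pow_mul, mul_comm]

theorem map_map_frobenius (he : ∀ x : F, x ^ (p ^ l * p ^ l) = x) (P : F[X]) :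
    (P.map (iterateFrobenius F p l)).map (iterateFrobenius F p l) = P := by
  have : (iterateFrobenius F p l).comp (iterateFrobenius F p l) = RingHom.id F := by
    ext x
    simp [iterateFrobenius_def, ← pow_mul, he]
  rw [Polynomial.map_map, this, Polynomial.map_id]

variable {p l} [Fintype F]

theorem root_eq_pow_card {f : F[X]} [Fact (Irreducible f)] {β : AdjoinRoot f}
    (hβ : aeval β f = 0) :
    ∃ j < f.natDegree, β = AdjoinRoot.root f ^ (Fintype.card F ^ j) := by
  have hf : Irreducible f := Fact.out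
  haveI : Module.Finite F (AdjoinRoot f) := (AdjoinRoot.powerBasis hf.ne_zero).finite
  haveI : Finite (AdjoinRoot f) := Module.finite_of_finite F
  obtain ⟨j, hj⟩ := (FiniteField.bijective_frobeniusAlgHom_pow F (AdjoinRoot f)).2
    (AdjoinRoot.liftAlgHom f (Algebra.ofId F (AdjoinRoot f)) β hβ)
  refine ⟨j, ?_, ?_⟩
  · have := j.2
    exact this.trans_le (le_of_eq (by rw [(AdjoinRoot.powerBasis hf.ne_zero).finrank, AdjoinRoot.powerBasis_dim]))
  · have := congrArg (fun φ : AdjoinRoot f →ₐ[F] AdjoinRoot f => φ (AdjoinRoot.root f)) hj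
    have hr : AdjoinRoot.liftAlgHom f (Algebra.ofId F (AdjoinRoot f)) β hβ (AdjoinRoot.root f) = β :=
      AdjoinRoot.liftAlgHom_root f _ _ hβ
    simp only at this
    rw [← hr, ← this, AlgHom.coe_pow, FiniteField.coe_frobeniusAlgHom, pow_iterate]

theorem dvd_of_root_pow_card_eq {f : F[X]} [Fact (Irreducible f)] {j : ℕ}
    (h : AdjoinRoot.root f ^ (Fintype.card F ^ j) = AdjoinRoot.root f) : f.natDegree ∣ j := by
  have hf : Irreducible f := Fact.out
  haveI : Module.Finite F (AdjoinRoot f) := (AdjoinRoot.powerBasis hf.ne_zero).finite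
  haveI : Finite (AdjoinRoot f) := Module.finite_of_finite F
  have h1 : FiniteField.frobeniusAlgHom F (AdjoinRoot f) ^ j = 1 := by
    apply AdjoinRoot.algHom_ext
    rw [AlgHom.coe_pow, FiniteField.coe_frobeniusAlgHom, pow_iterate]
    exact h
  have h2 := orderOf_dvd_of_pow_eq_one h1
  rwa [FiniteField.orderOf_frobeniusAlgHom, (AdjoinRoot.powerBasis hf.ne_zero).finrank,
    AdjoinRoot.powerBasis_dim] at h2

variable (p l)

/-- The polynomial with roots `α ↦ α⁻ᵉ` applied to the roots of the irreducible `f`. -/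
noncomputable def conjFactor (f : F[X]) [Fact (Irreducible f)] : F[X] :=
  minpoly F (((AdjoinRoot.root f)⁻¹) ^ (p ^ l))

theorem conjFactor_spec (he : ∀ x : F, x ^ (p ^ l * p ^ l) = x) (f : F[X]) [Fact (Irreducible f)]
    (hfm : f.Monic) {w : ℕ} (hw : 1 ≤ w) (hα : AdjoinRoot.root f ^ w = 1) :
    (conjFactor p l f).Monic ∧ Irreducible (conjFactor p l f) ∧
    (conjFactor p l f).natDegree = f.natDegree ∧
    aeval ((AdjoinRoot.root f)⁻¹ ^ (p ^ l)) (conjFactor p l f) = 0 ∧
    f ∣ ((conjFactor p l f).map (iterateFrobenius F p l)).comp (X ^ (w - 1)) ∧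
    conjFactor p l f ∣ (f.map (iterateFrobenius F p l)).comp (X ^ (w - 1)) ∧
    Associated (f.reverse.map (iterateFrobenius F p l)) (conjFactor p l f) ∧
    Associated ((conjFactor p l f).reverse.map (iterateFrobenius F p l)) f ∧
    Algebra.norm F ((AdjoinRoot.root f)⁻¹ ^ (p ^ l)) =
      (-1) ^ f.natDegree * (conjFactor p l f).coeff 0 := by
  have hf : Irreducible f := Fact.out
  haveI : Module.Finite F (AdjoinRoot f) := (AdjoinRoot.powerBasis hf.ne_zero).finite
  haveI : Finite (AdjoinRoot f) := Module.finite_of_finite F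
  haveI : CharP (AdjoinRoot f) p := charP_of_injective_algebraMap (algebraMap F _).injective p
  haveI : ExpChar (AdjoinRoot f) p := ExpChar.prime Fact.out
  have hd : Module.finrank F (AdjoinRoot f) = f.natDegree := by
    rw [(AdjoinRoot.powerBasis hf.ne_zero).finrank, AdjoinRoot.powerBasis_dim]
  set α := AdjoinRoot.root f with hαdef
  set e := p ^ l with hedef
  set β := α⁻¹ ^ e with hβ
  set σ := iterateFrobenius F p l with hσ
  set f' := conjFactor p l f with hf'
  have hroot : aeval α f = 0 := AdjoinRoot.aeval_eq f ▸ AdjoinRoot.mk_self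
  have hα0 : α ≠ 0 := by
    intro h0; rw [h0, zero_pow (by omega)] at hα; exact zero_ne_one hα
  have hint : IsIntegral F β := IsIntegral.of_finite F β
  have hf'm : f'.Monic := minpoly.monic hint
  have hf'i : Irreducible f' := minpoly.irreducible hint
  have hroot' : aeval β f' = 0 := minpoly.aeval F β
  have hsurj : ∀ z : AdjoinRoot f, ∃ y, y ^ e = z := fun z => by
    obtain ⟨y, hy⟩ := Finite.injective_iff_surjective.1 (iterateFrobenius_inj (AdjoinRoot f) p l) z
    exact ⟨y, by rw [← hy, iterateFrobenius_def]⟩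
  have hdeg : f'.natDegree = f.natDegree := by
    haveI := Fact.mk hf'i
    have hinj : Function.Injective (AdjoinRoot.liftAlgHom f' (Algebra.ofId F (AdjoinRoot f)) β hroot') :=
      RingHom.injective (AdjoinRoot.liftAlgHom f' (Algebra.ofId F (AdjoinRoot f)) β hroot').toRingHom
    haveI : Module.Finite F (AdjoinRoot f') := (AdjoinRoot.powerBasis hf'i.ne_zero).finite
    haveI : Finite (AdjoinRoot f') := Module.finite_of_finite F
    set φ := AdjoinRoot.liftAlgHom f' (Algebra.ofId F (AdjoinRoot f)) β hroot'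
    have hφs : Function.Surjective φ := by
      rw [← AlgHom.range_eq_top, ← top_le_iff, ← AdjoinRoot.adjoinRoot_eq_top, Algebra.adjoin_le_iff,
        Set.singleton_subset_iff]
      have hβr : β ∈ φ.range := ⟨AdjoinRoot.root f', AdjoinRoot.liftAlgHom_root ..⟩
      have hβ' : α⁻¹ ∈ φ.range := by
        obtain ⟨s, hs⟩ := hβr
        haveI : CharP (AdjoinRoot f') p :=
          charP_of_injective_algebraMap (algebraMap F (AdjoinRoot f')).injective p
        haveI : ExpChar (AdjoinRoot f') p := ExpChar.prime Fact.out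
        obtain ⟨y, hy⟩ := Finite.injective_iff_surjective.1 (iterateFrobenius_inj (AdjoinRoot f') p l) s
        refine ⟨y, iterateFrobenius_inj (AdjoinRoot f) p l ?_⟩
        simp only [iterateFrobenius_def] at hy ⊢
        rw [← map_pow, hy]
        exact hs
      have hα' : α = α⁻¹ ^ (w - 1) := by
        rw [inv_pow]
        refine eq_inv_of_mul_eq_one_left ?_
        rw [← pow_succ', show w - 1 + 1 = w by omega, hα]
      rw [SetLike.mem_coe, ← hαdef, hα']
      exact Subalgebra.pow_mem _ hβ' _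
    have := LinearEquiv.finrank_eq (AlgEquiv.ofBijective φ ⟨hinj, hφs⟩).toLinearEquiv
    rwa [hd, (AdjoinRoot.powerBasis hf'i.ne_zero).finrank, AdjoinRoot.powerBasis_dim] at this
  have hkα : α ^ (w - 1) = α⁻¹ := by
    refine eq_inv_of_mul_eq_one_left ?_
    rw [← pow_succ, show w - 1 + 1 = w by omega, hα]
  have h2 : aeval α⁻¹ (f'.map σ) = 0 := by
    apply iterateFrobenius_inj (AdjoinRoot f) p l
    rw [map_zero, iterateFrobenius_def, ← aeval_pow_map_frobenius p l α⁻¹, hσ,
      map_map_frobenius p l he]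
    exact hroot'
  have h3 : f ∣ (f'.map σ).comp (X ^ (w - 1)) := by
    rw [← AdjoinRoot.mk_eq_zero, ← AdjoinRoot.aeval_eq, aeval_comp, aeval_X_pow, ← hαdef, hkα, h2]
  have h4 : f' ∣ (f.map σ).comp (X ^ (w - 1)) := by
    refine minpoly.dvd F β ?_
    rw [aeval_comp, aeval_X_pow, ← pow_mul, mul_comm, pow_mul, inv_pow, hkα, inv_inv,
      aeval_pow_map_frobenius, hroot, zero_pow (pow_ne_zero _ (Fact.out : p.Prime).ne_zero)]
  have hrevroot : ∀ (x : AdjoinRoot f) (P : F[X]), x ≠ 0 → aeval x P = 0 → aeval x⁻¹ P.reverse = 0 := by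
    intro x P hx hP
    haveI := invertibleOfNonzero hx
    have := (Polynomial.eval₂_reverse_eq_zero_iff (algebraMap F (AdjoinRoot f)) x P).2 hP
    rwa [invOf_eq_inv] at this
  have hrev0 : ∀ P : F[X], P.Monic → (P.reverse.map σ).coeff 0 = 1 := by
    intro P hP
    rw [Polynomial.coeff_map, coeff_zero_reverse, hP.leadingCoeff, map_one]
  have hrevdeg : ∀ P : F[X], (P.reverse.map σ).natDegree ≤ P.natDegree := fun P =>
    (natDegree_map_le).trans (reverse_natDegree_le P)
  have hass : Associated (f.reverse.map σ) f' := by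
    have hd1 : f' ∣ f.reverse.map σ := by
      refine minpoly.dvd F β ?_
      rw [hβ, hedef, aeval_pow_map_frobenius, hrevroot α f hα0 hroot, zero_pow (pow_ne_zero _ (Fact.out : p.Prime).ne_zero)]
    have hne : f.reverse.map σ ≠ 0 := fun h0 => by
      have := hrev0 f hfm; rw [h0, coeff_zero] at this; exact zero_ne_one this
    exact (associated_of_dvd_of_natDegree_le hd1 hne ((hrevdeg f).trans hdeg.ge)).symm
  have hass' : Associated (f'.reverse.map σ) f := by
    obtain ⟨z, hz⟩ := hsurj α
    have hz0 : z ≠ 0 := by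
      rintro rfl
      rw [zero_pow (pow_ne_zero _ (Fact.out : p.Prime).ne_zero)] at hz
      exact hα0 hz.symm
    have hz' : aeval z⁻¹ f' = 0 := by
      apply iterateFrobenius_inj (AdjoinRoot f) p l
      rw [map_zero, iterateFrobenius_def, ← aeval_pow_map_frobenius p l z⁻¹, inv_pow]
      rw [hz]
      exact h2
    have hd1 : f ∣ f'.reverse.map σ := by
      rw [← AdjoinRoot.mk_eq_zero, ← AdjoinRoot.aeval_eq, ← hαdef, ← hz, hedef, aeval_pow_map_frobenius]
      have := hrevroot z⁻¹ f' (inv_ne_zero hz0) hz'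
      rw [inv_inv] at this
      rw [this, zero_pow (pow_ne_zero _ (Fact.out : p.Prime).ne_zero)]
    have hne : f'.reverse.map σ ≠ 0 := fun h0 => by
      have := hrev0 f' hf'm; rw [h0, coeff_zero] at this; exact zero_ne_one this
    exact (associated_of_dvd_of_natDegree_le hd1 hne ((hrevdeg f').trans hdeg.le)).symm
  refine ⟨hf'm, hf'i, hdeg, hroot', h3, h4, hass, hass', ?_⟩
  haveI := Fact.mk hf'i
  haveI : Module.Finite F (AdjoinRoot f') := (AdjoinRoot.powerBasis hf'i.ne_zero).finite
  set φ := AdjoinRoot.liftAlgHom f' (Algebra.ofId F (AdjoinRoot f)) β hroot' with hφ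
  have hb : Function.Bijective φ := by
    refine ⟨RingHom.injective φ.toRingHom, ?_⟩
    have hinj : Function.Injective φ.toLinearMap := RingHom.injective φ.toRingHom
    exact (LinearMap.injective_iff_surjective_of_finrank_eq_finrank (by
      rw [hd, (AdjoinRoot.powerBasis hf'i.ne_zero).finrank, AdjoinRoot.powerBasis_dim, hdeg])).1 hinj
  have hn := Algebra.norm_eq_of_algEquiv (AlgEquiv.ofBijective φ hb) (AdjoinRoot.root f')
  rw [AlgEquiv.coe_ofBijective, show φ (AdjoinRoot.root f') = β from AdjoinRoot.liftAlgHom_root f' _ _ hroot'] at hn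
  rw [hn]
  have := Algebra.PowerBasis.norm_gen_eq_coeff_zero_minpoly (AdjoinRoot.powerBasis hf'i.ne_zero)
  rwa [AdjoinRoot.powerBasis_gen, AdjoinRoot.powerBasis_dim, AdjoinRoot.minpoly_root hf'i.ne_zero,
    hf'm.leadingCoeff, inv_one, C_1, mul_one, hdeg] at this

variable {p l} {ι : Type*} [Fintype ι] [DecidableEq ι]

omit [Fact p.Prime] [CharP F p] [Fintype F] in
theorem charpoly_dvd_minpoly_pow' (M : Matrix ι ι F) :
    M.charpoly ∣ (minpoly F M) ^ Fintype.card ι := by
  set m := minpoly F M with hm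
  obtain ⟨Q, hQ⟩ := X_sub_C_dvd_sub_C_eval (p := m.map (C : F →+* F[X])) (a := (X : F[X]))
  have heval : (m.map (C : F →+* F[X])).eval X = m := by
    rw [eval_map, eval₂_C_X]
  rw [heval] at hQ
  have h0 := congrArg (aeval ((C : F →+* F[X]).mapMatrix M)) hQ
  have h1 : aeval ((C : F →+* F[X]).mapMatrix M) (m.map (C : F →+* F[X])) = 0 := by
    have hcomp : (C : F →+* F[X]).mapMatrix M = (Algebra.ofId F F[X]).mapMatrix M := rfl
    rw [← Polynomial.algebraMap_eq, aeval_map_algebraMap, Polynomial.algebraMap_eq, hcomp,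
      aeval_algHom_apply, hm, minpoly.aeval, map_zero]
  rw [map_sub, map_mul, map_sub, h1, aeval_X, aeval_C, aeval_C, zero_sub] at h0
  have h2 : (C : F →+* F[X]).mapMatrix M - algebraMap F[X] (Matrix ι ι F[X]) X
      = - Matrix.charmatrix M := by
    rw [Matrix.charmatrix, neg_sub]; rfl
  rw [h2, neg_mul, neg_inj] at h0
  have h3 := congrArg Matrix.det h0
  rw [Matrix.det_mul, Matrix.algebraMap_eq_diagonal, Matrix.det_diagonal] at h3
  simp only [Pi.algebraMap_apply, Algebra.algebraMap_self, RingHom.id_apply, Finset.prod_const,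
    Finset.card_univ] at h3
  exact ⟨_, h3⟩

variable [Nonempty ι]
  {τ : Matrix ι ι F → Matrix ι ι F}

/-- The dichotomy for a matrix whose adjoint is its inverse. -/
theorem IsTwist.dichotomy (hτ : IsTwist p l τ) (he : ∀ x : F, x ^ (p ^ l * p ^ l) = x)
    {M : Matrix ι ι F} {w : ℕ} (hw : 1 ≤ w) (hMw : M ^ w = 1) (hM : τ M * M = 1) :
    (∃ E : Matrix ι ι F, Commute M E ∧ E * E = E ∧ E ≠ 0 ∧ 1 - E ≠ 0 ∧ τ E = E) ∨
      ∃ (f : F[X]) (_ : Fact (Irreducible f)) (a : ℕ), f.Monic ∧ 1 ≤ a ∧
        AdjoinRoot.root f ^ w = 1 ∧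
        ((M.charpoly = f ^ a ∧ ∃ j < f.natDegree,
            (AdjoinRoot.root f)⁻¹ ^ (p ^ l) = AdjoinRoot.root f ^ (Fintype.card F ^ j)) ∨
          (M.charpoly = (f * conjFactor p l f) ^ a ∧ IsCoprime f (conjFactor p l f))) := by
  have hk : τ M = M ^ (w - 1) := by
    calc τ M = τ M * (M * M ^ (w - 1)) := by rw [← pow_succ', show w - 1 + 1 = w by omega, hMw, mul_one]
      _ = M ^ (w - 1) := by rw [← mul_assoc, hM, one_mul]
  have hint : IsIntegral F M := Matrix.isIntegral M
  obtain ⟨f, hfm, hfi, hfd⟩ := exists_monic_irreducible_factor (minpoly F M) (minpoly.not_isUnit F M)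
  haveI hff := Fact.mk hfi
  have hmw : minpoly F M ∣ X ^ w - 1 := minpoly.dvd F M (by simp [hMw])
  have hα : AdjoinRoot.root f ^ w = 1 := by
    have := hfd.trans hmw
    rwa [← AdjoinRoot.mk_eq_zero, map_sub, map_pow, AdjoinRoot.mk_X, map_one, sub_eq_zero] at this
  obtain ⟨hcm, hci, hcd, hcroot, hc1, hc2, hca, hca', -⟩ := conjFactor_spec p l he f hfm hw hα
  set f' := conjFactor p l f
  set σ := iterateFrobenius F p l
  have hne : (M.charpoly) ≠ 0 := (Matrix.charpoly_monic M).ne_zero
  by_cases hff' : f' = f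
  · -- self-conjugate
    by_cases hall : ∀ g : F[X], Irreducible g → g ∣ minpoly F M → f ∣ g
    · right
      obtain ⟨a, ha⟩ := exists_eq_pow_of_forall_irreducible_dvd hfm hfi (Matrix.charpoly_monic M)
        (fun g hg hd => by
          by_contra hfg
          refine hfg (hall g hg ?_)
          have hc := charpoly_dvd_minpoly_pow' M
          exact hg.prime.dvd_of_dvd_pow (hd.trans hc))
      refine ⟨f, hff, a, hfm, Nat.pos_of_ne_zero ?_, hα, Or.inl ⟨ha, root_eq_pow_card ?_⟩⟩
      · rintro rfl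
        have := congrArg natDegree ha
        simp at this
      · have h := hcroot
        rw [hff'] at h
        exact h
    · left
      push Not at hall
      obtain ⟨g, hg, hgm, hfg⟩ := hall
      refine hτ.exists_selfAdjoint_idempotent hk (h := f) ?_ hfi hfd dvd_rfl hg hgm
        (fun h => hfg (hg.dvd_symm hfi h))
      rwa [hff'] at hc1
  · have hcop : IsCoprime f f' := by
      rw [hfi.coprime_iff_not_dvd]
      exact fun hd => hff' (eq_of_monic_of_associated hcm hfm (hfi.associated_of_dvd hci hd).symm)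
    by_cases hall : ∀ g : F[X], Irreducible g → g ∣ minpoly F M → g ∣ f * f'
    · right
      have hfc : ∀ g, Irreducible g → g ∣ M.charpoly → g ∣ f ∨ g ∣ f' := fun g hg hd =>
        hg.prime.dvd_or_dvd (hall g hg (hg.prime.dvd_of_dvd_pow (hd.trans (charpoly_dvd_minpoly_pow' M))))
      obtain ⟨a, r, hr, har⟩ := WfDvdMonoid.max_power_factor hne hfi
      have hrm : r.Monic := (hfm.pow a).of_mul_monic_left (har ▸ Matrix.charpoly_monic M)
      obtain ⟨b, hb⟩ := exists_eq_pow_of_forall_irreducible_dvd hcm hci hrm (fun g hg hd => by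
        rcases hfc g hg (har ▸ hd.mul_left _) with hgf | hgf
        · exact absurd ((hg.dvd_symm hfi hgf).trans hd) hr
        · exact hg.dvd_symm hci hgf)
      subst hb
      -- symmetry
      have hrevcp : Associated (M.charpoly.reverse.map σ) M.charpoly := by
        have hMu : IsUnit M := (IsUnit.of_mul_eq_one_right (τ M) hM)
        have hinv : M⁻¹ = τ M := Matrix.inv_eq_left_inv hM
        have h1 := Matrix.charpoly_inv M hMu
        rw [hinv, hτ.τ_charpoly, ← Matrix.reverse_charpoly] at h1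
        have h2 := congrArg (Polynomial.map σ) h1
        rw [map_map_frobenius p l he, Polynomial.map_mul] at h2
        have hu : IsUnit (((-1 : F[X]) ^ Fintype.card ι * C (Ring.inverse M.det)).map σ) := by
          refine IsUnit.map (mapRingHom σ) (IsUnit.mul ?_ ?_)
          · exact (IsUnit.neg isUnit_one).pow _
          · exact (Polynomial.isUnit_C).2 (IsUnit.ringInverse ((Matrix.isUnit_iff_isUnit_det M).1 hMu))
        obtain ⟨U, hU⟩ := hu
        exact ⟨U, by rw [hU, mul_comm]; exact h2.symm⟩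
      have hprod : Associated (f' ^ a * f ^ b) (f ^ a * f' ^ b) := by
        rw [har, reverse_mul_of_domain, Polynomial.map_mul] at hrevcp
        have hpow : ∀ (P : F[X]) (c : ℕ), (P ^ c).reverse.map σ = (P.reverse.map σ) ^ c := by
          intro P c
          induction c with
          | zero => rw [pow_zero, pow_zero, ← C_1, reverse_C, C_1, Polynomial.map_one]
          | succ c ih => rw [pow_succ, pow_succ, reverse_mul_of_domain, Polynomial.map_mul, ih]
        rw [hpow, hpow] at hrevcp
        exact ((hca.pow_pow).mul_mul (hca'.pow_pow)).symm.trans hrevcp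
      have hab : a = b := by
        have h1 : f ^ a ∣ f ^ b :=
          ((hcop.pow_left (m := a)).pow_right (n := a)).dvd_of_dvd_mul_left
            ((dvd_mul_right (f ^ a) (f' ^ b)).trans hprod.symm.dvd)
        have h2 : f ^ b ∣ f ^ a :=
          ((hcop.pow_left (m := b)).pow_right (n := b)).dvd_of_dvd_mul_right
            ((dvd_mul_left (f ^ b) (f' ^ a)).trans hprod.dvd)
        exact le_antisymm ((pow_dvd_pow_iff hfi.ne_zero hfi.1).1 h1)
          ((pow_dvd_pow_iff hfi.ne_zero hfi.1).1 h2)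
      subst hab
      refine ⟨f, hff, a, hfm, Nat.pos_of_ne_zero ?_, hα, Or.inr ⟨by rw [har, mul_pow], hcop⟩⟩
      rintro rfl
      have := congrArg natDegree har
      simp at this
    · left
      push Not at hall
      obtain ⟨g, hg, hgm, hgh⟩ := hall
      refine hτ.exists_selfAdjoint_idempotent hk (h := f * f') ?_ hfi hfd (dvd_mul_right f f') hg hgm hgh
      rw [Polynomial.map_mul, mul_comp]
      exact mul_dvd_mul hc1 hc2 |> fun h => by rwa [mul_comm ((f.map σ).comp _)]

end roots

end CfsgLib.Spectrum
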