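/-
Commutative algebras with a semilinear involution and an invariant functional: sources of elements of
symplectic and unitary groups of given order.
-/
import Cfsg.Agent.Lib.Spectrum.Twisted
import Mathlib.FieldTheory.Finite.Trace
import Mathlib.RingTheory.Trace.Basic

set_option autoImplicit false

open Polynomial

namespace CfsgLib.Spectrum

variable {F : Type*} [Field F]

/-- A commutative algebra with an `e`-semilinear involution and a compatible functional. -/
structure IsTwistForm (e : ℕ) (s : F) {A : Type*} [CommRing A] [Algebra F A] (st : A →+* A)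
    (lam : A →ₗ[F] F) : Prop where
  st_smul : ∀ (c : F) (z : A), st (c • z) = c ^ e • st z
  invol : ∀ z, st (st z) = z
  lam_st : ∀ z, lam (st z) = s * lam z ^ e
  nondeg : ∀ z : A, z ≠ 0 → ∃ y, lam (z * y) ≠ 0

theorem IsTwistForm.prod {e : ℕ} {s : F} {A B : Type*} [CommRing A] [Algebra F A] [CommRing B]
    [Algebra F B] {st : A →+* A} {lam : A →ₗ[F] F} {st' : B →+* B} {lam' : B →ₗ[F] F}
    (h : IsTwistForm e s st lam) (h' : IsTwistForm e s st' lam')
    (hadd : ∀ a b : F, (a + b) ^ e = a ^ e + b ^ e) :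
    IsTwistForm e s (RingHom.prodMap st st') (lam.coprod lam') where
  st_smul c z := by
    obtain ⟨a, b⟩ := z
    simp [h.st_smul, h'.st_smul]
  invol z := by
    obtain ⟨a, b⟩ := z
    simp [h.invol, h'.invol]
  lam_st z := by
    obtain ⟨a, b⟩ := z
    simp [h.lam_st, h'.lam_st, hadd, mul_add]
  nondeg z hz := by
    obtain ⟨a, b⟩ := z
    by_cases ha : a = 0
    · obtain ⟨y, hy⟩ := h'.nondeg b (fun hb => hz (by rw [ha, hb]; rfl))
      exact ⟨(0, y), by simpa using hy⟩
    · obtain ⟨y, hy⟩ := h.nondeg a ha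
      exact ⟨(y, 0), by simpa using hy⟩

theorem IsTwistForm.self (p l : ℕ) [Fact p.Prime] [CharP F p]
    (he : ∀ x : F, x ^ (p ^ l * p ^ l) = x) :
    IsTwistForm (p ^ l) (1 : F) (iterateFrobenius F p l) (LinearMap.id : F →ₗ[F] F) where
  st_smul c z := by simp [iterateFrobenius_def, mul_pow]
  invol z := by simp [iterateFrobenius_def, ← pow_mul, he]
  lam_st z := by simp [iterateFrobenius_def]
  nondeg z hz := ⟨1, by simpa using hz⟩

section field

variable [Fintype F] (p l : ℕ) [Fact p.Prime] [CharP F p]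

theorem trace_pow_char_pow {K : Type*} [Field K] [Algebra F K] [Finite K] (m : ℕ)
    (hF : ∀ c : F, c ^ (p ^ m) = c ^ (p ^ l)) (z : K) :
    Algebra.trace F K (z ^ (p ^ m)) = Algebra.trace F K z ^ (p ^ l) := by
  haveI : CharP K p := charP_of_injective_algebraMap (algebraMap F K).injective p
  apply (algebraMap F K).injective
  rw [← hF, map_pow (algebraMap F K), FiniteField.algebraMap_trace_eq_sum_pow, FiniteField.algebraMap_trace_eq_sum_pow,
    sum_pow_char_pow p m]
  exact Finset.sum_congr rfl fun i _ => by rw [← pow_mul, ← pow_mul, mul_comm]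

theorem exists_twistForm_field {K : Type*} [Field K] [Algebra F K] [Finite K] [CharP K p] (m : ℕ)
    (hF : ∀ c : F, c ^ (p ^ m) = c ^ (p ^ l)) (hK : ∀ z : K, (z ^ (p ^ m)) ^ (p ^ m) = z) (s : F)
    (δ : K) (hδ : δ ≠ 0) (hsδ : δ ^ (p ^ m) = algebraMap F K s * δ) (hs : s * s = 1) :
    ∃ lam : K →ₗ[F] F, IsTwistForm (p ^ l) s (iterateFrobenius K p m) lam := by
  haveI : Module.Finite F K := .of_finite
  refine ⟨(Algebra.trace F K).comp (LinearMap.mulLeft F δ), ?_, ?_, ?_, ?_⟩
  · intro c z
    rw [iterateFrobenius_def, iterateFrobenius_def, Algebra.smul_def, Algebra.smul_def, mul_pow,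
      ← map_pow, hF]
  · intro z
    rw [iterateFrobenius_def, iterateFrobenius_def, hK]
  · intro z
    simp only [LinearMap.comp_apply, LinearMap.mulLeft_apply, iterateFrobenius_def]
    rw [← trace_pow_char_pow p l m hF, mul_pow, hsδ, mul_assoc, ← Algebra.smul_def, map_smul,
      smul_eq_mul, ← mul_assoc, hs, one_mul]
  · intro z hz
    obtain ⟨y, hy⟩ := (Algebra.trace_surjective F K) 1
    refine ⟨(δ * z)⁻¹ * y, ?_⟩
    simp only [LinearMap.comp_apply, LinearMap.mulLeft_apply]
    rw [← mul_assoc, ← mul_assoc, mul_inv_cancel₀ (mul_ne_zero hδ hz), one_mul, hy]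
    exact one_ne_zero

theorem exists_twistForm_double {K : Type*} [Field K] [Algebra F K] [Finite K] [CharP K p] (m r : ℕ)
    (hFm : ∀ c : F, c ^ (p ^ m) = c ^ (p ^ l)) (hFr : ∀ c : F, c ^ (p ^ r) = c ^ (p ^ l))
    (hK : ∀ z : K, (z ^ (p ^ m)) ^ (p ^ r) = z) (s : F) (hs : s * s = 1) (hse : s ^ (p ^ l) = s) :
    ∃ (st : K × K →+* K × K) (lam : K × K →ₗ[F] F), IsTwistForm (p ^ l) s st lam ∧
      ∀ a b, st (a, b) = (b ^ (p ^ m), a ^ (p ^ r)) := by
  haveI : Module.Finite F K := .of_finite
  have hK' : ∀ z : K, (z ^ (p ^ r)) ^ (p ^ m) = z := fun z => by rw [← pow_mul, mul_comm, pow_mul, hK]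
  refine ⟨((iterateFrobenius K p m).comp (RingHom.snd K K)).prod
      ((iterateFrobenius K p r).comp (RingHom.fst K K)),
    (Algebra.trace F K).coprod (s • Algebra.trace F K), ⟨?_, ?_, ?_, ?_⟩,
    fun a b => by simp [iterateFrobenius_def]⟩
  · intro c z
    ext <;> simp [iterateFrobenius_def, Algebra.smul_def, mul_pow, ← map_pow, hFm, hFr]
  · intro z
    ext <;> simp [iterateFrobenius_def, hK, hK']
  · intro z
    have hadd : ∀ x y : F, (x + y) ^ (p ^ l) = x ^ (p ^ l) + y ^ (p ^ l) := fun x y => add_pow_char_pow x y p l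
    simp [iterateFrobenius_def, trace_pow_char_pow p l _ hFm, trace_pow_char_pow p l _ hFr, hadd,
      mul_pow, hse, mul_add, ← mul_assoc, hs]
    ring
  · intro z hz
    obtain ⟨a, b⟩ := z
    obtain ⟨y, hy⟩ := (Algebra.trace_surjective F K) 1
    by_cases ha : a = 0
    · refine ⟨(0, b⁻¹ * y), ?_⟩
      have hb : b ≠ 0 := fun hb => hz (by rw [ha, hb]; rfl)
      simp [← mul_assoc, mul_inv_cancel₀ hb, hy, show s ≠ 0 from fun h => by rw [h, zero_mul] at hs; exact zero_ne_one hs]
    · exact ⟨(a⁻¹ * y, 0), by simp [← mul_assoc, mul_inv_cancel₀ ha, hy]⟩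

omit [Fintype F] in
theorem exists_twistForm_truncated (he : ∀ x : F, x ^ (p ^ l * p ^ l) = x) {m : ℕ} (hm : 1 ≤ m)
    (s : F) (hs : s * s = 1) (hse : s ^ (p ^ l) = s)
    (hκ : ∃ κ : F, κ + s * ((-1) ^ (m - 1) * κ) ^ (p ^ l) ≠ 0) :
    ∃ (st : AdjoinRoot (X ^ m : F[X]) →+* AdjoinRoot (X ^ m : F[X]))
      (lam : AdjoinRoot (X ^ m : F[X]) →ₗ[F] F), IsTwistForm (p ^ l) s st lam ∧
      (1 + AdjoinRoot.root (X ^ m : F[X])) * st (1 + AdjoinRoot.root (X ^ m : F[X])) = 1 := by
  set A := AdjoinRoot (X ^ m : F[X])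
  set t : A := AdjoinRoot.root (X ^ m : F[X]) with ht
  have hne : (X ^ m : F[X]) ≠ 0 := pow_ne_zero _ X_ne_zero
  have htm : t ^ m = 0 := by
    rw [ht, ← AdjoinRoot.mk_X, ← map_pow, AdjoinRoot.mk_self]
  obtain ⟨w, hw⟩ : ∃ w : A, (1 + t) * w = 1 := by
    have : IsUnit (1 + t) := IsNilpotent.isUnit_one_add ⟨m, htm⟩
    exact ⟨_, this.choose_spec ▸ this.choose.mul_inv⟩
  have hu : (w - 1) = -(t * w) := by linear_combination hw
  have hum : (w - 1) ^ m = 0 := by rw [hu, neg_pow, mul_pow, htm, zero_mul, mul_zero]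
  let σ := iterateFrobenius F p l
  have hroot : eval₂ ((algebraMap F A).comp σ) (w - 1) (X ^ m : F[X]) = 0 := by
    rw [eval₂_X_pow, hum]
  let st : A →+* A := AdjoinRoot.lift ((algebraMap F A).comp σ) (w - 1) hroot
  have hstt : st t = w - 1 := AdjoinRoot.lift_root hroot
  have hstC : ∀ c : F, st (algebraMap F A c) = algebraMap F A (c ^ (p ^ l)) := fun c => by
    show st (AdjoinRoot.of _ c) = _
    rw [AdjoinRoot.lift_of hroot, RingHom.comp_apply]
    simp only [σ, iterateFrobenius_def]
  have hstw : st w = 1 + t := by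
    have h := congrArg st hw
    rw [map_mul, map_add, map_one, hstt, add_sub_cancel] at h
    linear_combination (1 + t) * h - st w * hw
  have hinv : ∀ z, st (st z) = z := by
    intro z
    induction z using AdjoinRoot.induction_on with
    | ih P =>
      induction P using Polynomial.induction_on' with
      | add P Q hP hQ => rw [map_add, map_add, map_add, hP, hQ]
      | monomial n c =>
        rw [← C_mul_X_pow_eq_monomial, map_mul, map_pow, AdjoinRoot.mk_X, AdjoinRoot.mk_C,
          ← AdjoinRoot.algebraMap_eq, map_mul, map_mul, map_pow, map_pow, ← ht, hstt, hstC, hstC,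
          map_sub, map_one, hstw, add_sub_cancel_left, ← pow_mul, he]
  obtain ⟨κ, hκ⟩ := hκ
  let pb := AdjoinRoot.powerBasis hne
  have hdim : pb.dim = m := by simp [pb]
  let top : A →ₗ[F] F := κ • pb.basis.coord ⟨m - 1, by omega⟩
  have hst_smul : ∀ (c : F) (z : A), st (c • z) = c ^ (p ^ l) • st z := fun c z => by
    rw [Algebra.smul_def, Algebra.smul_def, map_mul, hstC]
  let lam : A →ₗ[F] F :=
    { toFun := fun z => top z + s * top (st z) ^ (p ^ l)
      map_add' := fun x y => by
        simp only [map_add, add_pow_char_pow]; ring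
      map_smul' := fun c z => by
        simp only [hst_smul, map_smul, smul_eq_mul, RingHom.id_apply, mul_pow, ← pow_mul, he]; ring }
  have hlam : ∀ z, lam z = top z + s * top (st z) ^ (p ^ l) := fun z => rfl
  refine ⟨st, lam, ⟨hst_smul, hinv, ?_, ?_⟩, by rw [map_add, map_one, hstt, add_sub_cancel, hw]⟩
  · intro z
    rw [hlam, hlam, hinv, add_pow_char_pow, mul_pow, ← pow_mul, he, hse, mul_add, ← mul_assoc, hs, one_mul]
    ring
  · intro z hz
    have htop : lam (t ^ (m - 1)) ≠ 0 := by
      have h1 : top (t ^ (m - 1)) = κ := by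
        have : pb.basis ⟨m - 1, by omega⟩ = t ^ (m - 1) := by rw [PowerBasis.basis_eq_pow]; rfl
        simp only [top, LinearMap.smul_apply, Module.Basis.coord_apply, ← this, Module.Basis.repr_self,
          Finsupp.single_eq_same, smul_eq_mul, mul_one]
      have h2 : st (t ^ (m - 1)) = ((-1 : F) ^ (m - 1)) • t ^ (m - 1) := by
        have h3 : t ^ (m - 1) * (1 + t) = t ^ (m - 1) := by
          rw [mul_add, mul_one, ← pow_succ, show m - 1 + 1 = m by omega, htm, add_zero]
        have h4 : t ^ (m - 1) * w = t ^ (m - 1) := by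
          calc t ^ (m - 1) * w = t ^ (m - 1) * (1 + t) * w := by rw [h3]
            _ = t ^ (m - 1) := by rw [mul_assoc, hw, mul_one]
        have h5 : ∀ j, t ^ (m - 1) * w ^ j = t ^ (m - 1) := fun j => by
          induction j with
          | zero => simp
          | succ j ih => rw [pow_succ, ← mul_assoc, ih, h4]
        rw [map_pow, hstt, hu, neg_pow, mul_pow, h5, Algebra.smul_def, map_pow, map_neg, map_one]
      rw [hlam, h2, map_smul, h1, smul_eq_mul]
      exact hκ
    induction z using AdjoinRoot.induction_on with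
    | ih P =>
      rw [Ne, AdjoinRoot.mk_eq_zero] at hz
      have hP0 : P ≠ 0 := fun h => hz (h ▸ dvd_zero _)
      obtain ⟨j, P', hP', rfl⟩ := WfDvdMonoid.max_power_factor hP0 irreducible_X
      have hj : j < m := by
        by_contra hj
        exact hz ((pow_dvd_pow X (not_lt.1 hj)).mul_right P')
      obtain ⟨a, b, hab⟩ := ((irreducible_X.coprime_iff_not_dvd.2 hP').pow_left (m := m))
      refine ⟨AdjoinRoot.mk _ (X ^ (m - 1 - j) * b), ?_⟩
      have : AdjoinRoot.mk (X ^ m : F[X]) (X ^ j * P') * AdjoinRoot.mk _ (X ^ (m - 1 - j) * b) = t ^ (m - 1) := by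
        rw [← map_mul, ht, ← AdjoinRoot.mk_X, ← map_pow, AdjoinRoot.mk_eq_mk]
        refine ⟨-(X ^ (m - 1) * a), ?_⟩
        have hX : X ^ j * X ^ (m - 1 - j) = (X : F[X]) ^ (m - 1) := by rw [← pow_add]; congr 1; omega
        linear_combination P' * b * hX + (X : F[X]) ^ (m - 1) * hab
      rw [this]
      exact htop

end field

end CfsgLib.Spectrum
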