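/-
Element orders in PSp_{2n}(F), q odd.
-/
import Cfsg.Agent.Lib.Spectrum.TwistAlgebra
import Cfsg.Agent.Lib.Forms.Classify
import Cfsg.Agent.Lib.Linear.Symplectic
import Cfsg.Prelude.Def_Classical

set_option autoImplicit false

open Polynomial Matrix

namespace CfsgLib.Spectrum

variable {F : Type*} [Field F]

/-- The symplectic adjoint. -/
def sympAdj {n : ℕ} (A : Matrix (Fin n ⊕ Fin n) (Fin n ⊕ Fin n) F) :
    Matrix (Fin n ⊕ Fin n) (Fin n ⊕ Fin n) F :=
  -(J (Fin n) F * Aᵀ * J (Fin n) F)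

theorem isTwist_sympAdj {n : ℕ} (p : ℕ) [Fact p.Prime] [CharP F p] :
    IsTwist p 0 (sympAdj (F := F) (n := n)) := by
  have hJ : J (Fin n) F * J (Fin n) F = -1 := J_squared (Fin n) F
  have hJ' : ∀ B, J (Fin n) F * (J (Fin n) F * B) = -B := fun B => by
    rw [← mul_assoc, hJ, neg_one_mul]
  refine ⟨fun A B => ?_, fun A B => ?_, ?_, fun c A => ?_, fun A => ?_, fun A => ?_⟩
  · simp [sympAdj, Matrix.transpose_mul, mul_assoc, hJ']
  · simp [sympAdj, Matrix.mul_add, Matrix.add_mul]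
    abel
  · simp [sympAdj, hJ]
  · simp [sympAdj]
  · simp [sympAdj, Matrix.transpose_mul, J_transpose, mul_assoc, hJ', hJ]
  · rw [show iterateFrobenius F p 0 = RingHom.id F from RingHom.ext fun x => by simp [iterateFrobenius_def],
      Polynomial.map_id]
    let u : (Matrix (Fin n ⊕ Fin n) (Fin n ⊕ Fin n) F)ˣ :=
      ⟨J (Fin n) F, -J (Fin n) F, by rw [mul_neg, hJ, neg_neg], by rw [neg_mul, hJ, neg_neg]⟩
    have h := Matrix.charpoly_units_conj u Aᵀ
    rw [Matrix.charpoly_transpose] at h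
    rw [← h]
    congr 1
    rw [show (u : Matrix (Fin n ⊕ Fin n) (Fin n ⊕ Fin n) F)⁻¹ = -J (Fin n) F from
      (Matrix.coe_units_inv u).symm]
    show sympAdj A = J (Fin n) F * Aᵀ * -J (Fin n) F
    rw [sympAdj, mul_neg]

theorem sympAdj_mul_self {n : ℕ} (g : symplecticGroup (Fin n) F) :
    sympAdj (g : Matrix (Fin n ⊕ Fin n) (Fin n ⊕ Fin n) F) * g = 1 := by
  have h := SymplecticGroup.mem_iff'.1 g.2
  rw [sympAdj, neg_mul, mul_assoc, mul_assoc (J (Fin n) F), ← mul_assoc _ (J (Fin n) F), h,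
    J_squared, neg_neg]

theorem mem_symplecticGroup_of_adj {n : ℕ} {A : Matrix (Fin n ⊕ Fin n) (Fin n ⊕ Fin n) F}
    (h : sympAdj A * A = 1) : A ∈ symplecticGroup (Fin n) F := by
  rw [SymplecticGroup.mem_iff']
  have := congrArg (J (Fin n) F * ·) h
  simp only [sympAdj, neg_mul, mul_neg, mul_one, mul_assoc] at this
  rwa [← mul_assoc (J (Fin n) F), J_squared, neg_one_mul, neg_neg, ← mul_assoc] at this

theorem pspMk_eq_one_iff {n : ℕ} (hn : 1 ≤ n) (g : symplecticGroup (Fin n) F) :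
    (QuotientGroup.mk g : Cfsg.PSp n F) = 1 ↔
      (g : Matrix (Fin n ⊕ Fin n) (Fin n ⊕ Fin n) F) = 1 ∨
        (g : Matrix (Fin n ⊕ Fin n) (Fin n ⊕ Fin n) F) = -1 := by
  rw [QuotientGroup.eq_one_iff, CfsgLib.Linear.Symp.mem_center_iff]
  constructor
  · rintro ⟨a, ha, h⟩
    have hM : (g : Matrix (Fin n ⊕ Fin n) (Fin n ⊕ Fin n) F) = a • 1 :=
      Matrix.ext_of_mulVec_single fun i => by
        rw [Matrix.smul_mulVec, Matrix.one_mulVec]; exact h _
    rcases sq_eq_one_iff.1 ha with rfl | rfl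
    · left; rw [hM, one_smul]
    · right; rw [hM, neg_smul, one_smul]
  · rintro (h | h)
    · exact ⟨1, one_pow 2, fun x => by rw [CfsgLib.Linear.Symp.smul_def, h, one_mulVec, one_smul]⟩
    · exact ⟨-1, by simp, fun x => by
        rw [CfsgLib.Linear.Symp.smul_def, h, neg_mulVec, one_mulVec, neg_smul, one_smul]⟩

theorem pspMk_pow_eq_one_iff {n : ℕ} (hn : 1 ≤ n) (g : symplecticGroup (Fin n) F) (k : ℕ) :
    (QuotientGroup.mk g : Cfsg.PSp n F) ^ k = 1 ↔
      (g : Matrix (Fin n ⊕ Fin n) (Fin n ⊕ Fin n) F) ^ k = 1 ∨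
        (g : Matrix (Fin n ⊕ Fin n) (Fin n ⊕ Fin n) F) ^ k = -1 := by
  rw [← QuotientGroup.mk_pow, pspMk_eq_one_iff hn, SubmonoidClass.coe_pow]

theorem exists_psp_of_twistForm {n : ℕ} (hn : 1 ≤ n) (h2 : (2 : F) ≠ 0) {A : Type*} [CommRing A]
    [Algebra F A] [Module.Finite F A] (hfin : Module.finrank F A = n + n) {st : A →+* A}
    {lam : A →ₗ[F] F} (h : IsTwistForm 1 (-1 : F) st lam) (a : A) (ha : a * st a = 1) :
    ∃ g : Cfsg.PSp n F, ∀ k : ℕ, g ^ k = 1 ↔ a ^ k = 1 ∨ a ^ k = -1 := by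
  have hlam : ∀ z, lam (st z) = - lam z := fun z => by rw [h.lam_st, pow_one, neg_one_mul]
  have hst : ∀ (c : F) (z : A), st (c • z) = c • st z := fun c z => by rw [h.st_smul, pow_one]
  let B : LinearMap.BilinForm F A := LinearMap.mk₂ F (fun x y => lam (x * st y))
    (fun x x' y => by rw [add_mul, map_add])
    (fun c x y => by rw [smul_mul_assoc, map_smul])
    (fun x y y' => by rw [map_add, mul_add, map_add])
    (fun c x y => by rw [hst, mul_smul_comm, map_smul])
  have hB : ∀ x y, B x y = lam (x * st y) := fun x y => rfl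
  have hsw : ∀ x y, B y x = - B x y := fun x y => by
    rw [hB, hB, ← hlam, map_mul st, h.invol, mul_comm]
  have halt : B.IsAlt := fun x => by
    have h1 := hsw x x
    have : (2 : F) * B x x = 0 := by linear_combination h1
    exact (mul_eq_zero.1 this).resolve_left h2
  obtain ⟨m, k, b, hmk, hspan, hb1, hb2, hb3, hb4⟩ :=
    CfsgLib.Forms.exists_symplectic_family B halt (n + n) ⊤ (by rw [finrank_top, hfin])
  have hli : LinearIndependent F b :=
    linearIndependent_of_top_le_span_of_card_eq_finrank hspan.ge (by simp [hfin, hmk])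
  have hk : k = 0 := by
    by_contra hk
    let j : Fin k := ⟨0, Nat.pos_of_ne_zero hk⟩
    obtain ⟨y, hy⟩ := h.nondeg (b (.inr j)) (hli.ne_zero _)
    refine hy ?_
    have := hb4 j (st y) Submodule.mem_top
    rwa [hB, h.invol] at this
  obtain rfl : m = n := by omega
  subst hk
  let e : Fin m ⊕ Fin m ≃ (Fin m ⊕ Fin m) ⊕ Fin 0 := (Equiv.sumEmpty _ _).symm
  let bb : Module.Basis (Fin m ⊕ Fin m) F A :=
    (Module.Basis.mk hli hspan.ge).reindex e.symm
  have hbb : ∀ i, bb i = b (.inl i) := fun i => by simp [bb, e]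
  have hform : ∀ x y, Cfsg.sympForm m F (bb.repr x) (bb.repr y) = - B x y := by
    intro x y
    rw [CfsgLib.Linear.Symp.sympForm_eq_sum]
    conv_rhs => rw [← bb.sum_repr x, ← bb.sum_repr y]
    simp only [Fintype.sum_sum_type, hbb, map_add, map_sum, map_smul, LinearMap.add_apply,
      LinearMap.coe_sum, Finset.sum_apply, LinearMap.smul_apply, smul_eq_mul, hb1, hb2, hb3,
      mul_zero, Finset.sum_const_zero, add_zero, zero_add]
    have hb1' : ∀ i j : Fin m, B (b (.inl (.inr i))) (b (.inl (.inl j))) = if i = j then -1 else 0 := by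
      intro i j
      rw [hsw (b (.inl (.inl j))), hb1]
      rcases eq_or_ne i j with rfl | hij
      · simp
      · simp [hij, Ne.symm hij]
    simp only [hb1', mul_ite, mul_one, mul_zero, mul_neg, Finset.sum_ite_eq, Finset.sum_ite_eq',
      Finset.mem_univ, if_true, Finset.sum_neg_distrib, Finset.sum_sub_distrib]
    rw [show (∑ i : Fin m, bb.repr y (.inr i) * bb.repr x (.inl i)) =
      ∑ i : Fin m, bb.repr x (.inl i) * bb.repr y (.inr i) from
      Finset.sum_congr rfl fun i _ => mul_comm _ _]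
    have hcomm : ∀ (u v : Fin m → F), ∑ i, u i * v i = ∑ i, v i * u i :=
      fun u v => Finset.sum_congr rfl fun i _ => mul_comm _ _
    rw [hcomm (fun i => bb.repr y (.inl i))]
    ring
  let M := Algebra.leftMulMatrix bb a
  have hMem : M ∈ symplecticGroup (Fin m) F := by
    refine CfsgLib.Linear.Symp.mem_of_form_mulVec fun u v => ?_
    obtain ⟨x, rfl⟩ : ∃ x, (bb.repr x : Fin m ⊕ Fin m → F) = u :=
      ⟨bb.equivFun.symm u, bb.equivFun.apply_symm_apply u⟩
    obtain ⟨y, rfl⟩ : ∃ y, (bb.repr y : Fin m ⊕ Fin m → F) = v :=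
      ⟨bb.equivFun.symm v, bb.equivFun.apply_symm_apply v⟩
    rw [Algebra.leftMulMatrix_mulVec_repr, Algebra.leftMulMatrix_mulVec_repr, hform, hform, hB, hB,
      map_mul st, show a * x * (st a * st y) = (a * st a) * (x * st y) by ring, ha, one_mul]
  refine ⟨QuotientGroup.mk (⟨M, hMem⟩ : symplecticGroup (Fin m) F), fun k => ?_⟩
  rw [pspMk_pow_eq_one_iff hn]
  show M ^ k = 1 ∨ M ^ k = -1 ↔ _
  have hinj := Algebra.leftMulMatrix_injective bb
  rw [show M ^ k = Algebra.leftMulMatrix bb (a ^ k) from (map_pow _ _ _).symm,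
    show (1 : Matrix (Fin m ⊕ Fin m) (Fin m ⊕ Fin m) F) = Algebra.leftMulMatrix bb 1 from (map_one _).symm,
    ← map_neg, hinj.eq_iff, hinj.eq_iff]

theorem neg_one_ne_one_of_two {R : Type*} [CommRing R] [Algebra F R] [Nontrivial R] (h2 : (2 : F) ≠ 0) :
    (-1 : R) ≠ 1 := by
  intro h
  apply h2
  apply (algebraMap F R).injective
  rw [map_ofNat, map_zero]
  linear_combination (-1 : R) * h

section finite

variable [Fintype F] (p : ℕ) [Fact p.Prime] [CharP F p]
include p

theorem odd_char (h2 : (2 : F) ≠ 0) : p ≠ 2 := by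
  rintro rfl
  exact h2 (by exact_mod_cast CharP.cast_eq_zero F 2)

theorem card_eq_pow : ∃ a, 1 ≤ a ∧ Fintype.card F = p ^ a := by
  obtain ⟨b, -, hb⟩ := FiniteField.card F p
  exact ⟨b, b.pos, hb⟩

theorem exists_twist_torus_plus (h2 : (2 : F) ≠ 0) {d : ℕ} (hd : 1 ≤ d) :
    ∃ (K : Type) (_ : Field K) (_ : Algebra F K) (_ : Module.Finite F K) (st : K →+* K)
      (lam : K →ₗ[F] F) (a : K), Module.finrank F K = d + d ∧
      IsTwistForm 1 (-1 : F) st lam ∧ a * st a = 1 ∧ orderOf a = Fintype.card F ^ d + 1 := by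
  obtain ⟨c, hc, hq⟩ := card_eq_pow (F := F) p
  set q := Fintype.card F
  haveI : NeZero (d + d) := ⟨by omega⟩
  let K := FiniteField.Extension F p (d + d)
  haveI : CharP K p := charP_of_injective_algebraMap (algebraMap F K).injective p
  haveI : Fintype K := Fintype.ofFinite K
  haveI : Module.Finite F K := .of_finite
  have hq1 : 1 < q := Fintype.one_lt_card
  have hK : Fintype.card K = q ^ d * q ^ d := by
    rw [← pow_add, ← Nat.card_eq_fintype_card, FiniteField.natCard_extension, Nat.card_eq_fintype_card]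
  have hpm : p ^ (c * d) = q ^ d := by rw [hq, ← pow_mul]
  have hinvol : ∀ z : K, (z ^ (q ^ d)) ^ (q ^ d) = z := fun z => by
    rw [← pow_mul, ← hK, FiniteField.pow_card]
  have hqd : 1 < q ^ d := Nat.one_lt_pow (by omega) hq1
  obtain ⟨γ, hγ⟩ := IsCyclic.exists_ofOrder_eq_natCard (α := Kˣ)
  rw [Nat.card_units, Nat.card_eq_fintype_card, hK] at hγ
  obtain ⟨Q, hQ⟩ : ∃ Q, q ^ d = Q + 1 := ⟨q ^ d - 1, by omega⟩
  have hfact : q ^ d * q ^ d - 1 = (q ^ d - 1) * (q ^ d + 1) := by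
    rw [hQ, Nat.add_sub_cancel, Nat.sub_eq_iff_eq_add (by nlinarith)]; ring
  obtain ⟨z, hz⟩ : ∃ z : K, z ^ (q ^ d) ≠ z := by
    refine ⟨γ, fun h => ?_⟩
    have h1 : γ ^ (q ^ d - 1) = 1 := by
      apply Units.ext
      rw [Units.val_pow_eq_pow_val, Units.val_one]
      have h' : (γ : K) ^ (q ^ d - 1) * γ = 1 * γ := by
        rw [← pow_succ, show q ^ d - 1 + 1 = q ^ d by omega, one_mul, h]
      exact mul_right_cancel₀ γ.ne_zero h'
    have := Nat.le_of_dvd (by omega) (hγ ▸ orderOf_dvd_of_pow_eq_one h1)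
    rw [hfact, hQ, Nat.add_sub_cancel] at this
    rcases Nat.eq_zero_or_pos Q with h0 | h0
    · omega
    · nlinarith
  obtain ⟨lam, hlam⟩ := exists_twistForm_field (F := F) p 0 (K := K) (c * d)
    (fun x => by rw [hpm, FiniteField.pow_card_pow, pow_zero, pow_one])
    (fun x => by rw [hpm, hinvol]) (-1) (z - z ^ (q ^ d)) (sub_ne_zero.2 (Ne.symm hz))
    (by rw [hpm, ← hpm, sub_pow_char_pow, hpm, hinvol, map_neg, map_one]; ring) (by ring)
  rw [pow_zero] at hlam
  refine ⟨K, inferInstance, inferInstance, inferInstance, _, lam, (γ : K) ^ (q ^ d - 1),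
    FiniteField.finrank_extension F p (d + d), hlam, ?_, ?_⟩
  · rw [iterateFrobenius_def, hpm, ← pow_mul, ← pow_add,
      show q ^ d - 1 + (q ^ d - 1) * q ^ d = orderOf γ by rw [hγ, hfact]; ring,
      ← Units.val_pow_eq_pow_val, pow_orderOf_eq_one, Units.val_one]
  · rw [← Units.val_pow_eq_pow_val, orderOf_units, orderOf_pow_of_dvd (by omega)
      (hγ ▸ hfact ▸ dvd_mul_right _ _), hγ, hfact, Nat.mul_div_cancel_left _ (by omega)]

theorem exists_twist_torus_minus (h2 : (2 : F) ≠ 0) {d : ℕ} (hd : 1 ≤ d) :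
    ∃ (K : Type) (_ : Field K) (_ : Algebra F K) (_ : Module.Finite F K) (st : K × K →+* K × K)
      (lam : K × K →ₗ[F] F) (a : K × K), Module.finrank F (K × K) = d + d ∧
      IsTwistForm 1 (-1 : F) st lam ∧ a * st a = 1 ∧ orderOf a = Fintype.card F ^ d - 1 ∧
      a.1 * a.2 = 1 := by
  haveI : NeZero d := ⟨by omega⟩
  let K := FiniteField.Extension F p d
  haveI : CharP K p := charP_of_injective_algebraMap (algebraMap F K).injective p
  haveI : Fintype K := Fintype.ofFinite K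
  haveI : Module.Finite F K := .of_finite
  obtain ⟨γ, hγ⟩ := IsCyclic.exists_ofOrder_eq_natCard (α := Kˣ)
  rw [Nat.card_units, FiniteField.natCard_extension, Nat.card_eq_fintype_card] at hγ
  obtain ⟨st, lam, hlam, hst⟩ := exists_twistForm_double p 0 (F := F) (K := K) 0 0
    (fun x => by simp) (fun x => by simp) (fun x => by simp) (-1) (by ring) (by simp)
  rw [pow_zero] at hlam
  refine ⟨K, inferInstance, inferInstance, inferInstance, st, lam, ((γ : K), ((γ⁻¹ : Kˣ) : K)),
    by rw [Module.finrank_prod, FiniteField.finrank_extension], hlam, ?_, ?_, ?_⟩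
  · rw [hst, Prod.mk_mul_mk]
    simp
  · rw [Prod.orderOf_mk, orderOf_units, orderOf_units, orderOf_inv, Nat.lcm_self, hγ]
  · exact γ.mul_inv

theorem exists_twist_unipotent (h2 : (2 : F) ≠ 0) {d : ℕ} (hd : 1 ≤ d) :
    ∃ (st : AdjoinRoot (X ^ (d + d) : F[X]) →+* AdjoinRoot (X ^ (d + d) : F[X]))
      (lam : AdjoinRoot (X ^ (d + d) : F[X]) →ₗ[F] F), IsTwistForm 1 (-1 : F) st lam ∧
      (1 + AdjoinRoot.root (X ^ (d + d) : F[X])) * st (1 + AdjoinRoot.root (X ^ (d + d) : F[X])) = 1 := by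
  have := exists_twistForm_truncated (F := F) p 0 (fun x => by simp) (show 1 ≤ d + d by omega) (-1)
    (by ring) (by simp) ⟨1, by
      have hodd : Odd (d + d - 1) := ⟨d - 1, by omega⟩
      rw [hodd.neg_one_pow, pow_zero, pow_one]
      intro h; exact h2 (by linear_combination h)⟩
  rwa [pow_zero] at this

theorem exists_orderOf_torus {n : ℕ} (hn : 1 ≤ n) (h2 : (2 : F) ≠ 0) :
    (∃ g : Cfsg.PSp n F, orderOf g = (Fintype.card F ^ n + 1) / 2) ∧
    (∃ g : Cfsg.PSp n F, orderOf g = (Fintype.card F ^ n - 1) / 2) := by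
  have hp2 := odd_char p h2
  obtain ⟨c, hc, hq⟩ := card_eq_pow (F := F) p
  have hodd : Odd (Fintype.card F ^ n) := by
    rw [hq]
    exact (((Fact.out : p.Prime).odd_of_ne_two hp2).pow).pow
  have key : ∀ (A : Type) [CommRing A] [IsDomain A] (x : A) (N : ℕ), orderOf x = 2 * N →
      ∀ k, (x ^ k = 1 ∨ x ^ k = -1) ↔ N ∣ k := by
    intro A _ _ x N hx k
    rw [← sq_eq_one_iff, ← pow_mul, ← orderOf_dvd_iff_pow_eq_one, hx, mul_comm k 2]
    exact Nat.mul_dvd_mul_iff_left (by norm_num)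
  constructor
  · obtain ⟨K, _, _, _, st, lam, a, hfin, hl, ha, hord⟩ := exists_twist_torus_plus (F := F) p h2 hn
    obtain ⟨g, hg⟩ := exists_psp_of_twistForm hn h2 hfin hl a ha
    refine ⟨g, orderOf_eq_of_pow_iff g fun k => ?_⟩
    rw [hg]
    refine key K a _ ?_ k
    rw [hord]; obtain ⟨r, hr⟩ := hodd; omega
  · obtain ⟨K, _, _, _, st, lam, a, hfin, hl, ha, hord, hinv1⟩ :=
      exists_twist_torus_minus (F := F) p h2 hn
    obtain ⟨g, hg⟩ := exists_psp_of_twistForm hn h2 hfin hl a ha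
    refine ⟨g, orderOf_eq_of_pow_iff g fun k => ?_⟩
    rw [hg]
    have hst : a ^ k = 1 ∨ a ^ k = -1 ↔ (a ^ k) * (a ^ k) = 1 ∧ (a.1 ^ k = a.2 ^ k) := by
      obtain ⟨u, v⟩ := a
      simp only [Prod.pow_mk, Prod.mk_mul_mk, Prod.ext_iff, Prod.fst_one, Prod.snd_one,
        Prod.fst_neg, Prod.snd_neg]
      constructor
      · rintro (⟨h1, h2⟩ | ⟨h1, h2⟩) <;> simp [h1, h2]
      · rintro ⟨⟨h1, -⟩, h3⟩
        rcases mul_self_eq_one_iff.1 h1 with h | h
        · exact Or.inl ⟨h, h3 ▸ h⟩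
        · exact Or.inr ⟨h, h3 ▸ h⟩
    rw [hst, ← pow_add, ← orderOf_dvd_iff_pow_eq_one, hord]
    obtain ⟨r, hr⟩ := hodd
    have e1 : Fintype.card F ^ n - 1 = 2 * ((Fintype.card F ^ n - 1) / 2) := by omega
    constructor
    · rintro ⟨h, -⟩
      rw [e1, ← two_mul] at h
      exact (Nat.mul_dvd_mul_iff_left (by norm_num)).1 h
    · intro h
      have hd : Fintype.card F ^ n - 1 ∣ k + k := by
        rw [e1, ← two_mul]; exact Nat.mul_dvd_mul_left 2 h
      refine ⟨hd, ?_⟩
      have h1 := orderOf_dvd_iff_pow_eq_one.1 (hord ▸ hd : orderOf a ∣ k + k)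
      rw [pow_add] at h1
      obtain ⟨u, v⟩ := a
      simp only [Prod.pow_mk, Prod.mk_mul_mk, Prod.ext_iff, Prod.fst_one, Prod.snd_one] at h1 ⊢
      obtain ⟨hu, hv⟩ := h1
      have hinv : u ^ k * v ^ k = 1 := by rw [← mul_pow, hinv1, one_pow]
      calc u ^ k = u ^ k * (u ^ k * v ^ k) := by rw [hinv, mul_one]
        _ = v ^ k := by rw [← mul_assoc, hu, one_mul]

theorem truncated_pow_eq_iff (h2 : (2 : F) ≠ 0) {m : ℕ} (hm : 1 ≤ m) (k : ℕ) :
    ((1 + AdjoinRoot.root (X ^ m : F[X])) ^ k = 1 ∨ (1 + AdjoinRoot.root (X ^ m : F[X])) ^ k = -1) ↔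
      p ^ Nat.clog p m ∣ k := by
  obtain ⟨-, hord, ⟨ev, hev⟩, -⟩ := truncated_one_add_root (F := F) p hm
  constructor
  · rintro (h | h)
    · exact hord ▸ orderOf_dvd_of_pow_eq_one h
    · have := congrArg ev h
      rw [map_pow, hev, one_pow, map_neg, map_one] at this
      exact absurd this.symm (neg_one_ne_one_of_two h2)
  · intro h
    left
    rw [← orderOf_dvd_iff_pow_eq_one, hord]
    exact h

theorem exists_orderOf_unipotent {n : ℕ} (hn : 1 ≤ n) (h2 : (2 : F) ≠ 0) :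
    ∃ g : Cfsg.PSp n F, orderOf g = p ^ Nat.clog p (n + n) := by
  obtain ⟨st, lam, hl, ha⟩ := exists_twist_unipotent (F := F) p h2 hn
  haveI : Module.Finite F (AdjoinRoot (X ^ (n + n) : F[X])) :=
    (AdjoinRoot.powerBasis (pow_ne_zero _ X_ne_zero)).finite
  obtain ⟨g, hg⟩ := exists_psp_of_twistForm hn h2
    (truncated_one_add_root (F := F) p (show 1 ≤ n + n by omega)).1 hl _ ha
  exact ⟨g, orderOf_eq_of_pow_iff g fun k => by rw [hg, truncated_pow_eq_iff p h2 (by omega)]⟩

theorem exists_twist_torus (h2 : (2 : F) ≠ 0) {d T : ℕ} (hd : 1 ≤ d)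
    (hT : T ∣ Fintype.card F ^ d + 1 ∨ T ∣ Fintype.card F ^ d - 1) :
    ∃ (A : Type) (_ : CommRing A) (_ : Algebra F A) (_ : Module.Finite F A) (_ : Nontrivial A)
      (st : A →+* A) (lam : A →ₗ[F] F) (a : A), Module.finrank F A = d + d ∧
      IsTwistForm 1 (-1 : F) st lam ∧ a * st a = 1 ∧ orderOf a = T := by
  have hq : 1 < Fintype.card F ^ d := Nat.one_lt_pow (by omega) Fintype.one_lt_card
  rcases hT with hT | hT
  · obtain ⟨K, _, _, _, st, lam, a, h1, h2', h3, h4⟩ := exists_twist_torus_plus (F := F) p h2 hd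
    refine ⟨K, inferInstance, inferInstance, inferInstance, inferInstance, st, lam,
      a ^ (orderOf a / T), h1, h2', ?_, orderOf_pow_orderOf_div (by omega) (h4 ▸ hT)⟩
    rw [map_pow, ← mul_pow, h3, one_pow]
  · obtain ⟨K, _, _, _, st, lam, a, h1, h2', h3, h4, -⟩ :=
      exists_twist_torus_minus (F := F) p h2 hd
    refine ⟨K × K, inferInstance, inferInstance, inferInstance, inferInstance, st, lam,
      a ^ (orderOf a / T), h1, h2', ?_, orderOf_pow_orderOf_div (by omega) (h4 ▸ hT)⟩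
    rw [map_pow, ← mul_pow, h3, one_pow]

theorem exists_orderOf_mixed {n d T : ℕ} (h2 : (2 : F) ≠ 0) (hd : 1 ≤ d) (hdn : d < n)
    (hT : T ∣ Fintype.card F ^ d + 1 ∨ T ∣ Fintype.card F ^ d - 1) (hTodd : Odd T) :
    ∃ g : Cfsg.PSp n F, 2 * T * p ^ Nat.clog p ((n - d) + (n - d)) ∣ orderOf g := by
  obtain ⟨A, _, _, _, _, st, lam, a, hA, hl, ha, hord⟩ := exists_twist_torus p h2 hd hT
  set m := (n - d) + (n - d) with hm
  obtain ⟨st', lam', hl', ha'⟩ := exists_twist_unipotent (F := F) p h2 (show 1 ≤ n - d by omega)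
  haveI : Module.Finite F (AdjoinRoot (X ^ m : F[X])) :=
    (AdjoinRoot.powerBasis (pow_ne_zero _ X_ne_zero)).finite
  obtain ⟨hfin, hordu, ⟨ev, hev⟩, -⟩ := truncated_one_add_root (F := F) p (show 1 ≤ m by omega)
  haveI : Module.Free F A := Module.Free.of_divisionRing F A
  haveI : Module.Free F (AdjoinRoot (X ^ m : F[X])) := Module.Free.of_divisionRing F _
  have hfin' : Module.finrank F (A × AdjoinRoot (X ^ m : F[X])) = n + n := by
    rw [Module.finrank_prod, hA, hfin]; omega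
  obtain ⟨g, hg⟩ := exists_psp_of_twistForm (show 1 ≤ n by omega) h2 hfin'
    (hl.prod hl' fun x y => by simp) (a, -(1 + AdjoinRoot.root (X ^ m : F[X])))
    (by
      show (a, -(1 + AdjoinRoot.root (X ^ m : F[X]))) *
        (st a, st' (-(1 + AdjoinRoot.root (X ^ m : F[X])))) = 1
      rw [Prod.mk_mul_mk, ha, map_neg, neg_mul_neg, ha']
      rfl)
  refine ⟨g, ?_⟩
  have hk : ∀ k, g ^ k = 1 → 2 * T * p ^ Nat.clog p m ∣ k := by
    intro k hk
    rw [hg] at hk
    obtain ⟨ε, hε, h1, h3⟩ : ∃ ε : ℤ, (ε = 1 ∨ ε = -1) ∧ a ^ k = (ε : A) ∧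
        (-(1 + AdjoinRoot.root (X ^ m : F[X]))) ^ k = (ε : AdjoinRoot (X ^ m : F[X])) := by
      rcases hk with hk | hk
      · exact ⟨1, Or.inl rfl, by simpa using congrArg Prod.fst hk, by simpa using congrArg Prod.snd hk⟩
      · exact ⟨-1, Or.inr rfl, by simpa using congrArg Prod.fst hk, by simpa using congrArg Prod.snd hk⟩
    rw [neg_pow] at h3
    have h4 := congrArg ev h3
    rw [map_mul, map_pow, map_pow, hev, one_pow, mul_one, map_neg, map_one, map_intCast] at h4
    rcases Nat.even_or_odd k with hek | hok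
    · have hε1 : ε = 1 := by
        rcases hε with rfl | rfl
        · rfl
        · rw [hek.neg_one_pow] at h4
          exact absurd (by simpa using h4.symm) (neg_one_ne_one_of_two (R := F) h2)
      subst hε1
      rw [hek.neg_one_pow, one_mul, Int.cast_one] at h3
      rw [Int.cast_one] at h1
      have hT' : T ∣ k := hord ▸ orderOf_dvd_of_pow_eq_one h1
      have hP : p ^ Nat.clog p m ∣ k := hordu ▸ orderOf_dvd_of_pow_eq_one h3
      have hco2 : Nat.Coprime 2 T := Nat.coprime_two_left.2 hTodd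
      have hcoP : Nat.Coprime (2 * T) (p ^ Nat.clog p m) := by
        apply Nat.Coprime.pow_right
        rw [Nat.coprime_comm, (Fact.out : p.Prime).coprime_iff_not_dvd]
        intro hdvd
        rcases (Fact.out : p.Prime).dvd_mul.1 hdvd with h | h
        · exact odd_char p h2 ((Nat.prime_dvd_prime_iff_eq Fact.out Nat.prime_two).1 h)
        · obtain ⟨c, hc, hq⟩ := card_eq_pow (F := F) p
          have hpq : p ∣ Fintype.card F ^ d := dvd_pow (hq ▸ dvd_pow_self p (by omega)) (by omega)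
          have hq1 : 1 ≤ Fintype.card F ^ d := Nat.one_le_pow _ _ Fintype.card_pos
          rcases hT with hT | hT
          · exact (Fact.out : p.Prime).not_dvd_one
              ((Nat.dvd_add_right hpq).1 (h.trans hT))
          · have := Nat.dvd_sub hpq (h.trans hT)
            rw [Nat.sub_sub_self hq1] at this
            exact (Fact.out : p.Prime).not_dvd_one this
      exact hcoP.mul_dvd_of_dvd_of_dvd (hco2.mul_dvd_of_dvd_of_dvd hek.two_dvd hT') hP
    · exfalso
      have hε1 : ε = -1 := by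
        rcases hε with rfl | rfl
        · rw [hok.neg_one_pow] at h4
          exact absurd (by simpa using h4) (neg_one_ne_one_of_two (R := F) h2)
        · rfl
      subst hε1
      apply neg_one_ne_one_of_two (R := A) h2
      have h5 : (a ^ k) ^ T = 1 := by
        rw [← pow_mul, mul_comm, pow_mul, ← hord, pow_orderOf_eq_one, one_pow]
      rw [h1, Int.cast_neg, Int.cast_one, hTodd.neg_one_pow] at h5
      exact h5
  exact hk _ (pow_orderOf_eq_one g)

end finite

end CfsgLib.Spectrum
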