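import Cfsg.Agent.Lib.Spectrum.LinearConstructions
import Mathlib.Algebra.Polynomial.SpecificDegree
import Mathlib.LinearAlgebra.Matrix.Charpoly.Minpoly

/-! The element orders of the three-dimensional projective special linear groups. -/

set_option autoImplicit false

open Polynomial

namespace CfsgLib.Spectrum

variable {F : Type*} [Field F]

theorem pslMk_pow_eq_one_of_charpoly_dvd {n : ℕ} (g : Matrix.SpecialLinearGroup (Fin n) F) {k : ℕ} {s : F}
    (h : (g : Matrix (Fin n) (Fin n) F).charpoly ∣ X ^ k - C s) :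
    orderOf (QuotientGroup.mk g : Matrix.ProjectiveSpecialLinearGroup (Fin n) F) ∣ k := by
  refine orderOf_dvd_of_pow_eq_one ((pslMk_pow_eq_one_iff g k).2 ⟨s, ?_⟩)
  obtain ⟨c, hc⟩ := h
  have := congrArg (aeval (g : Matrix (Fin n) (Fin n) F)) hc
  rw [map_mul, Matrix.aeval_self_charpoly, zero_mul, map_sub, map_pow, aeval_X, aeval_C, sub_eq_zero] at this
  exact this

theorem X_sub_C_dvd_pow_sub (a : F) (k : ℕ) : X - C a ∣ X ^ k - C (a ^ k) := by
  rw [C_pow]; exact sub_dvd_pow_sub_pow X (C a) k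

theorem X_sub_C_pow_dvd (p : ℕ) [Fact p.Prime] [CharP F p] (a : F) {i : ℕ} (hi : i ≤ p) (m : ℕ) :
    (X - C a) ^ i ∣ X ^ (p * m) - C (a ^ (p * m)) := by
  refine (pow_dvd_pow _ hi).trans ?_
  rw [sub_pow_char, ← C_pow, pow_mul, pow_mul a, C_pow (a := a ^ p)]
  exact sub_dvd_pow_sub_pow _ _ m

theorem dvd_mul_iff_div_gcd {a b k d : ℕ} (ha : 0 < a) (hd : Nat.gcd a b = d) :
    a ∣ k * b ↔ a / d ∣ k := by
  subst hd
  have hpos := Nat.gcd_pos_of_pos_left b ha
  have h1 : a = a / Nat.gcd a b * Nat.gcd a b := (Nat.div_mul_cancel (Nat.gcd_dvd_left a b)).symm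
  have h2 : b = b / Nat.gcd a b * Nat.gcd a b := (Nat.div_mul_cancel (Nat.gcd_dvd_right a b)).symm
  conv_lhs => rw [h1]; arg 2; rw [h2]
  rw [← mul_assoc, Nat.mul_dvd_mul_iff_right hpos]
  exact (Nat.coprime_div_gcd_div_gcd hpos).dvd_mul_right

variable [Fintype F]

theorem root_pow_mem {f : F[X]} [Fact (Irreducible f)] (hf : f.Monic) {k : ℕ}
    (h : AdjoinRoot.root f ^ (k * Fintype.card F) = AdjoinRoot.root f ^ k) :
    ∃ c : F, f ∣ X ^ k - C c ∧ algebraMap F (AdjoinRoot f) c = AdjoinRoot.root f ^ k := by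
  obtain ⟨c, hc⟩ := exists_algebraMap_eq_of_pow_card (F := F) (AdjoinRoot.root f ^ k) (by rwa [← pow_mul])
  refine ⟨c, ?_, hc⟩
  rw [← AdjoinRoot.mk_eq_zero, map_sub, map_pow, AdjoinRoot.mk_X, AdjoinRoot.mk_C,
    ← AdjoinRoot.algebraMap_eq, hc, sub_self]

theorem root_pow_geomExp {f : F[X]} [Fact (Irreducible f)] (hf : f.Monic) :
    AdjoinRoot.root f ^ geomExp (Fintype.card F) f.natDegree =
      algebraMap F (AdjoinRoot f) ((-1) ^ f.natDegree * f.eval 0) := by
  have hfi : Irreducible f := Fact.out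
  haveI : Module.Finite F (AdjoinRoot f) := (AdjoinRoot.powerBasis hfi.ne_zero).finite
  haveI : Finite (AdjoinRoot f) := Module.finite_of_finite F
  have h := Algebra.PowerBasis.norm_gen_eq_coeff_zero_minpoly (AdjoinRoot.powerBasis hfi.ne_zero)
  rw [AdjoinRoot.powerBasis_gen, AdjoinRoot.powerBasis_dim, AdjoinRoot.minpoly_root hfi.ne_zero,
    hf.leadingCoeff, inv_one, C_1, mul_one, coeff_zero_eq_eval_zero] at h
  rw [← h, FiniteField.algebraMap_norm_eq_pow_sum, Nat.card_eq_fintype_card,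
    (AdjoinRoot.powerBasis hfi.ne_zero).finrank, AdjoinRoot.powerBasis_dim]
  rfl

/-- The upper bound. -/
theorem orderOf_psl_three_dvd (p : ℕ) [Fact p.Prime] [CharP F p] (g : Matrix.SpecialLinearGroup (Fin 3) F)
    (q d : ℕ) (hq : Fintype.card F = q) (hd : Nat.gcd 3 (q - 1) = d) :
    let o := orderOf (QuotientGroup.mk g : Matrix.ProjectiveSpecialLinearGroup (Fin 3) F)
    o ∣ (q ^ 2 + q + 1) / d ∨ o ∣ (q ^ 2 - 1) / d ∨ o ∣ q - 1 ∨ o ∣ p * (q - 1) / d ∨ (p = 2 ∧ o ∣ 4) := by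
  intro o
  set P := (g : Matrix (Fin 3) (Fin 3) F).charpoly with hPdef
  have hP : P.Monic := Matrix.charpoly_monic _
  have hPd : P.natDegree = 3 := by rw [hPdef, Matrix.charpoly_natDegree_eq_dim, Fintype.card_fin]
  have hP0 : P.eval 0 = -1 := by
    have h := Matrix.det_eq_sign_charpoly_coeff (g : Matrix (Fin 3) (Fin 3) F)
    rw [g.2, Fintype.card_fin, ← hPdef, coeff_zero_eq_eval_zero] at h
    linear_combination h
  have hq2 : 2 ≤ q := hq ▸ Fintype.one_lt_card
  obtain ⟨m, hm⟩ : d ∣ q - 1 := hd ▸ Nat.gcd_dvd_right 3 (q - 1)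
  obtain ⟨t, ht⟩ : d ∣ 3 := hd ▸ Nat.gcd_dvd_left 3 (q - 1)
  have hdpos : 0 < d := hd ▸ Nat.gcd_pos_of_pos_left _ (by norm_num)
  have hqq : Fintype.card F = (q - 1) + 1 := by omega
  have hunit : ∀ {x : F}, x ≠ 0 → x ^ (q - 1) = 1 := fun {x} hx => hq ▸ FiniteField.pow_card_sub_one_eq_one x hx
  -- three times `m` kills the multiplicative group
  have h3m : ∀ {x : F}, x ≠ 0 → x ^ (3 * m) = 1 := fun {x} hx => by
    rw [show 3 * m = (q - 1) * t by rw [hm, ht]; ring, pow_mul, hunit hx, one_pow]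
  by_cases hirr : Irreducible P
  · left
    haveI := Fact.mk hirr
    have hgeo : geomExp q 3 = q ^ 2 + q + 1 := by simp [geomExp, Finset.sum_range_succ]; ring
    have h1 := root_pow_geomExp (f := P) hP
    rw [hPd, hP0, hq, hgeo] at h1
    obtain ⟨N, hN⟩ : d ∣ q ^ 2 + q + 1 := by
      rw [← hd, ← hgeo, ← gcd_geomExp (by omega : 1 ≤ q)]
      exact Nat.gcd_dvd_left _ _
    rw [hN, Nat.mul_div_cancel_left _ hdpos]
    have h2 : AdjoinRoot.root P ^ (q ^ 2 + q + 1) = 1 := by rw [h1]; simp; norm_num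
    obtain ⟨c, hc, -⟩ := root_pow_mem (f := P) hP (k := N) (by
      rw [hqq, mul_add, mul_one, pow_add, hm, show N * (d * m) = (q ^ 2 + q + 1) * m by rw [hN]; ring,
        pow_mul, h2, one_pow, one_mul])
    exact pslMk_pow_eq_one_of_charpoly_dvd g hc
  obtain ⟨c, hcroot⟩ : ∃ c, P.IsRoot c := by
    by_contra h
    refine hirr ((hP.irreducible_iff_roots_eq_zero_of_degree_le_three (by omega) (by omega)).2 ?_)
    exact Multiset.eq_zero_of_forall_notMem fun c hc => h ⟨c, isRoot_of_mem_roots hc⟩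
  obtain ⟨Q, hQ⟩ := dvd_iff_isRoot.2 hcroot
  have hQm : Q.Monic := (monic_X_sub_C c).of_mul_monic_left (hQ ▸ hP)
  have hQd : Q.natDegree = 2 := by
    have := congrArg natDegree hQ
    rw [hPd, (monic_X_sub_C c).natDegree_mul hQm, natDegree_X_sub_C] at this
    omega
  have hcQ : c * Q.eval 0 = 1 := by
    rw [hQ, eval_mul, eval_sub, eval_X, eval_C] at hP0
    linear_combination -hP0
  have hc0 : c ≠ 0 := left_ne_zero_of_mul_eq_one hcQ
  by_cases hQi : Irreducible Q
  · right; left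
    haveI := Fact.mk hQi
    have hN : (q ^ 2 - 1) / d = m * (q + 1) := by
      rw [show q ^ 2 - 1 = (q + 1) * (q - 1) by rw [← Nat.sq_sub_sq, one_pow], hm,
        show (q + 1) * (d * m) = d * (m * (q + 1)) by ring, Nat.mul_div_cancel_left _ hdpos]
    rw [hN]
    have h1 := root_pow_geomExp (f := Q) hQm
    rw [hQd, hq, neg_one_sq, one_mul, show geomExp q 2 = q + 1 by simp [geomExp, Finset.sum_range_succ]; ring] at h1
    have h2 : AdjoinRoot.root Q ^ (m * (q + 1)) = algebraMap F _ (Q.eval 0 ^ m) := by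
      rw [mul_comm, pow_mul, h1, map_pow]
    have h3 : Q.eval 0 ^ m = c ^ (m * (q + 1)) := by
      have hx : c ^ m * Q.eval 0 ^ m = 1 := by rw [← mul_pow, hcQ, one_pow]
      have hy : c ^ m * c ^ (m * (q + 1)) = 1 := by
        rw [← pow_add, show m + m * (q + 1) = (q - 1) * m + 3 * m by
          obtain ⟨q', rfl⟩ : ∃ q', q = q' + 1 := ⟨q - 1, by omega⟩
          simp; ring, pow_add, pow_mul, hunit hc0, h3m hc0, one_pow, one_mul]
      exact mul_left_cancel₀ (pow_ne_zero m hc0) (hx.trans hy.symm)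
    refine pslMk_pow_eq_one_of_charpoly_dvd g (s := c ^ (m * (q + 1))) ?_
    rw [← hPdef, hQ]
    refine IsCoprime.mul_dvd ((irreducible_X_sub_C c).coprime_iff_not_dvd.2 fun hd' => ?_)
      (X_sub_C_dvd_pow_sub c _) ?_
    · have h4 := natDegree_eq_of_degree_eq (degree_eq_degree_of_associated
        ((irreducible_X_sub_C c).associated_of_dvd hQi hd'))
      rw [natDegree_X_sub_C, hQd] at h4
      omega
    · rw [← AdjoinRoot.mk_eq_zero, map_sub, map_pow, AdjoinRoot.mk_X, AdjoinRoot.mk_C,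
        ← AdjoinRoot.algebraMap_eq, h2, h3, sub_self]
  obtain ⟨a, haroot⟩ : ∃ a, Q.IsRoot a := by
    by_contra h
    refine hQi ((hQm.irreducible_iff_roots_eq_zero_of_degree_le_three (by omega) (by omega)).2 ?_)
    exact Multiset.eq_zero_of_forall_notMem fun a ha => h ⟨a, isRoot_of_mem_roots ha⟩
  obtain ⟨L, hL⟩ := dvd_iff_isRoot.2 haroot
  have hLm : L.Monic := (monic_X_sub_C a).of_mul_monic_left (hL ▸ hQm)
  have hLd : L.natDegree = 1 := by
    have := congrArg natDegree hL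
    rw [hQd, (monic_X_sub_C a).natDegree_mul hLm, natDegree_X_sub_C] at this
    omega
  obtain ⟨b, rfl⟩ : ∃ b, L = X - C b :=
    ⟨-L.coeff 0, by rw [map_neg, sub_neg_eq_add]; exact hLm.eq_X_add_C hLd⟩
  have habc : a * b * c = 1 := by
    rw [hL, eval_mul, eval_sub, eval_sub, eval_X, eval_C, eval_C] at hcQ
    linear_combination hcQ
  have ha0 : a ≠ 0 := fun h => by simp [h] at habc
  have hb0 : b ≠ 0 := fun h => by simp [h] at habc
  rw [hL] at hQ
  have hpm : p * (q - 1) / d = p * m := by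
    rw [hm, show p * (d * m) = d * (p * m) by ring, Nat.mul_div_cancel_left _ hdpos]
  -- a repeated root
  have rep : ∀ u v : F, P = (X - C u) ^ 2 * (X - C v) → u ≠ 0 → u * u * v = 1 →
      o ∣ p * (q - 1) / d ∨ (p = 2 ∧ o ∣ 4) := by
    intro u v hPuv hu huv
    have hv : v ≠ 0 := fun h => by simp [h] at huv
    have hp2 := (Fact.out : p.Prime).two_le
    rcases eq_or_ne u v with rfl | hne
    · rw [← pow_succ] at hPuv
      rcases eq_or_lt_of_le hp2 with h2 | h2
      · subst h2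
        right
        refine ⟨rfl, pslMk_pow_eq_one_of_charpoly_dvd g (s := u ^ 4) ?_⟩
        rw [← hPdef, hPuv]
        refine (pow_dvd_pow _ (show 3 ≤ 2 ^ 2 by norm_num)).trans ?_
        rw [sub_pow_char_pow, ← C_pow]
        norm_num
      · left
        rw [hpm]
        refine pslMk_pow_eq_one_of_charpoly_dvd g (s := u ^ (p * m)) ?_
        rw [← hPdef, hPuv]
        exact X_sub_C_pow_dvd p u h2 m
    · left
      rw [hpm]
      refine pslMk_pow_eq_one_of_charpoly_dvd g (s := u ^ (p * m)) ?_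
      rw [← hPdef, hPuv]
      refine IsCoprime.mul_dvd (IsCoprime.pow_left ?_) (X_sub_C_pow_dvd p u hp2 m) ?_
      · exact isCoprime_X_sub_C_of_isUnit_sub (sub_ne_zero.2 hne).isUnit
      · have : u ^ (p * m) = v ^ (p * m) := by
          have hx : (u * u) ^ (p * m) * v ^ (p * m) = 1 := by rw [← mul_pow, huv, one_pow]
          have hy : (u * u) ^ (p * m) * u ^ (p * m) = 1 := by
            rw [← mul_pow, show u * u * u = u ^ 3 by ring, ← pow_mul, show 3 * (p * m) = 3 * m * p by ring,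
              pow_mul, h3m hu, one_pow]
          exact mul_left_cancel₀ (pow_ne_zero _ (mul_ne_zero hu hu)) (hy.trans hx.symm)
        rw [this]
        exact X_sub_C_dvd_pow_sub v _
  rcases eq_or_ne a b with rfl | hab
  · exact Or.inr (Or.inr (Or.inr (rep a c (by rw [hQ]; ring) ha0 (by linear_combination habc))))
  rcases eq_or_ne a c with rfl | hac
  · exact Or.inr (Or.inr (Or.inr (rep a b (by rw [hQ]; ring) ha0 (by linear_combination habc))))
  rcases eq_or_ne b c with rfl | hbc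
  · exact Or.inr (Or.inr (Or.inr (rep b a (by rw [hQ]; ring) hb0 (by linear_combination habc))))
  refine Or.inr (Or.inr (Or.inl (pslMk_pow_eq_one_of_charpoly_dvd g (s := 1) ?_)))
  rw [← hPdef, hQ]
  have hdvd : ∀ {x : F}, x ≠ 0 → X - C x ∣ X ^ (q - 1) - C 1 := fun {x} hx => by
    rw [← hunit hx]; exact X_sub_C_dvd_pow_sub x _
  refine IsCoprime.mul_dvd (IsCoprime.mul_right ?_ ?_) (hdvd hc0)
    (IsCoprime.mul_dvd ?_ (hdvd ha0) (hdvd hb0)) <;>
    apply isCoprime_X_sub_C_of_isUnit_sub <;> refine (sub_ne_zero.2 ?_).isUnit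
  exacts [hac.symm, hbc.symm, hab]

/-- The split torus. -/
theorem exists_orderOf_split (q : ℕ) (hq : Fintype.card F = q) :
    ∃ g : Matrix.ProjectiveSpecialLinearGroup (Fin 3) F, orderOf g = q - 1 := by
  classical
  obtain ⟨ζ, hζ⟩ := IsCyclic.exists_ofOrder_eq_natCard (α := Fˣ)
  rw [Nat.card_eq_fintype_card, Fintype.card_units, hq] at hζ
  let x : F × F × F := ((ζ : F), (ζ : F)⁻¹, 1)
  have hfin : Module.finrank F (F × F × F) = 3 := by simp [Module.finrank_prod]
  have hx : Algebra.norm F x = 1 := by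
    rw [Algebra.norm_apply, show (Algebra.lmul F (F × F × F)) x =
      (LinearMap.mulLeft F (ζ : F)).prodMap ((LinearMap.mulLeft F (ζ : F)⁻¹).prodMap (LinearMap.mulLeft F (1 : F))) from
      LinearMap.ext fun y => rfl, LinearMap.det_prodMap, LinearMap.det_prodMap]
    simp
  obtain ⟨g, hg⟩ := exists_psl_of_algebra (F := F) hfin x hx
  refine ⟨g, orderOf_eq_of_pow_iff g fun k => ?_⟩
  rw [hg, ← hζ, orderOf_dvd_iff_pow_eq_one]
  constructor
  · rintro ⟨c, hc⟩
    simp only [x, Prod.pow_mk, Prod.algebraMap_apply, Algebra.algebraMap_self, RingHom.id_apply,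
      Prod.mk.injEq, one_pow] at hc
    exact Units.ext (by rw [Units.val_pow_eq_pow_val, hc.1, ← hc.2.2, Units.val_one])
  · intro h
    have h' : (ζ : F) ^ k = 1 := by rw [← Units.val_pow_eq_pow_val, h, Units.val_one]
    exact ⟨1, by simp [x, h']⟩

/-- The mixed torus. -/
theorem exists_orderOf_quadratic (q d : ℕ) (hq : Fintype.card F = q) (hd : Nat.gcd 3 (q - 1) = d) :
    ∃ g : Matrix.ProjectiveSpecialLinearGroup (Fin 3) F, orderOf g = (q ^ 2 - 1) / d := by
  obtain ⟨p, hp⟩ := CharP.exists F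
  haveI : Fact p.Prime := ⟨CharP.char_is_prime F p⟩
  let K := FiniteField.Extension F p 2
  haveI : Fintype K := Fintype.ofFinite K
  have hq2 : 2 ≤ q := hq ▸ Fintype.one_lt_card
  have hK : Fintype.card K = q ^ 2 := by
    rw [← Nat.card_eq_fintype_card, FiniteField.natCard_extension, Nat.card_eq_fintype_card, hq]
  obtain ⟨γ, hγ⟩ := IsCyclic.exists_ofOrder_eq_natCard (α := Kˣ)
  rw [Nat.card_units, Nat.card_eq_fintype_card, hK] at hγ
  have hfK : Module.finrank F K = 2 := FiniteField.finrank_extension F p 2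
  have hN : algebraMap F K (Algebra.norm F (γ : K)) = (γ : K) ^ (q + 1) := by
    rw [FiniteField.algebraMap_norm_eq_pow_sum, hfK, Nat.card_eq_fintype_card, hq]
    simp [Finset.sum_range_succ, add_comm]
  have hN0 : Algebra.norm F (γ : K) ≠ 0 := by simp [Algebra.norm_eq_zero_iff]
  let x : K × F := ((γ : K), (Algebra.norm F (γ : K))⁻¹)
  have hfin : Module.finrank F (K × F) = 3 := by rw [Module.finrank_prod, hfK, Module.finrank_self]
  have hx : Algebra.norm F x = 1 := by
    rw [Algebra.norm_apply, show (Algebra.lmul F (K × F)) x =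
      (LinearMap.mulLeft F (γ : K)).prodMap (LinearMap.mulLeft F (Algebra.norm F (γ : K))⁻¹) from
      LinearMap.ext fun y => rfl, LinearMap.det_prodMap,
      show LinearMap.det (LinearMap.mulLeft F (γ : K)) = Algebra.norm F (γ : K) from (Algebra.norm_apply F (γ : K)).symm]
    simp [hN0]
  obtain ⟨g, hg⟩ := exists_psl_of_algebra (F := F) hfin x hx
  refine ⟨g, orderOf_eq_of_pow_iff g fun k => ?_⟩
  have hgcd : Nat.gcd (q ^ 2 - 1) (q + 2) = d := by
    have e : q ^ 2 - 1 = (q + 1) * (q - 1) := by rw [← Nat.sq_sub_sq, one_pow]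
    have c1 : Nat.Coprime (q + 1) (q + 2) := by
      rw [show q + 2 = (q + 1) + 1 from rfl, Nat.coprime_self_add_right]
      exact Nat.coprime_one_right _
    rw [e, Nat.Coprime.gcd_mul_left_cancel _ c1, ← hd, Nat.gcd_comm 3,
      show q + 2 = 3 + (q - 1) by omega, Nat.gcd_add_self_right]
  rw [hg, ← dvd_mul_iff_div_gcd (by have := Nat.pow_le_pow_left hq2 2; omega) hgcd, ← hγ,
    orderOf_dvd_iff_pow_eq_one]
  have key : (γ ^ (k * (q + 2)) = 1) ↔
      (γ : K) ^ k = algebraMap F K ((Algebra.norm F (γ : K))⁻¹ ^ k) := by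
    rw [← Units.val_eq_one, Units.val_pow_eq_pow_val, inv_pow, map_inv₀, map_pow, hN, ← pow_mul,
      show k * (q + 2) = k + (q + 1) * k by ring, pow_add]
    exact mul_eq_one_iff_eq_inv₀ (pow_ne_zero _ γ.ne_zero)
  rw [key]
  constructor
  · rintro ⟨c, hc⟩
    simp only [x, Prod.pow_mk, Prod.algebraMap_apply, Algebra.algebraMap_self, RingHom.id_apply,
      Prod.mk.injEq] at hc
    rw [hc.1, hc.2]
  · intro h
    exact ⟨(Algebra.norm F (γ : K))⁻¹ ^ k, Prod.ext h rfl⟩

/-- A semisimple times a unipotent element. -/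
theorem exists_orderOf_pslThreeMixed (p : ℕ) [Fact p.Prime] [CharP F p] (q d : ℕ) (hq : Fintype.card F = q)
    (hd : Nat.gcd 3 (q - 1) = d) :
    ∃ g : Matrix.ProjectiveSpecialLinearGroup (Fin 3) F, orderOf g = p * (q - 1) / d := by
  classical
  obtain ⟨ζ, hζ⟩ := IsCyclic.exists_ofOrder_eq_natCard (α := Fˣ)
  rw [Nat.card_eq_fintype_card, Fintype.card_units, hq] at hζ
  obtain ⟨hfin, hord, ⟨ev, hev⟩, hnorm⟩ := truncated_one_add_root (F := F) p (show 1 ≤ 2 by norm_num)
  have hp : p.Prime := Fact.out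
  rw [show Nat.clog p 2 = 1 from Nat.clog_eq_one le_rfl hp.two_le, pow_one] at hord
  set A := AdjoinRoot (X ^ 2 : F[X])
  set w : A := 1 + AdjoinRoot.root (X ^ 2 : F[X])
  haveI : Module.Finite F A := (AdjoinRoot.powerBasis (pow_ne_zero _ X_ne_zero)).finite
  haveI : Module.Free F A := Module.Free.of_divisionRing F A
  have hfinB : Module.finrank F (A × F) = 3 := by
    rw [Module.finrank_prod, hfin, Module.finrank_self]
  let x : A × F := (algebraMap F A (ζ : F) * w, ((ζ : F) ^ 2)⁻¹)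
  have hx : Algebra.norm F x = 1 := by
    rw [Algebra.norm_apply, show (Algebra.lmul F (A × F)) x =
      (LinearMap.mulLeft F (algebraMap F A (ζ : F) * w)).prodMap (LinearMap.mulLeft F ((ζ : F) ^ 2)⁻¹) from
      LinearMap.ext fun y => rfl, LinearMap.det_prodMap,
      show LinearMap.det (LinearMap.mulLeft F (algebraMap F A (ζ : F) * w)) =
        Algebra.norm F (algebraMap F A (ζ : F) * w) from (Algebra.norm_apply F _).symm,
      map_mul, Algebra.norm_algebraMap, hfin, hnorm]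
    simp
  obtain ⟨g, hg⟩ := exists_psl_of_algebra (F := F) hfinB x hx
  refine ⟨g, orderOf_eq_of_pow_iff g fun k => ?_⟩
  have hq2 : 2 ≤ q := hq ▸ Fintype.one_lt_card
  have hcop : Nat.Coprime p ((q - 1) / d) := by
    obtain ⟨a, -, hcard⟩ := FiniteField.card F p
    refine hp.coprime_iff_not_dvd.2 fun h => ?_
    have h1 : p ∣ q - 1 := h.trans (Nat.div_dvd_of_dvd (hd ▸ Nat.gcd_dvd_right 3 (q - 1)))
    have h2 : p ∣ q := by rw [← hq, hcard]; exact dvd_pow_self p a.ne_zero
    have h3 := Nat.dvd_sub h2 h1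
    rw [Nat.sub_sub_self (by omega)] at h3
    exact hp.ne_one (Nat.dvd_one.1 h3)
  have hiff : (ζ : F) ^ (k * 3) = 1 ↔ (q - 1) / d ∣ k := by
    rw [← dvd_mul_iff_div_gcd (b := 3) (by omega) (by rw [Nat.gcd_comm, hd]), ← hζ,
      orderOf_dvd_iff_pow_eq_one, ← Units.val_eq_one, Units.val_pow_eq_pow_val]
  have hz : (ζ : F) ^ k ≠ 0 := pow_ne_zero _ ζ.ne_zero
  rw [Nat.mul_div_assoc _ (hd ▸ Nat.gcd_dvd_right 3 (q - 1)), hg]
  constructor
  · rintro ⟨c, hc⟩
    simp only [x, Prod.pow_mk, Prod.algebraMap_apply, Algebra.algebraMap_self, RingHom.id_apply,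
      Prod.mk.injEq, mul_pow, ← map_pow] at hc
    obtain ⟨h1, h2⟩ := hc
    have he := congrArg ev h1
    rw [map_mul, map_pow ev w, hev, one_pow, mul_one, AlgHom.commutes, AlgHom.commutes] at he
    simp only [Algebra.algebraMap_self, RingHom.id_apply] at he
    have h3 : (ζ : F) ^ (k * 3) = 1 := by
      rw [← h2, inv_pow, ← mul_eq_one_iff_eq_inv₀ (pow_ne_zero _ (pow_ne_zero _ ζ.ne_zero))] at he
      rw [← he]; ring
    rw [← he] at h1
    have hw : w ^ k = 1 := (hz.isUnit.map (algebraMap F A)).mul_left_cancel (by rw [mul_one]; exact h1)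
    exact hcop.mul_dvd_of_dvd_of_dvd (hord ▸ orderOf_dvd_of_pow_eq_one hw) (hiff.1 h3)
  · intro hk
    have h1 : w ^ k = 1 := orderOf_dvd_iff_pow_eq_one.1 (hord ▸ (dvd_mul_right _ _).trans hk)
    have h3 : (ζ : F) ^ (k * 3) = 1 := hiff.2 ((dvd_mul_left _ _).trans hk)
    refine ⟨(ζ : F) ^ k, Prod.ext ?_ ?_⟩
    · show (algebraMap F A (ζ : F) * w) ^ k = algebraMap F A ((ζ : F) ^ k)
      rw [mul_pow, h1, mul_one, map_pow]
    · show ((ζ : F) ^ 2)⁻¹ ^ k = (ζ : F) ^ k
      rw [inv_pow, inv_eq_iff_eq_inv, ← mul_eq_one_iff_eq_inv₀ hz, ← h3]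
      ring

theorem range_orderOf_psl_three (p : ℕ) [Fact p.Prime] [CharP F p] :
    Set.range (orderOf : Matrix.ProjectiveSpecialLinearGroup (Fin 3) F → ℕ) =
      {m : ℕ | m ∣ (Fintype.card F ^ 2 + Fintype.card F + 1) / Nat.gcd 3 (Fintype.card F - 1) ∨
        m ∣ (Fintype.card F ^ 2 - 1) / Nat.gcd 3 (Fintype.card F - 1) ∨ m ∣ Fintype.card F - 1 ∨
        m ∣ p * (Fintype.card F - 1) / Nat.gcd 3 (Fintype.card F - 1) ∨ (p = 2 ∧ m ∣ 4)} := by
  classical
  ext m
  constructor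
  · rintro ⟨x, rfl⟩
    obtain ⟨g, rfl⟩ := QuotientGroup.mk_surjective x
    exact orderOf_psl_three_dvd p g _ _ rfl rfl
  · haveI : Finite (Matrix.ProjectiveSpecialLinearGroup (Fin 3) F) := Finite.of_surjective _ QuotientGroup.mk_surjective
    intro hm
    simp only [Set.mem_setOf_eq] at hm
    obtain ⟨g, hg⟩ : ∃ g : Matrix.ProjectiveSpecialLinearGroup (Fin 3) F, m ∣ orderOf g := by
      rcases hm with h | h | h | h | ⟨rfl, h⟩
      · obtain ⟨g, hg⟩ := exists_orderOf_eq_singerExp (F := F) (n := 3) (by norm_num)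
        refine ⟨g, hg ▸ ?_⟩
        rw [singerExp, show geomExp (Fintype.card F) 3 = Fintype.card F ^ 2 + Fintype.card F + 1 by
          simp [geomExp, Finset.sum_range_succ]; ring]
        exact h
      · obtain ⟨g, hg⟩ := exists_orderOf_quadratic (F := F) _ _ rfl rfl
        exact ⟨g, hg ▸ h⟩
      · obtain ⟨g, hg⟩ := exists_orderOf_split (F := F) _ rfl
        exact ⟨g, hg ▸ h⟩
      · obtain ⟨g, hg⟩ := exists_orderOf_pslThreeMixed (F := F) p _ _ rfl rfl
        exact ⟨g, hg ▸ h⟩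
      · obtain ⟨g, hg⟩ := exists_orderOf_eq_unipotent (F := F) 2 (n := 3) (by norm_num)
        exact ⟨g, hg ▸ h.trans (dvd_of_eq (by decide +kernel))⟩
    exact exists_orderOf_eq_of_dvd_orderOf g hg

end CfsgLib.Spectrum
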