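/-
The alternating sum (q^n - (-1)^n)/(q+1), the order of a Singer cycle of GU_n(q) modulo scalars.
-/
import Cfsg.Agent.Lib.Spectrum.LinearElements

set_option autoImplicit false

namespace CfsgLib.Spectrum

/-- The number `(q^n - (-1)^n) / (q + 1)`. -/
def altExp (q n : ℕ) : ℕ := (((q : ℤ) ^ n - (-1) ^ n) / ((q : ℤ) + 1)).toNat

/-- The order of a Singer cycle in PSU_n(q). -/
def singerExpU (q n : ℕ) : ℕ := altExp q n / Nat.gcd n (q + 1)

theorem altExp_spec {q : ℕ} (hq : 1 ≤ q) (n : ℕ) :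
    ((q : ℤ) + 1) * (altExp q n : ℤ) = (q : ℤ) ^ n - (-1) ^ n := by
  have hd : (q : ℤ) + 1 ∣ (q : ℤ) ^ n - (-1) ^ n := by
    have := sub_dvd_pow_sub_pow (q : ℤ) (-1) n
    rwa [sub_neg_eq_add] at this
  have h1 : (-1 : ℤ) ^ n ≤ (q : ℤ) ^ n := by
    have h2 : (1 : ℤ) ≤ (q : ℤ) ^ n := one_le_pow₀ (by exact_mod_cast hq)
    rcases neg_one_pow_eq_or ℤ n with h | h <;> rw [h] <;> omega
  rw [altExp, Int.toNat_of_nonneg (Int.ediv_nonneg (by omega) (by omega)), Int.mul_ediv_cancel' hd]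

theorem altExp_eq_sum {q : ℕ} (hq : 1 ≤ q) (n : ℕ) :
    (altExp q n : ℤ) = ∑ i ∈ Finset.range n, (q : ℤ) ^ i * (-1) ^ (n - 1 - i) := by
  apply mul_left_cancel₀ (show (q : ℤ) + 1 ≠ 0 by omega)
  rw [altExp_spec hq, ← geom_sum₂_mul]
  ring

theorem altExp_cast_of_dvd {q g : ℕ} (hq : 1 ≤ q) (hg : g ∣ q + 1) (n : ℕ) :
    (altExp q n : ZMod g) = (-1) ^ (n - 1) * n := by
  have h : (q : ZMod g) = -1 := by
    rw [eq_neg_iff_add_eq_zero]
    simpa using (ZMod.natCast_eq_zero_iff (q + 1) g).2 hg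
  have h2 := congrArg (Int.cast (R := ZMod g)) (altExp_eq_sum hq n)
  push_cast at h2
  rw [h] at h2
  rw [h2, Finset.sum_congr rfl (fun i hi => ?_), Finset.sum_const, Finset.card_range, nsmul_eq_mul,
    mul_comm]
  rw [Finset.mem_range] at hi
  rw [← pow_add, show i + (n - 1 - i) = n - 1 by omega]

theorem dvd_altExp_iff {q g : ℕ} (hq : 1 ≤ q) (hg : g ∣ q + 1) (n : ℕ) :
    g ∣ altExp q n ↔ g ∣ n := by
  rw [← ZMod.natCast_eq_zero_iff, ← ZMod.natCast_eq_zero_iff, altExp_cast_of_dvd hq hg]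
  exact ((isUnit_one.neg).pow (n - 1)).mul_right_eq_zero

theorem gcd_altExp {q : ℕ} (hq : 1 ≤ q) (n : ℕ) :
    Nat.gcd (altExp q n) (q + 1) = Nat.gcd n (q + 1) :=
  Nat.dvd_antisymm
    (Nat.dvd_gcd ((dvd_altExp_iff hq (Nat.gcd_dvd_right _ _) n).1 (Nat.gcd_dvd_left _ _))
      (Nat.gcd_dvd_right _ _))
    (Nat.dvd_gcd ((dvd_altExp_iff hq (Nat.gcd_dvd_right _ _) n).2 (Nat.gcd_dvd_left _ _))
      (Nat.gcd_dvd_right _ _))

theorem singerExpU_mul {q : ℕ} (hq : 1 ≤ q) (n : ℕ) :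
    singerExpU q n * Nat.gcd n (q + 1) = altExp q n := by
  rw [singerExpU, Nat.div_mul_cancel]
  rw [← gcd_altExp hq n]
  exact Nat.gcd_dvd_left _ _

theorem neg_one_geom_sum_odd {R : Type*} [Ring R] {n : ℕ} (hn : Odd n) :
    ∑ i ∈ Finset.range n, (-1 : R) ^ i = 1 := by
  rw [neg_one_geom_sum, if_neg (Nat.not_even_iff_odd.2 hn)]

theorem coprime_altExp_sub_one {q n : ℕ} (hq : 1 ≤ q) (hn : Odd n) :
    Nat.Coprime (altExp q n) (q - 1) := by
  rw [Nat.coprime_iff_gcd_eq_one]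
  have hg := Nat.gcd_dvd_right (altExp q n) (q - 1)
  have hg' := Nat.gcd_dvd_left (altExp q n) (q - 1)
  set g := Nat.gcd (altExp q n) (q - 1)
  have h : (q : ZMod g) = 1 := by
    have h1 := (ZMod.natCast_eq_zero_iff (q - 1) g).2 hg
    rwa [Nat.cast_sub hq, Nat.cast_one, sub_eq_zero] at h1
  have h2 := congrArg (Int.cast (R := ZMod g)) (altExp_eq_sum hq n)
  push_cast at h2
  rw [(ZMod.natCast_eq_zero_iff _ g).2 hg', h] at h2
  simp only [one_pow, one_mul] at h2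
  rw [Finset.sum_range_reflect (fun i => (-1 : ZMod g) ^ i) n, neg_one_geom_sum_odd hn] at h2
  have h3 : ((1 : ℕ) : ZMod g) = 0 := by rw [Nat.cast_one, h2]
  exact Nat.dvd_one.1 ((ZMod.natCast_eq_zero_iff 1 g).1 h3)

theorem coprime_geomExp_add_one {q d : ℕ} (hd : Odd d) : Nat.Coprime (geomExp q d) (q + 1) := by
  rw [Nat.coprime_iff_gcd_eq_one]
  have hg := Nat.gcd_dvd_right (geomExp q d) (q + 1)
  have hg' := (ZMod.natCast_eq_zero_iff _ _).2 (Nat.gcd_dvd_left (geomExp q d) (q + 1))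
  set g := Nat.gcd (geomExp q d) (q + 1)
  have h : (q : ZMod g) = -1 := by
    rw [eq_neg_iff_add_eq_zero]
    simpa using (ZMod.natCast_eq_zero_iff (q + 1) g).2 hg
  rw [geomExp, Nat.cast_sum] at hg'
  simp only [Nat.cast_pow, h] at hg'
  rw [neg_one_geom_sum_odd hd] at hg'
  exact Nat.dvd_one.1 ((ZMod.natCast_eq_zero_iff 1 g).1 (by rw [Nat.cast_one, hg']))

theorem altExp_mul_odd {q d : ℕ} (hq : 1 ≤ q) (hd : Odd d) (a : ℕ) :
    altExp q (d * a) = altExp q d * altExp (q ^ d) a := by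
  have h1 := altExp_spec hq (d * a)
  have h2 := altExp_spec hq d
  have h3 := altExp_spec (Nat.one_le_pow d q hq) a
  rw [pow_mul, pow_mul, hd.neg_one_pow] at h1
  rw [hd.neg_one_pow, sub_neg_eq_add] at h2
  push_cast at h3
  have h4 : ((q : ℤ) + 1) * (altExp q (d * a) : ℤ) =
      ((q : ℤ) + 1) * ((altExp q d * altExp (q ^ d) a : ℕ) : ℤ) := by
    push_cast
    rw [← mul_assoc, h1, h2, h3]
  exact_mod_cast mul_left_cancel₀ (show (q : ℤ) + 1 ≠ 0 by omega) h4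

theorem add_one_mul_altExp_odd {q d : ℕ} (hq : 1 ≤ q) (hd : Odd d) :
    (q + 1) * altExp q d = q ^ d + 1 := by
  have h2 := altExp_spec hq d
  rw [hd.neg_one_pow, sub_neg_eq_add] at h2
  exact_mod_cast h2

theorem add_one_mul_altExp_even {q d : ℕ} (hq : 1 ≤ q) (hd : Even d) :
    (q + 1) * altExp q d = q ^ d - 1 := by
  have h2 := altExp_spec hq d
  rw [hd.neg_one_pow] at h2
  have h3 : 1 ≤ q ^ d := Nat.one_le_pow _ _ hq
  have : (((q + 1) * altExp q d : ℕ) : ℤ) = ((q ^ d - 1 : ℕ) : ℤ) := by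
    rw [Nat.cast_sub h3]; push_cast; exact h2
  exact_mod_cast this

theorem sub_one_mul_add_one {q : ℕ} (hq : 1 ≤ q) : q ^ 2 - 1 = (q - 1) * (q + 1) := by
  obtain ⟨k, rfl⟩ : ∃ k, q = k + 1 := ⟨q - 1, by omega⟩
  rw [Nat.add_sub_cancel, show (k + 1) ^ 2 = k * (k + 1 + 1) + 1 by ring, Nat.add_sub_cancel]

theorem geomExp_sq_odd {q d : ℕ} (hq : 2 ≤ q) (hd : Odd d) :
    geomExp (q ^ 2) d = geomExp q d * altExp q d := by
  have h1 := sub_one_mul_geomExp (Nat.one_le_pow 2 q (by omega)) d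
  have h2 := sub_one_mul_geomExp (show 1 ≤ q by omega) d
  have h3 := add_one_mul_altExp_odd (show 1 ≤ q by omega) hd
  have h4 : (q ^ 2) ^ d - 1 = (q ^ d - 1) * (q ^ d + 1) := by
    rw [← pow_mul, mul_comm, pow_mul, sub_one_mul_add_one (Nat.one_le_pow _ _ (by omega))]
  rw [sub_one_mul_add_one (show 1 ≤ q by omega), h4, ← h2, ← h3] at h1
  apply Nat.eq_of_mul_eq_mul_left (show 0 < (q - 1) * (q + 1) from Nat.mul_pos (by omega) (by omega))
  rw [h1]; ring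

theorem sub_one_mul_geomExp_sq {q : ℕ} (hq : 1 ≤ q) (d : ℕ) :
    (q - 1) * geomExp (q ^ 2) d = altExp q (2 * d) := by
  apply Nat.eq_of_mul_eq_mul_left (show 0 < q + 1 by omega)
  rw [add_one_mul_altExp_even hq (even_two_mul d), ← mul_assoc, mul_comm (q + 1),
    ← sub_one_mul_add_one hq, sub_one_mul_geomExp (Nat.one_le_pow _ _ hq), ← pow_mul]

theorem altExp_mul_even {q : ℕ} (hq : 1 ≤ q) (d a : ℕ) :
    altExp q (2 * d * a) = altExp q (2 * d) * geomExp (q ^ (2 * d)) a := by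
  apply Nat.eq_of_mul_eq_mul_left (show 0 < q + 1 by omega)
  rw [add_one_mul_altExp_even hq ((even_two_mul d).mul_right a), ← mul_assoc,
    add_one_mul_altExp_even hq (even_two_mul d), sub_one_mul_geomExp (Nat.one_le_pow _ _ hq), ← pow_mul]

theorem dvd_singerExpU_self {q d a : ℕ} (hq : 1 ≤ q) (hd : Odd d) :
    altExp q d * Nat.gcd a (q + 1) ∣ singerExpU q (d * a) * (q + 1) := by
  have h1 : Nat.gcd a (q + 1) ∣ altExp (q ^ d) a := by
    refine (dvd_altExp_iff (Nat.one_le_pow _ _ hq) ?_ a).2 (Nat.gcd_dvd_left _ _)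
    refine (Nat.gcd_dvd_right a (q + 1)).trans ?_
    exact ⟨_, (add_one_mul_altExp_odd hq hd).symm⟩
  have hb : 0 < Nat.gcd (d * a) (q + 1) := Nat.gcd_pos_of_pos_right _ (by omega)
  apply Nat.dvd_of_mul_dvd_mul_right hb
  rw [mul_right_comm (singerExpU q (d * a)), singerExpU_mul hq, altExp_mul_odd hq hd]
  exact mul_dvd_mul (mul_dvd_mul_left _ h1) (Nat.gcd_dvd_right _ _)

theorem dvd_singerExpU_pair {q d a : ℕ} (hq : 1 ≤ q) :
    altExp q (2 * d) * Nat.gcd a (q + 1) ∣ singerExpU q (2 * d * a) * (q + 1) := by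
  have h1 : Nat.gcd a (q + 1) ∣ geomExp (q ^ (2 * d)) a := by
    have h2 : Nat.gcd a (q + 1) ∣ Nat.gcd a (q ^ (2 * d) - 1) :=
      Nat.dvd_gcd (Nat.gcd_dvd_left _ _) ((Nat.gcd_dvd_right _ _).trans
        ⟨_, (add_one_mul_altExp_even hq (even_two_mul d)).symm⟩)
    rw [← gcd_geomExp (Nat.one_le_pow _ _ hq) a] at h2
    exact h2.trans (Nat.gcd_dvd_left _ _)
  have hb : 0 < Nat.gcd (2 * d * a) (q + 1) := Nat.gcd_pos_of_pos_right _ (by omega)
  apply Nat.dvd_of_mul_dvd_mul_right hb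
  rw [mul_right_comm (singerExpU q (2 * d * a)), singerExpU_mul hq, altExp_mul_even hq]
  exact mul_dvd_mul (mul_dvd_mul_left _ h1) (Nat.gcd_dvd_right _ _)

theorem coprime_pow_singerExpU {p a n : ℕ} (hp : p.Prime) (ha : 1 ≤ a) (hn : 1 ≤ n) (e : ℕ) :
    Nat.Coprime (p ^ e) (singerExpU (p ^ a) n) := by
  apply Nat.Coprime.pow_left
  rw [hp.coprime_iff_not_dvd]
  intro h
  have hq : 1 ≤ p ^ a := Nat.one_le_pow _ _ hp.pos
  have h1 : p ∣ altExp (p ^ a) n := by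
    rw [← singerExpU_mul hq n]; exact h.mul_right _
  have h2 : (p : ℤ) ∣ ((p ^ a : ℕ) : ℤ) ^ n - (-1) ^ n := by
    rw [← altExp_spec hq n]
    exact (Int.natCast_dvd_natCast.2 h1).mul_left _
  have h3 : (p : ℤ) ∣ ((p ^ a : ℕ) : ℤ) ^ n :=
    dvd_pow (Int.natCast_dvd_natCast.2 (dvd_pow_self p (by omega))) (by omega)
  have h4 := (dvd_sub h3 h2)
  rw [sub_sub_cancel] at h4
  exact hp.ne_one (by
    have h5 : (p : ℤ) ∣ 1 := ((isUnit_one.neg.pow n).dvd_mul_left).1 (by rwa [mul_one])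
    exact Nat.dvd_one.1 (by exact_mod_cast h5))

end CfsgLib.Spectrum
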