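/-
An element of order `p (q ^ k + 1)` does not exist in Omega of an odd-dimensional orthogonal space of
dimension `2 k + 3`, `q` odd.
-/
import Mathlib
import Cfsg.Agent.Lib.Orth.Spinor
import Cfsg.Agent.Lib.Zsigmondy.Basic

set_option autoImplicit false
set_option linter.unusedSectionVars false
set_option linter.unusedSimpArgs false
set_option linter.style.haveILetI false

open Polynomial

namespace CfsgLib.Spectrum.OrthOddMixed

section polynomial

variable {F : Type*} [Field F] {V : Type*} [AddCommGroup V] [Module F V]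

theorem dvd_of_squarefree_of_forall_irreducible {P R : F[X]} (hP : Squarefree P) (hP0 : P ≠ 0)
    (h : ∀ f : F[X], f.Monic → Irreducible f → f ∣ P → f ∣ R) : P ∣ R := by
  classical
  obtain ⟨c, hc⟩ := EuclideanDomain.gcd_dvd_left P R
  by_cases hu : IsUnit c
  · rw [hc]
    exact (IsUnit.mul_right_dvd hu).2 (EuclideanDomain.gcd_dvd_right P R)
  · exfalso
    have hc0 : c ≠ 0 := fun h0 => hP0 (by rw [hc, h0, mul_zero])
    obtain ⟨f, hfm, hfi, hfc⟩ := Polynomial.exists_monic_irreducible_factor c hu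
    have hfP : f ∣ P := hc ▸ hfc.mul_left _
    have hfd : f ∣ EuclideanDomain.gcd P R := EuclideanDomain.dvd_gcd hfP (h f hfm hfi hfP)
    exact hfi.not_isUnit (hP f (hc ▸ mul_dvd_mul hfd hfc))

theorem exists_factor_orderOf [FiniteDimensional F V] (S : Module.End F V) {N r : ℕ} (hr : r.Prime)
    (hrN : r ∣ N) (hN : (N : F) ≠ 0) (hord : orderOf S = N) :
    ∃ f : F[X], f.Monic ∧ Irreducible f ∧ f ∣ minpoly F S ∧ r ∣ orderOf (AdjoinRoot.root f) ∧
      AdjoinRoot.root f ^ N = 1 ∧ Squarefree (minpoly F S) := by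
  have hN0 : N ≠ 0 := fun h => hN (by rw [h, Nat.cast_zero])
  have hdvd : minpoly F S ∣ X ^ N - 1 :=
    minpoly.dvd F S (by simp [← hord, pow_orderOf_eq_one])
  have hsep : Squarefree (minpoly F S) :=
    ((Polynomial.X_pow_sub_one_separable_iff).2 hN).squarefree.squarefree_of_dvd hdvd
  have hroot : ∀ f : F[X], f ∣ minpoly F S → AdjoinRoot.root f ^ N = 1 := fun f hf => by
    have h := AdjoinRoot.mk_eq_zero.2 (hf.trans hdvd)
    simpa [sub_eq_zero] using h
  by_contra hcon
  push Not at hcon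
  obtain ⟨e, M, hM, hNM⟩ := Nat.exists_eq_pow_mul_and_not_dvd hN0 r hr.ne_one
  have hall : ∀ f : F[X], f.Monic → Irreducible f → f ∣ minpoly F S → f ∣ X ^ M - 1 := by
    intro f hfm hfi hf
    have hnr : ¬ r ∣ orderOf (AdjoinRoot.root f) := fun hh => hcon f hfm hfi hf hh (hroot f hf) hsep
    have hd : orderOf (AdjoinRoot.root f) ∣ r ^ e * M := by
      rw [← hNM]; exact orderOf_dvd_of_pow_eq_one (hroot f hf)
    have hco : (orderOf (AdjoinRoot.root f)).Coprime (r ^ e) :=
      Nat.Coprime.pow_right _ ((hr.coprime_iff_not_dvd.2 hnr).symm)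
    rw [← AdjoinRoot.mk_eq_zero, map_sub, map_pow, map_one, AdjoinRoot.mk_X, sub_eq_zero]
    exact orderOf_dvd_iff_pow_eq_one.1 (hco.dvd_of_dvd_mul_left hd)
  have hP0 : minpoly F S ≠ 0 := minpoly.ne_zero (Algebra.IsIntegral.isIntegral S)
  obtain ⟨R, hR⟩ := dvd_of_squarefree_of_forall_irreducible hsep hP0 hall
  have h1 : aeval S (X ^ M - 1 : F[X]) = 0 := by rw [hR, map_mul, minpoly.aeval, zero_mul]
  rw [map_sub, map_pow, aeval_X, map_one, sub_eq_zero] at h1
  exact hM (hrN.trans (hord ▸ orderOf_dvd_of_pow_eq_one h1))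

theorem natDegree_eq_of_primitive [Fintype F] {f : F[X]} (hfm : f.Monic) [Fact (Irreducible f)]
    {d r : ℕ} (hd : 0 < d) (hfix : AdjoinRoot.root f ^ (Fintype.card F ^ d - 1) = 1)
    (hr : r ∣ orderOf (AdjoinRoot.root f))
    (hprim : ∀ j : ℕ, 0 < j → j < d → ¬ r ∣ Fintype.card F ^ j - 1) :
    Nat.card (AdjoinRoot f) = Fintype.card F ^ d ∧ f.natDegree = d := by
  have hne : f ≠ 0 := hfm.ne_zero
  haveI : Module.Finite F (AdjoinRoot f) := (AdjoinRoot.powerBasis hne).finite
  haveI : Finite (AdjoinRoot f) := Module.finite_of_finite F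
  haveI : Fintype (AdjoinRoot f) := Fintype.ofFinite _
  have hcard : Fintype.card (AdjoinRoot f) = Fintype.card F ^ f.natDegree := by
    rw [Module.card_eq_pow_finrank (K := F), (AdjoinRoot.powerBasis hne).finrank,
      AdjoinRoot.powerBasis_dim]
  have hdeg : 0 < f.natDegree := (Fact.out : Irreducible f).natDegree_pos
  have hq := Fintype.one_lt_card (α := F)
  have hqd : 1 ≤ Fintype.card F ^ d := Nat.one_le_pow _ _ (by omega)
  have h0 : AdjoinRoot.root f ≠ 0 := by
    intro h
    rw [h, zero_pow] at hfix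
    · exact zero_ne_one hfix
    · have := Nat.one_lt_pow hd.ne' hq
      omega
  have hge : d ≤ f.natDegree := by
    by_contra hlt
    exact hprim _ hdeg (not_le.1 hlt) (hr.trans (hcard ▸ orderOf_dvd_of_pow_eq_one
      (FiniteField.pow_card_sub_one_eq_one _ h0)))
  have hroot : AdjoinRoot.root f ^ (Fintype.card F ^ d) = AdjoinRoot.root f := by
    rw [← Nat.sub_add_cancel hqd, pow_succ, hfix, one_mul]
  have hall : ∀ x : AdjoinRoot f, x ^ (Fintype.card F ^ d) = x := by
    intro x
    have h : (FiniteField.frobeniusAlgHom F (AdjoinRoot f)) ^ d = AlgHom.id F (AdjoinRoot f) :=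
      AdjoinRoot.algHom_ext (by
        rw [AlgHom.coe_pow, FiniteField.coe_frobeniusAlgHom, pow_iterate, AlgHom.id_apply]
        exact hroot)
    have := DFunLike.congr_fun h x
    rwa [AlgHom.coe_pow, FiniteField.coe_frobeniusAlgHom, pow_iterate, AlgHom.id_apply] at this
  obtain ⟨γ, hγ⟩ := IsCyclic.exists_ofOrder_eq_natCard (α := (AdjoinRoot f)ˣ)
  rw [Nat.card_units, Nat.card_eq_fintype_card, hcard] at hγ
  have hγ1 : γ ^ (Fintype.card F ^ d - 1) = 1 := by
    apply Units.ext
    rw [Units.val_pow_eq_pow_val, Units.val_one]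
    have h := hall (γ : AdjoinRoot f)
    rw [← Nat.sub_add_cancel hqd, pow_succ] at h
    exact mul_eq_right₀ γ.ne_zero |>.1 h
  have hle : f.natDegree ≤ d := by
    have h1 := Nat.le_of_dvd (by have := Nat.one_lt_pow hd.ne' hq; omega)
      (hγ ▸ orderOf_dvd_of_pow_eq_one hγ1)
    have h2 : Fintype.card F ^ f.natDegree ≤ Fintype.card F ^ d := by omega
    exact (Nat.pow_le_pow_iff_right hq).1 h2
  have hd' : f.natDegree = d := le_antisymm hle hge
  exact ⟨by rw [Nat.card_eq_fintype_card, hcard, hd'], hd'⟩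

end polynomial

section unipotent

variable {F : Type*} [Field F] {V : Type*} [AddCommGroup V] [Module F V] [FiniteDimensional F V]

theorem scalar_on_complement (p : ℕ) [Fact p.Prime] [CharP F p] (h2 : (2 : F) ≠ 0)
    (B : LinearMap.BilinForm F V) (hB : B.Nondegenerate) (hsym : ∀ x y, B x y = B y x)
    {W W' : Submodule F V} (hc : IsCompl W W') (horth : ∀ w ∈ W, ∀ y ∈ W', B w y = 0)
    (h3 : Module.finrank F W' = 3) {S U : Module.End F V} (hSU : Commute S U)
    (hUW : ∀ w ∈ W, U w = w) (hUW' : ∀ y ∈ W', U y ∈ W') (hSW' : ∀ y ∈ W', S y ∈ W')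
    (hUB : ∀ x y, B (U x) (U y) = B x y) (hSB : ∀ x y, B (S x) (S y) = B x y)
    (hU1 : U ≠ 1) (hUp : U ^ p = 1) {e : ℕ} (he : 3 ≤ p ^ e) (hSe : S ^ (p ^ e) = S)
    (hae : ∀ a : F, a ^ (p ^ e) = a) :
    ∃ a : F, a * a = 1 ∧ ∀ y ∈ W', S y = a • y := by
  have hsplit : ∀ x : V, ∃ w ∈ W, ∃ y ∈ W', w + y = x := fun x => by
    have hx : x ∈ W ⊔ W' := by rw [hc.sup_eq_top]; exact Submodule.mem_top
    exact Submodule.mem_sup.1 hx
  haveI : Nontrivial (Module.End F V) := nontrivial_of_ne _ _ hU1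
  haveI : CharP (Module.End F V) p :=
    charP_of_injective_algebraMap (algebraMap F (Module.End F V)).injective p
  obtain ⟨M, hM⟩ : ∃ M, M = U - 1 := ⟨_, rfl⟩
  have hMx : ∀ x, M x = U x - x := fun x => by rw [hM]; simp
  have hMW : ∀ w ∈ W, M w = 0 := fun w hw => by rw [hMx, hUW w hw, sub_self]
  have hMW' : ∀ x, M x ∈ W' := by
    intro x
    obtain ⟨w, hw, y, hy, rfl⟩ := hsplit x
    rw [map_add, hMW w hw, zero_add, hMx]
    exact W'.sub_mem (hUW' y hy) hy
  have hid : ∀ x y, B (M x) y + B x (M y) + B (M x) (M y) = 0 := by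
    intro x y
    simp only [hMx, map_sub, LinearMap.sub_apply, hUB]
    abel
  have hM0 : M ≠ 0 := by rw [hM]; exact sub_ne_zero.2 hU1
  have hMp : M ^ p = 0 := by
    rw [hM, sub_pow_char_of_commute (p := p) (Commute.one_right U), hUp, one_pow, sub_self]
  have hSM : Commute S M := by rw [hM]; exact hSU.sub_right (Commute.one_right S)
  -- the square of `M` is non-zero
  have hM2 : ∃ x, M (M x) ≠ 0 := by
    by_contra hcon
    push Not at hcon
    have hiso : ∀ x y, B (M x) (M y) = 0 := fun x y => by simpa [hcon] using hid x (M y)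
    have hle : Module.finrank F (LinearMap.range M) ≤ 1 := by
      have hsub : W ⊔ LinearMap.range M ≤ B.orthogonal (LinearMap.range M) := by
        refine sup_le (fun w hw => ?_) ?_
        · rw [LinearMap.BilinForm.mem_orthogonal_iff]
          rintro _ ⟨x, rfl⟩
          show B (M x) w = 0
          rw [hsym]; exact horth w hw _ (hMW' x)
        · rintro _ ⟨y, rfl⟩
          rw [LinearMap.BilinForm.mem_orthogonal_iff]
          rintro _ ⟨x, rfl⟩
          exact hiso x y
      have hdisj : Disjoint W (LinearMap.range M) :=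
        hc.disjoint.mono_right (by rintro _ ⟨x, rfl⟩; exact hMW' x)
      have h1 := Submodule.finrank_mono hsub
      rw [LinearMap.BilinForm.finrank_orthogonal hB] at h1
      have h2' := Submodule.finrank_sup_add_finrank_inf_eq W (LinearMap.range M)
      rw [hdisj.eq_bot, finrank_bot, add_zero] at h2'
      have h4 := Submodule.finrank_add_eq_of_isCompl hc
      omega
    obtain ⟨x0, hx0⟩ : ∃ x0, M x0 ≠ 0 := by
      by_contra hcon'
      push Not at hcon'
      exact hM0 (LinearMap.ext hcon')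
    have hone : Module.finrank F (LinearMap.range M) = 1 := by
      refine le_antisymm hle (Nat.one_le_iff_ne_zero.2 fun h0 => hx0 ?_)
      exact (Submodule.mem_bot F).1 ((Submodule.finrank_eq_zero.1 h0) ▸ LinearMap.mem_range_self M x0)
    have hv : ∀ x, ∃ c : F, c • M x0 = M x := fun x => by
      obtain ⟨c, hc'⟩ := exists_smul_eq_of_finrank_eq_one hone
        (x := (⟨M x0, LinearMap.mem_range_self M x0⟩ : LinearMap.range M))
        (fun h => hx0 (congrArg Subtype.val h)) ⟨M x, LinearMap.mem_range_self M x⟩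
      exact ⟨c, congrArg Subtype.val hc'⟩
    have hid2 : ∀ x y, B (M x) y + B x (M y) = 0 := fun x y => by
      simpa [hiso] using hid x y
    have hμ0 : B (M x0) x0 = 0 := by
      have := hid2 x0 x0
      rw [hsym x0 (M x0), ← two_mul] at this
      exact (mul_eq_zero.1 this).resolve_left h2
    apply hx0
    apply hB.1 (M x0)
    intro y
    obtain ⟨c, hc'⟩ := hv y
    have := hid2 x0 y
    rw [← hc', map_smul, smul_eq_mul, hsym x0 (M x0), hμ0, mul_zero, add_zero] at this
    exact this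
  -- `M ^ 3 = 0`
  have hM3 : ∀ y ∈ W', M (M (M y)) = 0 := by
    intro y hy
    let M' : Module.End F W' := M.restrict fun x _ => hMW' x
    have hres : ∀ (j : ℕ) (z : W'), ((M' ^ j) z : V) = (M ^ j) z := by
      intro j
      induction j with
      | zero => simp
      | succ j ih =>
        intro z
        rw [pow_succ, pow_succ, Module.End.mul_apply, Module.End.mul_apply, ih]
        rfl
    have h1 : (⟨y, hy⟩ : W') ∈ LinearMap.ker (M' ^ p) := by
      rw [LinearMap.mem_ker]; apply Subtype.ext; rw [hres, hMp]; rfl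
    have h := Module.End.ker_pow_le_ker_pow_finrank M' p h1
    rw [h3, LinearMap.mem_ker] at h
    have h' := congrArg Subtype.val h
    rw [hres] at h'
    simpa [pow_succ, Module.End.mul_apply] using h'
  -- a cyclic basis of `W'`
  obtain ⟨x, hx, hx2⟩ : ∃ x ∈ W', M (M x) ≠ 0 := by
    obtain ⟨z, hz⟩ := hM2
    obtain ⟨w, hw, y, hy, rfl⟩ := hsplit z
    exact ⟨y, hy, by simpa [hMW w hw] using hz⟩
  have hspan : ∀ z ∈ W', ∃ a b c : F, z = a • x + b • M x + c • M (M x) := by
    let v : Fin 3 → W' := ![⟨x, hx⟩, ⟨M x, hMW' x⟩, ⟨M (M x), hMW' _⟩]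
    have hli : LinearIndependent F v := by
      rw [Fintype.linearIndependent_iff]
      intro c hc'
      rw [Fin.sum_univ_three] at hc'
      have h0 : c 0 • x + c 1 • M x + c 2 • M (M x) = 0 := congrArg Subtype.val hc'
      have h1 := congrArg (fun z => M (M z)) h0
      simp only [map_add, map_smul, hM3 x hx, hM3 (M x) (hMW' x), smul_zero, add_zero, map_zero] at h1
      have c0 : c 0 = 0 := (smul_eq_zero.1 h1).resolve_right hx2
      rw [c0, zero_smul, zero_add] at h0
      have h2' := congrArg (fun z => M z) h0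
      simp only [map_add, map_smul, hM3 x hx, smul_zero, add_zero, map_zero] at h2'
      have c1 : c 1 = 0 := (smul_eq_zero.1 h2').resolve_right hx2
      rw [c1, zero_smul, zero_add] at h0
      have c2 : c 2 = 0 := (smul_eq_zero.1 h0).resolve_right hx2
      intro i
      fin_cases i <;> assumption
    let bb := basisOfLinearIndependentOfCardEqFinrank hli (by rw [Fintype.card_fin, h3])
    intro z hz
    refine ⟨bb.repr ⟨z, hz⟩ 0, bb.repr ⟨z, hz⟩ 1, bb.repr ⟨z, hz⟩ 2, ?_⟩
    have h := congrArg Subtype.val (bb.sum_repr ⟨z, hz⟩)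
    rw [Fin.sum_univ_three, coe_basisOfLinearIndependentOfCardEqFinrank] at h
    exact h.symm
  obtain ⟨a, b, c, habc⟩ := hspan (S x) (hSW' x hx)
  have hSMx : ∀ z, S (M z) = M (S z) := fun z => DFunLike.congr_fun hSM.eq z
  have hform : ∀ z ∈ W', S z = a • z + b • M z + c • M (M z) := by
    intro z hz
    obtain ⟨a', b', c', rfl⟩ := hspan z hz
    simp only [map_add, map_smul, hSMx, habc]
    simp only [smul_comm a' _, smul_comm b' _, smul_comm c' _, smul_add, map_add, map_smul]
    module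
  -- so `S` is scalar on `W'`
  obtain ⟨T, hT⟩ : ∃ T, T = S - algebraMap F (Module.End F V) a := ⟨_, rfl⟩
  have hTz : ∀ z ∈ W', T z = b • M z + c • M (M z) := fun z hz => by
    rw [hT, LinearMap.sub_apply, Module.algebraMap_end_apply, hform z hz]; abel
  have hT3 : ∀ z ∈ W', (T ^ 3) z = 0 := by
    intro z hz
    have hW1 : T z ∈ W' := by
      rw [hTz z hz]; exact W'.add_mem (W'.smul_mem _ (hMW' _)) (W'.smul_mem _ (hMW' _))
    have hW2 : T (T z) ∈ W' := by
      rw [hTz _ hW1]; exact W'.add_mem (W'.smul_mem _ (hMW' _)) (W'.smul_mem _ (hMW' _))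
    rw [pow_succ, pow_succ, pow_one, Module.End.mul_apply, Module.End.mul_apply, hTz _ hW2,
      hTz _ hW1, hTz z hz]
    simp only [map_add, map_smul, hM3 z hz, hM3 (M z) (hMW' z), hM3 (M (M z)) (hMW' _), smul_zero,
      add_zero, map_zero]
  have hscal : ∀ z ∈ W', S z = a • z := by
    intro z hz
    have hST : S = T + algebraMap F (Module.End F V) a := by rw [hT, sub_add_cancel]
    have h := add_pow_char_pow_of_commute (p := p) (n := e) (Algebra.commute_algebraMap_right a T)
    rw [← hST, hSe, ← map_pow, hae] at h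
    have h' := DFunLike.congr_fun h z
    rw [LinearMap.add_apply, ← Nat.sub_add_cancel he, pow_add, Module.End.mul_apply, hT3 z hz,
      map_zero, zero_add, Module.algebraMap_end_apply] at h'
    exact h'
  refine ⟨a, ?_, hscal⟩
  have hx0 : x ≠ 0 := fun h => hx2 (by rw [h, map_zero, map_zero])
  obtain ⟨z, hz⟩ : ∃ z, B x z ≠ 0 := by
    by_contra hcon
    push Not at hcon
    exact hx0 (hB.1 x hcon)
  obtain ⟨w, hw, y, hy, rfl⟩ := hsplit z
  rw [map_add, hsym x w, horth w hw x hx, zero_add] at hz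
  have := hSB x y
  simp only [hscal x hx, hscal y hy, map_smul, LinearMap.smul_apply, smul_eq_mul,
    ← mul_assoc] at this
  exact (mul_eq_right₀ hz).1 this

end unipotent

section counting

theorem sign_of_semiregular {α : Type*} [Fintype α] [DecidableEq α] (π : Equiv.Perm α) {N : ℕ}
    (hN : Even N) (h : ∀ x, π x ≠ x → ∀ j : ℕ, (π ^ j) x = x ↔ N ∣ j) :
    ∃ c : ℕ, π.support.card = N * c ∧ Equiv.Perm.sign π = (-1) ^ c := by
  have hall : ∀ m ∈ π.cycleType, m = N := by
    intro m hm
    rw [Equiv.Perm.cycleType_def, Multiset.mem_map] at hm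
    obtain ⟨c, hc, rfl⟩ := hm
    rw [Finset.mem_val] at hc
    obtain ⟨hcyc, hagree⟩ := Equiv.Perm.mem_cycleFactorsFinset_iff.1 hc
    obtain ⟨x, hx⟩ := hcyc.nonempty_support
    have hcx : c = π.cycleOf x := Equiv.Perm.cycle_is_cycleOf hx hc
    have hne : π x ≠ x := by rw [← hagree x hx]; exact Equiv.Perm.mem_support.1 hx
    show c.support.card = N
    rw [← hcyc.orderOf]
    have hiff : ∀ j : ℕ, c ^ j = 1 ↔ N ∣ j := fun j => by
      rw [hcyc.pow_eq_one_iff' (Equiv.Perm.mem_support.1 hx), hcx,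
        Equiv.Perm.cycleOf_pow_apply_self, h x hne]
    exact Nat.dvd_antisymm (orderOf_dvd_of_pow_eq_one ((hiff N).2 dvd_rfl))
      ((hiff _).1 (pow_orderOf_eq_one c))
  refine ⟨π.cycleType.card, ?_, ?_⟩
  · rw [← Equiv.Perm.sum_cycleType, Multiset.eq_replicate_card.2 hall, Multiset.sum_replicate,
      Multiset.card_replicate, smul_eq_mul, mul_comm]
  · rw [Equiv.Perm.sign_of_cycleType, Multiset.eq_replicate_card.2 hall, Multiset.sum_replicate,
      Multiset.card_replicate, smul_eq_mul, pow_add, (hN.mul_left _).neg_one_pow, one_mul]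

theorem natCard_preimage {A B : Type*} [Group A] [Group B] [Finite A] (π : A →* B) (P : B → Prop)
    (hP : ∀ b, P b → b ∈ π.range) :
    Nat.card {a : A // P (π a)} = Nat.card π.ker * Nat.card {b : B // P b} := by
  choose sec hsec using fun b : {b : B // P b} => MonoidHom.mem_range.1 (hP b.1 b.2)
  rw [← Nat.card_prod]
  exact Nat.card_congr
    { toFun := fun a => (⟨(sec ⟨π a.1, a.2⟩)⁻¹ * a.1, by
        rw [MonoidHom.mem_ker, map_mul, map_inv, hsec, inv_mul_cancel]⟩, ⟨π a.1, a.2⟩)
      invFun := fun x => ⟨sec x.2 * x.1.1, by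
        rw [map_mul, hsec, MonoidHom.mem_ker.1 x.1.2, mul_one]; exact x.2.2⟩
      left_inv := fun a => Subtype.ext (mul_inv_cancel_left _ _)
      right_inv := fun x => by
        obtain ⟨⟨z, hz⟩, b⟩ := x
        have hb : π (sec b * z) = b.1 := by rw [map_mul, hsec, MonoidHom.mem_ker.1 hz, mul_one]
        have hb' : (⟨π (sec b * z), hb.symm ▸ b.2⟩ : {b : B // P b}) = b := Subtype.ext hb
        refine Prod.ext (Subtype.ext ?_) hb'
        show (sec _)⁻¹ * (sec b * z) = z
        rw [hb', inv_mul_cancel_left] }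

theorem natCard_linear_fibre_odd {F : Type*} [Field F] [Fintype F] (hodd : Odd (Fintype.card F))
    {L : Type*} [AddCommGroup L] [Module F L] [Finite L] (μ : L →ₗ[F] F) (hμ : μ ≠ 0) (c : F) :
    Odd (Nat.card {l : L // μ l = c}) := by
  obtain ⟨l0, hl0⟩ := LinearMap.surjective_of_ne_zero hμ c
  rw [Nat.card_congr (α := {l : L // μ l = c}) (β := LinearMap.ker μ)
    { toFun := fun l => ⟨l.1 - l0, by rw [LinearMap.mem_ker, map_sub, l.2, hl0, sub_self]⟩
      invFun := fun z => ⟨z.1 + l0, by rw [map_add, LinearMap.mem_ker.1 z.2, hl0, zero_add]⟩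
      left_inv := fun l => Subtype.ext (sub_add_cancel _ _)
      right_inv := fun z => Subtype.ext (add_sub_cancel_right _ _) }]
  haveI : Module.Finite F (LinearMap.ker μ) := .of_finite
  rw [Module.natCard_eq_pow_finrank (K := F), Nat.card_eq_fintype_card]
  exact hodd.pow

variable {ι : Type} [Fintype ι] [DecidableEq ι] {F : Type*} [Field F] [Fintype F]
variable {Q : QuadraticForm F (ι → F)}

open CfsgLib.OrthSpinor

theorem act_pow_torus (s : ↥(Cfsg.isometryGroup F ⇑Q)) {K : Type*} [CommRing K] [Algebra F K]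
    {W' : Submodule F (ι → F)} (e : (K × W') ≃ₗ[F] (ι → F)) (α : K)
    (hs : ∀ x, act Q s (e x) = e (α * x.1, x.2)) (j : ℕ) (x : K × W') :
    act Q (s ^ j) (e x) = e (α ^ j * x.1, x.2) := by
  induction j generalizing x with
  | zero => simp
  | succ j ih => rw [pow_succ, act_mul, hs, ih, pow_succ, mul_assoc]

theorem normPerm_pow_apply (s : ↥(Cfsg.isometryGroup F ⇑Q)) (c : F) (j : ℕ)
    (x : {x : ι → F // Q x = c}) : (((normPerm (Q := Q) c s) ^ j) x : ι → F) = act Q (s ^ j) x.1 := by
  rw [← map_pow]; rfl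

/-- An element which is a torus of order `q ^ k + 1` on a `2 k`-space and trivial on its orthogonal
complement has non-trivial spinor norm. -/
theorem theta_ne_one (h2 : (2 : F) ≠ 0) {K : Type*} [Field K] [Algebra F K] [Finite K]
    {k : ℕ} (hk : 1 ≤ k) (hK : Nat.card K = Fintype.card F ^ (2 * k))
    {W' : Submodule F (ι → F)} (e : (K × W') ≃ₗ[F] (ι → F)) (lam : K →ₗ[F] F)
    (hsplit : ∀ x, Q (e x) = Q (e (x.1, 0)) + Q x.2)
    (hlam : ∀ β, 2 * Q (e (β, 0)) = lam (β ^ (Fintype.card F ^ k + 1)))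
    (hne : ∃ β, lam (β ^ (Fintype.card F ^ k + 1)) ≠ 0)
    (s : ↥(Cfsg.isometryGroup F ⇑Q)) (α : K) (hα : orderOf α = Fintype.card F ^ k + 1)
    (hs : ∀ x, act Q s (e x) = e (α * x.1, x.2)) :
    theta (Q := Q) 1 s ≠ 1 := by
  classical
  haveI : Fintype K := Fintype.ofFinite K
  have hq := Fintype.one_lt_card (α := F)
  have hqodd : Odd (Fintype.card F) := by
    rw [← Nat.card_eq_fintype_card, Nat.odd_iff]
    by_contra hh
    refine h2 ?_
    obtain ⟨p, hp⟩ := CharP.exists F
    haveI : Fact p.Prime := ⟨CharP.char_is_prime F p⟩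
    obtain ⟨m, -, hm⟩ := FiniteField.card F p
    rw [Nat.card_eq_fintype_card, hm] at hh
    have : 2 ∣ p ^ (m : ℕ) := by omega
    have h2p : 2 = p :=
      (Nat.prime_dvd_prime_iff_eq Nat.prime_two Fact.out).1 (Nat.prime_two.dvd_of_dvd_pow this)
    subst h2p
    exact_mod_cast CharP.cast_eq_zero F 2
  obtain ⟨Qk, hQk⟩ : ∃ Qk, Qk = Fintype.card F ^ k := ⟨_, rfl⟩
  obtain ⟨N, hN⟩ : ∃ N, N = Qk + 1 := ⟨_, rfl⟩
  rw [← hQk] at hlam hne hα
  rw [← hN] at hlam hne hα
  have hQ1 : 1 < Qk := hQk ▸ Nat.one_lt_pow (by omega) hq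
  have hNeven : Even N := hN ▸ (hQk ▸ hqodd.pow).add_one
  have hα0 : α ≠ 0 := fun h => by
    rw [h, orderOf_zero] at hα; omega
  -- all non-trivial cycles have length `N`
  have hfix : ∀ (x : {x : ι → F // Q x = 1}) (j : ℕ), ((normPerm (Q := Q) 1 s) ^ j) x = x ↔
      (e.symm x.1).1 = 0 ∨ N ∣ j := by
    intro x j
    rw [Subtype.ext_iff, normPerm_pow_apply]
    conv_lhs => arg 1; rw [← e.apply_symm_apply x.1, act_pow_torus s e α hs]
    rw [← e.symm.injective.eq_iff, e.symm_apply_apply, Prod.ext_iff, ← hα,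
      orderOf_dvd_iff_pow_eq_one]
    simp only [and_true]
    constructor
    · intro h
      by_cases h0 : (e.symm x.1).1 = 0
      · exact Or.inl h0
      · exact Or.inr ((mul_eq_right₀ h0).1 h)
    · rintro (h | h)
      · rw [h, mul_zero]
      · rw [h, one_mul]
  have hmoved : ∀ x : {x : ι → F // Q x = 1},
      normPerm (Q := Q) 1 s x ≠ x ↔ (e.symm x.1).1 ≠ 0 := by
    intro x
    have := hfix x 1
    rw [pow_one] at this
    rw [Ne, this, Nat.dvd_one]
    constructor
    · exact fun h h' => h (Or.inl h')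
    · rintro h (h' | h')
      · exact h h'
      · omega
  obtain ⟨c, hcard, hsign⟩ := sign_of_semiregular (normPerm (Q := Q) 1 s) hNeven fun x hx j => by
    rw [hfix, or_iff_right ((hmoved x).1 hx)]
  have hθ : theta (Q := Q) 1 s = Equiv.Perm.sign (normPerm (Q := Q) 1 s) := by
    unfold theta
    rfl
  rw [hθ, hsign]
  suffices hc : Odd c by rw [hc.neg_one_pow]; decide
  -- count the moved points
  let H : F → ℕ := fun d => Nat.card {l : Kˣ // (l ∈ (powMonoidHom N : Kˣ →* Kˣ).range) ∧
    lam (l : K) = 2 * d}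
  have hker : Nat.card (powMonoidHom N : Kˣ →* Kˣ).ker = N := by
    rw [IsCyclic.card_powMonoidHom_ker, Nat.card_units, hK, mul_comm 2 k, pow_mul, ← hQk]
    refine Nat.gcd_eq_right ?_
    rw [hN, ← one_pow 2, Nat.sq_sub_sq, one_pow]
    exact dvd_mul_right _ _
  have hG : ∀ d : F, Nat.card {β : Kˣ // lam ((β : K) ^ N) = 2 * d} = N * H d := by
    intro d
    have h := natCard_preimage (powMonoidHom N : Kˣ →* Kˣ)
      (fun l => l ∈ (powMonoidHom N : Kˣ →* Kˣ).range ∧ lam (l : K) = 2 * d) (fun l hl => hl.1)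
    rw [hker] at h
    rw [← h]
    exact Nat.card_congr (Equiv.subtypeEquivRight fun β => by
      simp [powMonoidHom_apply, Units.val_pow_eq_pow_val])
  have hcount : (normPerm (Q := Q) 1 s).support.card = N * ∑ y : W', H (1 - Q y) := by
    rw [Finset.mul_sum, ← Fintype.card_coe, ← Nat.card_eq_fintype_card]
    have heq : {x // x ∈ (normPerm (Q := Q) 1 s).support} ≃
        Σ y : W', {β : Kˣ // lam ((β : K) ^ N) = 2 * (1 - Q y)} :=
      { toFun := fun x => ⟨(e.symm x.1.1).2,
          Units.mk0 (e.symm x.1.1).1 ((hmoved x.1).1 (Equiv.Perm.mem_support.1 x.2)), by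
            have h := hsplit (e.symm x.1.1)
            rw [e.apply_symm_apply, x.1.2] at h
            rw [Units.val_mk0, ← hlam]
            linear_combination -2 * h⟩
        invFun := fun z => ⟨⟨e ((z.2.1 : K), z.1), by
            rw [hsplit]
            have h := z.2.2
            rw [← hlam] at h
            linear_combination mul_left_cancel₀ h2 h⟩, by
            rw [Equiv.Perm.mem_support, hmoved, e.symm_apply_apply]
            exact z.2.1.ne_zero⟩
        left_inv := fun x => Subtype.ext (Subtype.ext (by simp))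
        right_inv := fun z => by
          obtain ⟨y, β, hβ⟩ := z
          refine Sigma.subtype_ext ?_ ?_
          · simp
          · exact Units.ext (by simp) }
    rw [Nat.card_congr heq, Nat.card_sigma]
    exact Finset.sum_congr rfl fun y _ => hG _
  rw [hcard] at hcount
  rw [Nat.eq_of_mul_eq_mul_left (by omega : 0 < N) hcount, ← Nat.not_even_iff_odd, even_iff_two_dvd,
    ← CharP.cast_eq_zero_iff (ZMod 2) 2, Nat.cast_sum,
    Finset.sum_eq_add_sum_sdiff_singleton_of_mem (Finset.mem_univ (0 : W'))]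
  have hrest : ∑ y ∈ Finset.univ \ {(0 : W')}, ((H (1 - Q y) : ℕ) : ZMod 2) = 0 := by
    refine Finset.sum_involution (fun y _ => -y) (fun y _ => ?_) (fun y hy _ h => ?_)
      (fun y hy => ?_) (fun y _ => neg_neg y)
    · rw [Submodule.coe_neg, QuadraticMap.map_neg]
      exact CharTwo.add_self_eq_zero _
    · have h0 : (2 : F) • y = 0 := by
        rw [two_smul]; nth_rewrite 1 [← h]; exact neg_add_cancel y
      simp only [Finset.mem_sdiff, Finset.mem_singleton] at hy
      exact hy.2 ((smul_eq_zero.1 h0).resolve_left h2)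
    · simpa [neg_eq_zero] using hy
  rw [hrest, add_zero, CharP.cast_eq_zero_iff (ZMod 2) 2, ← even_iff_two_dvd, Nat.not_even_iff_odd,
    ZeroMemClass.coe_zero, QuadraticMap.map_zero, sub_zero]
  -- `H 1` is a fibre of a non-zero functional
  let L : Submodule F K :=
    { carrier := {z | z ^ Qk = z}
      add_mem' := fun {a b} ha hb => by
        have h := map_add ((FiniteField.frobeniusAlgHom F K) ^ k) a b
        simp only [AlgHom.coe_pow, FiniteField.coe_frobeniusAlgHom, pow_iterate] at h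
        simp only [Set.mem_setOf_eq] at ha hb ⊢
        rw [hQk] at ha hb ⊢
        rw [h, ha, hb]
      zero_mem' := zero_pow (by omega)
      smul_mem' := fun r z hz => by
        simp only [Set.mem_setOf_eq] at hz ⊢
        rw [_root_.smul_pow, hz, hQk, FiniteField.pow_card_pow] }
  have hNL : ∀ β : K, β ^ N ∈ L := by
    intro β
    show (β ^ N) ^ Qk = β ^ N
    have hβ : (β ^ Qk) ^ Qk = β := by
      rw [← pow_mul, hQk, ← pow_add, ← two_mul, ← hK, Nat.card_eq_fintype_card, FiniteField.pow_card]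
    rw [hN, pow_succ, mul_pow, hβ, mul_comm]
  have hrange : ∀ l : Kˣ, l ∈ (powMonoidHom N : Kˣ →* Kˣ).range ↔ (l : K) ∈ L := by
    have hle : (powMonoidHom N : Kˣ →* Kˣ).range ≤ (powMonoidHom (Qk - 1) : Kˣ →* Kˣ).ker := by
      rintro _ ⟨β, rfl⟩
      rw [MonoidHom.mem_ker]
      apply Units.ext
      simp only [powMonoidHom_apply, Units.val_pow_eq_pow_val, Units.val_one]
      have h := hNL (β : K)
      change ((β : K) ^ N) ^ Qk = (β : K) ^ N at h
      rw [← Nat.sub_add_cancel hQ1.le, pow_succ] at h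
      exact (mul_eq_right₀ (pow_ne_zero _ β.ne_zero)).1 h
    have hcardR : Nat.card (powMonoidHom N : Kˣ →* Kˣ).range = Qk - 1 := by
      have h := (powMonoidHom N : Kˣ →* Kˣ).ker.card_eq_card_quotient_mul_card_subgroup
      rw [hker, Nat.card_congr (QuotientGroup.quotientKerEquivRange _).toEquiv, Nat.card_units, hK,
        mul_comm 2 k, pow_mul, ← hQk, hN] at h
      have h2' : Qk ^ 2 - 1 = (Qk - 1) * (Qk + 1) := by
        rw [mul_comm, ← Nat.sq_sub_sq, one_pow]
      rw [h2'] at h
      rw [hN]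
      exact (Nat.eq_of_mul_eq_mul_right (by omega) h).symm
    have heqR := Subgroup.eq_of_le_of_card_ge hle (by
      rw [hcardR, IsCyclic.card_powMonoidHom_ker]
      exact Nat.le_of_dvd (by omega) (Nat.gcd_dvd_right _ _))
    intro l
    rw [heqR, MonoidHom.mem_ker]
    show l ^ (Qk - 1) = 1 ↔ (l : K) ^ Qk = l
    rw [← Units.val_inj, Units.val_pow_eq_pow_val, Units.val_one]
    conv_rhs => rw [← Nat.sub_add_cancel hQ1.le, pow_succ]
    exact (mul_eq_right₀ l.ne_zero).symm
  have hH : H 1 = Nat.card {l : L // lam.comp L.subtype l = 2} := by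
    refine Nat.card_congr
      { toFun := fun l => ⟨⟨(l.1 : K), (hrange l.1).1 l.2.1⟩, by
          show lam (l.1 : K) = 2
          rw [l.2.2, mul_one]⟩
        invFun := fun l => ⟨Units.mk0 (l.1 : K) (fun h => by
            have hl := l.2
            change lam (l.1 : K) = 2 at hl
            rw [h, map_zero] at hl
            exact h2 hl.symm), (hrange _).2 l.1.2, by
          rw [Units.val_mk0, mul_one]; exact l.2⟩
        left_inv := fun l => Subtype.ext (Units.ext rfl)
        right_inv := fun l => rfl }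
  rw [hH]
  refine natCard_linear_fibre_odd hqodd _ (fun h0 => ?_) 2
  obtain ⟨β, hβ⟩ := hne
  exact hβ (DFunLike.congr_fun h0 ⟨β ^ N, hNL β⟩)

end counting

section main

variable {ι : Type} [Fintype ι] [DecidableEq ι] {F : Type*} [Field F] [Fintype F]
variable {Q : QuadraticForm F (ι → F)}

open CfsgLib.OrthSpinor
open QuadraticMap (polar polarBilin)

/-- The linear map of an isometry. -/
noncomputable def linHom (Q : QuadraticForm F (ι → F)) :
    ↥(Cfsg.isometryGroup F ⇑Q) →* Module.End F (ι → F) :=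
  (Matrix.toLinAlgEquiv' (R := F) (n := ι)).toMonoidHom.comp
    ((Units.coeHom _).comp (Cfsg.isometryGroup F ⇑Q).subtype)

theorem linHom_apply (g : ↥(Cfsg.isometryGroup F ⇑Q)) (x : ι → F) :
    linHom Q g x = act Q g x := rfl

theorem linHom_injective : Function.Injective (linHom Q) := fun g h hgh =>
  ext_act Q fun x => by rw [← linHom_apply, hgh, linHom_apply]

theorem det_linHom (g : ↥(Cfsg.isometryGroup F ⇑Q)) :
    LinearMap.det (linHom Q g) = (detHom g : Fˣ) := by
  rw [detHom_coe]
  exact LinearMap.det_toLin' _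

theorem adjoint_aeval {S S' : Module.End F (ι → F)}
    (h : ∀ x y, polarBilin Q (S x) y = polarBilin Q x (S' y)) (P : F[X]) :
    ∀ x y, polarBilin Q (aeval S P x) y = polarBilin Q x (aeval S' P y) := by
  induction P using Polynomial.induction_on' with
  | add a b ha hb => intro x y; simp only [map_add, LinearMap.add_apply, ha x y, hb x y]
  | monomial i c =>
    have hi : ∀ (i : ℕ) x y, polarBilin Q ((S ^ i) x) y = polarBilin Q x ((S' ^ i) y) := by
      intro i
      induction i with
      | zero => intro x y; rfl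
      | succ i ih =>
        intro x y
        rw [pow_succ, pow_succ', Module.End.mul_apply, Module.End.mul_apply, ih, h]
    intro x y
    simp only [aeval_monomial, Module.End.mul_apply, Module.algebraMap_end_apply, map_smul,
      LinearMap.smul_apply, hi]

theorem not_dvd_orderOf_of_mem_Omega (p : ℕ) [Fact p.Prime] [CharP F p] (h2 : (2 : F) ≠ 0)
    (hQ : (polarBilin Q).Nondegenerate) {k : ℕ} (hk : 2 ≤ k)
    (hι : Fintype.card ι = 2 * k + 3) (g : ↥(Cfsg.isometryGroup F ⇑Q))
    (hg : g ∈ Cfsg.Omega F ⇑Q) : ¬ p * (Fintype.card F ^ k + 1) ∣ orderOf g := by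
  intro hdvd
  haveI : Finite (GL ι F) := inferInstance
  obtain ⟨N, hN⟩ : ∃ N, N = Fintype.card F ^ k + 1 := ⟨_, rfl⟩
  rw [← hN] at hdvd
  have hp : p.Prime := Fact.out
  obtain ⟨c, -, hqc⟩ := FiniteField.card F p
  have hq := Fintype.one_lt_card (α := F)
  have hp2 : p ≠ 2 := by rintro rfl; exact h2 (by exact_mod_cast CharP.cast_eq_zero F 2)
  have hNp : ¬ p ∣ N := by
    rw [hN]
    intro h
    have hpq : p ∣ Fintype.card F ^ k := dvd_pow (hqc ▸ dvd_pow_self p c.pos.ne') (by omega)
    exact hp.not_dvd_one ((Nat.dvd_add_right hpq).1 h)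
  have hNF : (N : F) ≠ 0 := fun h => hNp ((CharP.cast_eq_zero_iff F p N).1 h)
  -- an element of order `p N`, its two parts
  obtain ⟨g1, hg1, hord⟩ : ∃ g1 ∈ Cfsg.Omega F ⇑Q, orderOf g1 = p * N :=
    ⟨g ^ (orderOf g / (p * N)), pow_mem hg _, orderOf_pow_orderOf_div (orderOf_pos g).ne' hdvd⟩
  obtain ⟨s, hs⟩ : ∃ s, s = g1 ^ p := ⟨_, rfl⟩
  obtain ⟨u, hu⟩ : ∃ u, u = g1 ^ N := ⟨_, rfl⟩
  have hNpos : 0 < N := by omega
  have hsord : orderOf s = N := by
    rw [hs, orderOf_pow_of_dvd hp.ne_zero (hord ▸ dvd_mul_right _ _), hord,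
      Nat.mul_div_cancel_left _ hp.pos]
  have huord : orderOf u = p := by
    rw [hu, orderOf_pow_of_dvd hNpos.ne' (hord ▸ dvd_mul_left _ _), hord,
      Nat.mul_div_cancel _ hNpos]
  have hsΩ : s ∈ Cfsg.Omega F ⇑Q := hs ▸ pow_mem hg1 _
  obtain ⟨S, hS⟩ : ∃ S, S = linHom Q s := ⟨_, rfl⟩
  obtain ⟨U, hU⟩ : ∃ U, U = linHom Q u := ⟨_, rfl⟩
  have hSU : Commute S U := by
    rw [hS, hU, hs, hu]
    exact ((Commute.refl g1).pow_pow _ _).map (linHom Q)
  have hSord : orderOf S = N := by rw [hS, orderOf_injective _ linHom_injective, hsord]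
  have hUord : orderOf U = p := by rw [hU, orderOf_injective _ linHom_injective, huord]
  have hSN : S ^ N = 1 := hSord ▸ pow_orderOf_eq_one S
  have hsymm : ∀ x y, polarBilin Q x y = polarBilin Q y x := fun x y => polar_comm' Q x y
  have hSB : ∀ x y, polarBilin Q (S x) (S y) = polarBilin Q x y := fun x y => by
    rw [hS]; exact polar_act Q s x y
  have hUB : ∀ x y, polarBilin Q (U x) (U y) = polarBilin Q x y := fun x y => by
    rw [hU]; exact polar_act Q u x y
  have hadj0 : ∀ x y, polarBilin Q (S x) y = polarBilin Q x ((S ^ (N - 1)) y) := fun x y => by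
    conv_lhs => rw [show y = S ((S ^ (N - 1)) y) by
      rw [← Module.End.mul_apply, ← pow_succ', Nat.sub_add_cancel hNpos, hSN]; rfl]
    rw [hSB]
  -- the primitive prime and the field
  obtain ⟨r, hrp, hrd, hprim⟩ := CfsgLib.Zsigmondy.exists_primitive_prime_divisor hq
    (show 1 < 2 * k by omega) (fun h => by
      have := h.1; have : Odd (2 : ℕ) := this ▸ (hqc ▸ (hp.odd_of_ne_two hp2).pow)
      exact absurd this (by decide)) (fun h => by omega)
  have hrN : r ∣ N := by
    have h : r ∣ (Fintype.card F ^ k + 1) * (Fintype.card F ^ k - 1) := by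
      rw [← Nat.sq_sub_sq, one_pow, ← pow_mul, mul_comm]; exact hrd
    exact hN ▸ (hrp.dvd_mul.1 h).resolve_right (hprim k (by omega) (by omega))
  obtain ⟨f, hfm, hfi, hfdvd, hrord, hαN, hsqf⟩ := exists_factor_orderOf S hrp hrN hNF hSord
  haveI : Fact (Irreducible f) := ⟨hfi⟩
  have hfac : Fintype.card F ^ (2 * k) - 1 = N * (Fintype.card F ^ k - 1) := by
    rw [hN, ← Nat.sq_sub_sq, one_pow, ← pow_mul, mul_comm k 2]
  obtain ⟨hKcard, hdeg⟩ := natDegree_eq_of_primitive hfm (show 0 < 2 * k by omega)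
    (by rw [hfac, pow_mul, hαN, one_pow]) hrord hprim
  haveI : Module.Finite F (AdjoinRoot f) := (AdjoinRoot.powerBasis hfm.ne_zero).finite
  haveI : Finite (AdjoinRoot f) := Module.finite_of_finite F
  have hKdim : Module.finrank F (AdjoinRoot f) = 2 * k := by
    rw [(AdjoinRoot.powerBasis hfm.ne_zero).finrank, AdjoinRoot.powerBasis_dim, hdeg]
  obtain ⟨α, hα⟩ : ∃ α, α = AdjoinRoot.root f := ⟨_, rfl⟩
  rw [← hα] at hαN
  obtain ⟨σ, hσ⟩ : ∃ σ : AdjoinRoot f →ₐ[F] AdjoinRoot f,
      ∀ x, σ x = x ^ (Fintype.card F ^ k) :=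
    ⟨(FiniteField.frobeniusAlgHom F (AdjoinRoot f)) ^ k, fun x => by
      rw [AlgHom.coe_pow, FiniteField.coe_frobeniusAlgHom, pow_iterate]⟩
  have hσα : σ α = α ^ (N - 1) := by rw [hσ, hN, Nat.add_sub_cancel]
  -- the kernel and image of `f S`
  obtain ⟨G, hG⟩ : ∃ G, G = aeval S f := ⟨_, rfl⟩
  have hcomm : ∀ P R : F[X], ∀ x, aeval S P (aeval S R x) = aeval S R (aeval S P x) := fun P R x => by
    rw [← Module.End.mul_apply, ← map_mul, mul_comm, map_mul, Module.End.mul_apply]
  obtain ⟨w0, hw0, hw0ne⟩ : ∃ w, G w = 0 ∧ w ≠ 0 := by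
    by_contra hcon
    push Not at hcon
    obtain ⟨R, hR⟩ := hfdvd
    have hP0 : minpoly F S ≠ 0 := minpoly.ne_zero (Algebra.IsIntegral.isIntegral S)
    have hR0 : aeval S R = 0 := by
      refine LinearMap.ext fun x => ?_
      refine hcon _ ?_
      rw [hG, ← Module.End.mul_apply, ← map_mul, ← hR, minpoly.aeval]
      rfl
    obtain ⟨T, hT⟩ := minpoly.dvd F S hR0
    have : IsUnit f := IsUnit.of_mul_eq_one (b := T) (mul_left_cancel₀ hP0 (by
      rw [mul_one]
      calc minpoly F S * (f * T) = f * (minpoly F S * T) := by ring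
        _ = minpoly F S := by rw [← hT, ← hR]))
    exact hfi.not_isUnit this
  -- the orbit maps
  obtain ⟨E, hE⟩ : ∃ E : (ι → F) → (AdjoinRoot f →ₗ[F] (ι → F)), ∀ w, G w = 0 →
      ∀ P, E w (AdjoinRoot.mk f P) = aeval S P w := by
    refine ⟨fun w => (LinearMap.applyₗ w).comp
      ((aeval S).toLinearMap.comp (AdjoinRoot.modByMonicHom hfm)), fun w hw P => ?_⟩
    simp only [LinearMap.comp_apply, AlgHom.toLinearMap_apply, LinearMap.applyₗ_apply_apply,
      AdjoinRoot.modByMonicHom_mk]
    conv_rhs => rw [← modByMonic_add_div P f, map_add, mul_comm f, map_mul, LinearMap.add_apply,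
      Module.End.mul_apply, ← hG, hw, map_zero, add_zero]
  have hEG : ∀ w, G w = 0 → ∀ β, G (E w β) = 0 := fun w hw β => by
    obtain ⟨P, rfl⟩ := AdjoinRoot.mk_surjective β
    rw [hE w hw, hG, hcomm, ← hG, hw, map_zero]
  have hEmul : ∀ w, G w = 0 → ∀ P β, E w (AdjoinRoot.mk f P * β) = aeval S P (E w β) := by
    intro w hw P β
    obtain ⟨R, rfl⟩ := AdjoinRoot.mk_surjective β
    rw [← map_mul, hE w hw, hE w hw, map_mul, Module.End.mul_apply]
  have hE1 : ∀ w, G w = 0 → E w 1 = w := fun w hw => by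
    rw [← map_one (AdjoinRoot.mk f), hE w hw, map_one]; rfl
  have hEinj : ∀ w, G w = 0 → w ≠ 0 → Function.Injective (E w) := by
    intro w hw hwne
    rw [injective_iff_map_eq_zero]
    intro β hβ
    by_contra hne
    obtain ⟨P, hP⟩ := AdjoinRoot.mk_surjective β⁻¹
    have h := hEmul w hw P β
    rw [hP, inv_mul_cancel₀ hne, hE1 w hw, hβ, map_zero] at h
    exact hwne h
  have hWrange : LinearMap.ker G = LinearMap.range (E w0) := by
    refine le_antisymm (fun w hw => ?_) (by rintro _ ⟨β, rfl⟩; exact hEG w0 hw0 β)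
    rw [LinearMap.mem_ker] at hw
    by_contra hnot
    have hwne : w ≠ 0 := fun h => hnot (h ▸ Submodule.zero_mem _)
    have hdisj : Disjoint (LinearMap.range (E w0)) (LinearMap.range (E w)) := by
      rw [Submodule.disjoint_def]
      rintro _ ⟨γ, rfl⟩ ⟨β, hβ⟩
      by_cases hβ0 : β = 0
      · rw [← hβ, hβ0, map_zero]
      · exfalso
        obtain ⟨P, hP⟩ := AdjoinRoot.mk_surjective β⁻¹
        refine hnot ⟨β⁻¹ * γ, ?_⟩
        rw [← hP, hEmul w0 hw0, ← hβ, ← hEmul w hw, hP, inv_mul_cancel₀ hβ0, hE1 w hw]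
    have h1 := Submodule.finrank_sup_add_finrank_inf_eq (LinearMap.range (E w0)) (LinearMap.range (E w))
    rw [hdisj.eq_bot, finrank_bot, add_zero, LinearMap.finrank_range_of_inj (hEinj w0 hw0 hw0ne),
      LinearMap.finrank_range_of_inj (hEinj w hw hwne), hKdim] at h1
    have h2' := Submodule.finrank_le (LinearMap.range (E w0) ⊔ LinearMap.range (E w))
    rw [Module.finrank_fintype_fun_eq_card, hι] at h2'
    omega
  obtain ⟨W', hW'⟩ : ∃ W', W' = LinearMap.range G := ⟨_, rfl⟩
  have hW'3 : Module.finrank F W' = 3 := by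
    have h := LinearMap.finrank_range_add_finrank_ker G
    rw [← hW', hWrange, LinearMap.finrank_range_of_inj (hEinj w0 hw0 hw0ne), hKdim,
      Module.finrank_fintype_fun_eq_card, hι] at h
    omega
  have hcompl : IsCompl (LinearMap.ker G) W' := by
    obtain ⟨R, hR⟩ := hfdvd
    have hco : IsCoprime f R := (hfi.coprime_iff_not_dvd).2 fun h => hfi.not_isUnit
      (hsqf f (hR ▸ mul_dvd_mul_left f h))
    obtain ⟨a, b, hab⟩ := hco
    have hid : ∀ x, G (aeval S a x) + aeval S b (aeval S R x) = x := fun x => by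
      have h := DFunLike.congr_fun (congrArg (aeval S) hab) x
      rw [map_add, map_mul, map_mul, map_one, LinearMap.add_apply, Module.End.mul_apply,
        Module.End.mul_apply, hcomm a f, Module.End.one_apply] at h
      rw [hG]; exact h
    have hfR : ∀ x, aeval S R (G x) = 0 := fun x => by
      rw [hG, ← Module.End.mul_apply, ← map_mul, mul_comm, ← hR, minpoly.aeval]; rfl
    rw [hW', isCompl_iff, Submodule.disjoint_def, codisjoint_iff, eq_top_iff]
    refine ⟨?_, fun x _ => ?_⟩
    · rintro _ hy ⟨x, rfl⟩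
      rw [LinearMap.mem_ker] at hy
      have h := hid (G x)
      rw [hfR, map_zero, add_zero, hG, ← hcomm a f, ← hG, hy, map_zero] at h
      exact h.symm
    · rw [← hid x, add_comm]
      refine Submodule.add_mem_sup ?_ (LinearMap.mem_range_self G _)
      rw [LinearMap.mem_ker, hG, hcomm, hcomm f R, ← hG, hfR, map_zero]
  -- the adjoint on the torus space
  have hadj : ∀ β γ, polarBilin Q (E w0 β) (E w0 γ) = polarBilin Q w0 (E w0 (σ β * γ)) := by
    intro β γ
    obtain ⟨P, rfl⟩ := AdjoinRoot.mk_surjective β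
    rw [hE w0 hw0 P, adjoint_aeval hadj0, ← aeval_X_pow (R := F) (x := S) (n := N - 1), ← aeval_comp,
      ← hEmul w0 hw0, ← AdjoinRoot.aeval_eq (P.comp (X ^ (N - 1))), aeval_comp, aeval_X_pow, ← hα,
      ← hσα, aeval_algHom_apply, hα, AdjoinRoot.aeval_eq]
  have horth : ∀ w ∈ LinearMap.ker G, ∀ y ∈ W', polarBilin Q w y = 0 := by
    rw [hWrange, hW']
    rintro _ ⟨β, rfl⟩ _ ⟨z, rfl⟩
    rw [hsymm, hG, adjoint_aeval hadj0, ← aeval_X_pow (R := F) (x := S) (n := N - 1), ← aeval_comp,
      ← hEmul w0 hw0, ← AdjoinRoot.aeval_eq (f.comp (X ^ (N - 1))), aeval_comp, aeval_X_pow, ← hα,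
      ← hσα, aeval_algHom_apply, hα, AdjoinRoot.aeval_eq, AdjoinRoot.mk_self, map_zero, zero_mul,
      map_zero, map_zero]
  -- `U` is trivial on the torus space
  have hUc : ∀ (P : F[X]) x, U (aeval S P x) = aeval S P (U x) := by
    intro P x
    have hc' : Commute (aeval S P) U := by
      induction P using Polynomial.induction_on' with
      | add a b ha hb => rw [map_add]; exact ha.add_left hb
      | monomial i c =>
        rw [aeval_monomial]; exact (Algebra.commute_algebraMap_left c U).mul_left (hSU.pow_left i)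
    exact (DFunLike.congr_fun hc'.eq x).symm
  have hUG : ∀ x, U (G x) = G (U x) := fun x => by rw [hG]; exact hUc f x
  obtain ⟨β0, hβ0⟩ : ∃ β0, E w0 β0 = U w0 := by
    have h : U w0 ∈ LinearMap.range (E w0) := by
      rw [← hWrange, LinearMap.mem_ker, ← hUG, hw0, map_zero]
    exact h
  have hUE : ∀ β, U (E w0 β) = E w0 (β * β0) := by
    intro β
    obtain ⟨P, rfl⟩ := AdjoinRoot.mk_surjective β
    rw [hEmul w0 hw0, hβ0, hE w0 hw0, hUc]
  haveI : CharP (AdjoinRoot f) p :=
    charP_of_injective_algebraMap (algebraMap F (AdjoinRoot f)).injective p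
  have hUp : U ^ p = 1 := hUord ▸ pow_orderOf_eq_one U
  have hβ1 : β0 = 1 := by
    have hpow : ∀ j : ℕ, (U ^ j) w0 = E w0 (β0 ^ j) := by
      intro j
      induction j with
      | zero => rw [pow_zero, pow_zero, hE1 w0 hw0]; rfl
      | succ j ih => rw [pow_succ', Module.End.mul_apply, ih, hUE, pow_succ]
    have h := hpow p
    rw [hUp] at h
    have h1 : β0 ^ p = 1 := hEinj w0 hw0 hw0ne (by rw [← h, hE1 w0 hw0]; rfl)
    have h3 : (β0 - 1) ^ p = 0 := by rw [sub_pow_char, h1, one_pow, sub_self]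
    exact sub_eq_zero.1 (pow_eq_zero_iff hp.ne_zero |>.1 h3)
  have hUW : ∀ w ∈ LinearMap.ker G, U w = w := by
    rw [hWrange]; rintro _ ⟨β, rfl⟩; rw [hUE, hβ1, mul_one]
  have hSG : ∀ x, S (G x) = G (S x) := fun x => by
    have h := hcomm X f x
    rw [aeval_X, ← hG] at h
    exact h
  -- `S` is scalar on the complement
  obtain ⟨a, ha2, ha⟩ := scalar_on_complement p h2 (polarBilin Q) hQ hsymm hcompl horth hW'3 hSU hUW
    (by rw [hW']; rintro _ ⟨x, rfl⟩; exact ⟨U x, (hUG x).symm⟩)
    (by rw [hW']; rintro _ ⟨x, rfl⟩; exact ⟨S x, (hSG x).symm⟩) hUB hSB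
    (fun h => hp.ne_one (by rw [← hUord, h, orderOf_one])) hUp
    (e := (c : ℕ) * (2 * k))
    (by
      rw [pow_mul, ← hqc]
      calc 3 ≤ Fintype.card F ^ 2 := by nlinarith
        _ ≤ _ := Nat.pow_le_pow_right (by omega) (by omega))
    (by
      rw [pow_mul, ← hqc, show Fintype.card F ^ (2 * k) = N * (Fintype.card F ^ k - 1) + 1 from by
        rw [← hfac, Nat.sub_add_cancel (Nat.one_le_pow _ _ (by omega))],
        pow_succ, pow_mul, hSN, one_pow, one_mul])
    (fun x => by rw [pow_mul, ← hqc, FiniteField.pow_card_pow])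
  -- coordinates
  obtain ⟨e, he⟩ : ∃ e : (AdjoinRoot f × W') ≃ₗ[F] (ι → F), ∀ x, e x = E w0 x.1 + (x.2 : ι → F) := by
    have hinj : Function.Injective ((E w0).coprod W'.subtype) := by
      rw [injective_iff_map_eq_zero]
      rintro ⟨β, y⟩ h
      simp only [LinearMap.coprod_apply, Submodule.subtype_apply] at h
      have hy : (y : ι → F) ∈ LinearMap.ker G := by
        rw [eq_neg_of_add_eq_zero_right h]
        exact Submodule.neg_mem _ (hEG w0 hw0 β)
      have hy0 := Submodule.disjoint_def.1 hcompl.disjoint _ hy y.2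
      rw [hy0, add_zero] at h
      exact Prod.ext (hEinj w0 hw0 hw0ne (h.trans (map_zero _).symm)) (Subtype.ext hy0)
    have hfr : Module.finrank F (AdjoinRoot f × W') = Module.finrank F (ι → F) := by
      rw [Module.finrank_prod, hKdim, hW'3, Module.finrank_fintype_fun_eq_card, hι]
    exact ⟨LinearEquiv.ofBijective _
      ⟨hinj, (LinearMap.injective_iff_surjective_of_finrank_eq_finrank hfr).1 hinj⟩, fun x => rfl⟩
  have hSα : ∀ β, S (E w0 β) = E w0 (α * β) := fun β => by
    rw [hα, ← AdjoinRoot.mk_X, hEmul w0 hw0, aeval_X]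
  -- the determinant
  have hn2 : 2 ≤ Fintype.card ι := by omega
  obtain ⟨hdet, htheta⟩ := (mem_Omega_iff h2 hQ hn2 one_ne_zero s).1 hsΩ
  have hnorm : Algebra.norm F α = 1 := by
    apply (algebraMap F (AdjoinRoot f)).injective
    rw [FiniteField.algebraMap_norm_eq_pow, map_one, hKcard, Nat.card_eq_fintype_card, hfac,
      Nat.mul_div_assoc _ (by simpa using Nat.sub_dvd_pow_sub_pow (Fintype.card F) 1 k), pow_mul, hαN,
      one_pow]
  have ha1 : a = 1 := by
    have hconj : S = (e : (AdjoinRoot f × W') →ₗ[F] (ι → F)) ∘ₗ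
        ((LinearMap.mulLeft F α).prodMap (a • LinearMap.id)) ∘ₗ
        (e.symm : (ι → F) →ₗ[F] (AdjoinRoot f × W')) := by
      refine LinearMap.ext fun x => ?_
      obtain ⟨z, rfl⟩ := e.surjective x
      simp only [LinearMap.comp_apply, LinearEquiv.coe_coe, e.symm_apply_apply]
      rw [he, he, map_add, hSα, ha _ z.2.2]
      simp
    have hdet' : LinearMap.det S = 1 := by rw [hS, det_linHom, hdet, Units.val_one]
    rw [hconj, LinearMap.det_conj, LinearMap.det_prodMap, LinearMap.det_smul, LinearMap.det_id,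
      hW'3, mul_one] at hdet'
    have hn' : LinearMap.det (LinearMap.mulLeft F α) = 1 := hnorm
    rw [hn', one_mul] at hdet'
    linear_combination (-a) * ha2 + hdet'
  have hse : ∀ x, act Q s (e x) = e (α * x.1, x.2) := fun x => by
    rw [← linHom_apply, ← hS, he, he, map_add, hSα, ha _ x.2.2, ha1, one_smul]
  have hαord : orderOf α = N := by
    refine Nat.dvd_antisymm (orderOf_dvd_of_pow_eq_one hαN) ?_
    rw [← hsord]
    refine orderOf_dvd_of_pow_eq_one (ext_act Q fun x => ?_)
    obtain ⟨z, rfl⟩ := e.surjective x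
    rw [act_pow_torus s e α hse, pow_orderOf_eq_one, one_mul, act_one]
  -- the spinor norm
  refine theta_ne_one h2 (k := k) (by omega) hKcard e
    ((polarBilin Q w0).comp (E w0)) ?_ ?_ ?_ s α (hN ▸ hαord) hse htheta
  · intro x
    rw [he, he, map_add' Q]
    have h0 : polar Q (E w0 x.1) x.2 = 0 := horth _ (hEG w0 hw0 _) _ x.2.2
    simp [h0]
  · intro β
    rw [he, LinearMap.comp_apply, pow_succ, ← hσ, ← hadj, ← polar_self' Q]
    simp
  · by_contra hcon
    push Not at hcon
    refine hw0ne (hQ.1 w0 fun z => ?_)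
    obtain ⟨x, rfl⟩ := e.surjective z
    rw [he, map_add, horth w0 hw0 _ x.2.2, add_zero]
    have hz : ∀ β, Q (E w0 β) = 0 := fun β => by
      have h := hcon β
      rw [LinearMap.comp_apply, pow_succ, ← hσ, ← hadj, QuadraticMap.polarBilin_apply_apply,
        polar_self' Q] at h
      exact (mul_eq_zero.1 h).resolve_left h2
    conv_lhs => arg 1; rw [← hE1 w0 hw0]
    rw [QuadraticMap.polarBilin_apply_apply, QuadraticMap.polar, ← map_add, hz, hz, hz, sub_zero,
      sub_zero]

end main

end CfsgLib.Spectrum.OrthOddMixed
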