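/-
Elements of prescribed order in PSU_n(q).
-/
import Cfsg.Agent.Lib.Spectrum.TwistAlgebra
import Cfsg.Agent.Lib.Spectrum.AltExp
import Cfsg.Agent.Lib.Spectrum.LinearConstructions
import Cfsg.Agent.Lib.Forms.Classify
import Cfsg.Agent.Lib.Classical.Herm.Std
import Cfsg.Prelude.Def_Classical

set_option autoImplicit false

open Polynomial Matrix

namespace CfsgLib.Spectrum

variable {F : Type*} [Field F]

/-- The unitary adjoint. -/
def hermAdj {n : ℕ} (q : ℕ) (A : Matrix (Fin n) (Fin n) F) : Matrix (Fin n) (Fin n) F :=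
  (A.map (fun x => x ^ q))ᵀ

theorem map_iterateFrobenius_eq (p l : ℕ) [Fact p.Prime] [CharP F p] {m n : Type*} (A : Matrix m n F) :
    A.map (iterateFrobenius F p l) = A.map (fun x => x ^ p ^ l) := by
  ext i j
  simp [iterateFrobenius_def]

theorem isTwist_hermAdj {n : ℕ} (p l : ℕ) [Fact p.Prime] [CharP F p]
    (he : ∀ x : F, x ^ (p ^ l * p ^ l) = x) :
    IsTwist p l (hermAdj (F := F) (n := n) (p ^ l)) := by
  have h : ∀ A : Matrix (Fin n) (Fin n) F,
      hermAdj (p ^ l) A = (A.map (iterateFrobenius F p l))ᵀ := fun A => by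
    rw [map_iterateFrobenius_eq]; rfl
  refine ⟨fun A B => ?_, fun A B => ?_, ?_, fun c A => ?_, fun A => ?_, fun A => ?_⟩
  · rw [h, h, h, Matrix.map_mul, Matrix.transpose_mul]
  · rw [h, h, h, Matrix.map_add _ (map_add _), Matrix.transpose_add]
  · rw [h, Matrix.map_one _ (map_zero _) (map_one _), Matrix.transpose_one]
  · ext i j; simp [hermAdj, mul_pow]
  · ext i j; simp [hermAdj, ← pow_mul, he]
  · rw [h, Matrix.charpoly_transpose, Matrix.charpoly_map]

theorem hermAdj_smul {n : ℕ} (q : ℕ) (c : F) (A : Matrix (Fin n) (Fin n) F) :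
    hermAdj q (c • A) = c ^ q • hermAdj q A := by
  ext i j; simp [hermAdj, mul_pow]

theorem mem_SU_iff {n p l : ℕ} [Fact p.Prime] [CharP F p] (g : Matrix.SpecialLinearGroup (Fin n) F) :
    g ∈ Cfsg.SU n F (p ^ l) ↔
      hermAdj (p ^ l) (g : Matrix (Fin n) (Fin n) F) * g = 1 := by
  have hq : p ^ l ≠ 0 := pow_ne_zero _ (Fact.out : p.Prime).ne_zero
  constructor
  · intro h
    ext j i
    have h1 : Cfsg.hermForm n F (p ^ l) ((g : Matrix (Fin n) (Fin n) F) *ᵥ Pi.single i 1)
        ((g : Matrix (Fin n) (Fin n) F) *ᵥ Pi.single j 1) =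
        Cfsg.hermForm n F (p ^ l) (Pi.single i 1) (Pi.single j 1) := h _ _
    have h2 : Cfsg.hermForm n F (p ^ l) (Pi.single i 1) (Pi.single j 1) =
        (1 : Matrix (Fin n) (Fin n) F) j i := by
      rw [Cfsg.hermForm, Finset.sum_eq_single i (fun k _ hk => by simp [hk]) (by simp)]
      rcases eq_or_ne i j with rfl | hij
      · simp
      · simp [hij, Matrix.one_apply_ne (Ne.symm hij), zero_pow hq]
    rw [h2] at h1
    simp only [Cfsg.hermForm, Matrix.mulVec_single_one, Matrix.col_apply] at h1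
    simp only [Matrix.mul_apply, hermAdj, Matrix.transpose_apply, Matrix.map_apply]
    rw [Finset.sum_congr rfl fun k _ => mul_comm _ _, h1]
  · intro h u v
    show Cfsg.hermForm n F (p ^ l) ((g : Matrix (Fin n) (Fin n) F) *ᵥ u)
      ((g : Matrix (Fin n) (Fin n) F) *ᵥ v) = _
    have hform : ∀ x y : Fin n → F,
        Cfsg.hermForm n F (p ^ l) x y = x ⬝ᵥ (fun i => iterateFrobenius F p l (y i)) := fun x y => by
      simp [Cfsg.hermForm, dotProduct, iterateFrobenius_def]
    rw [hform, hform, funext (RingHom.map_mulVec (iterateFrobenius F p l) (g : Matrix (Fin n) (Fin n) F) v)]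
    have hT : ((g : Matrix (Fin n) (Fin n) F))ᵀ *
        (g : Matrix (Fin n) (Fin n) F).map (iterateFrobenius F p l) = 1 := by
      rw [map_iterateFrobenius_eq]
      have := congrArg Matrix.transpose h
      rwa [Matrix.transpose_mul, Matrix.transpose_one, hermAdj, Matrix.transpose_transpose] at this
    rw [← Matrix.vecMul_transpose, ← Matrix.dotProduct_mulVec, Matrix.mulVec_mulVec, hT, Matrix.one_mulVec]
    rfl

section finite

variable [Fintype F]

theorem psuMk_eq_one_iff {n q : ℕ} (hF : Fintype.card F = q ^ 2) (hn : 3 ≤ n) (g : Cfsg.SU n F q) :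
    (QuotientGroup.mk g : Cfsg.PSU n F q) = 1 ↔
      ∃ c : F, (g.1 : Matrix (Fin n) (Fin n) F) = Matrix.scalar (Fin n) c := by
  rw [QuotientGroup.eq_one_iff]
  constructor
  · intro hg
    let ψ := CfsgLib.Classical.Herm.suEquivRoot hF hn
    obtain ⟨e, f, hp⟩ := CfsgLib.Classical.Herm.exists_pair_std hF hn
    have hc : ψ g ∈ Subgroup.center (CfsgLib.Classical.Herm.rootGen (CfsgLib.Classical.Herm.stdHerm hF n)) := by
      refine Subgroup.mem_center_iff.2 fun b => ?_
      obtain ⟨b', rfl⟩ := ψ.surjective b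
      rw [← map_mul, ← map_mul, Subgroup.mem_center_iff.1 hg]
    obtain ⟨μ, -, hμ⟩ := (CfsgLib.Classical.Herm.mem_center_rootGen_iff_scalar
      (CfsgLib.Classical.Herm.big_std hF hn) hp _).1 hc
    refine ⟨μ, Matrix.ext_of_mulVec_single fun i => ?_⟩
    have h1 := hμ (Pi.single i 1)
    rw [show (ψ g).1.1 (Pi.single i 1) = (g.1 : Matrix (Fin n) (Fin n) F) *ᵥ Pi.single i 1 from
      CfsgLib.Classical.Herm.suEquiv_apply hF n g _] at h1
    rw [h1, ← Matrix.smul_one_eq_diagonal μ |>.trans (Matrix.scalar_apply μ).symm,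
      Matrix.smul_mulVec, Matrix.one_mulVec]
  · rintro ⟨c, hc⟩
    refine Subgroup.mem_center_iff.2 fun b => Subtype.ext (Subtype.ext ?_)
    show (b.1 : Matrix (Fin n) (Fin n) F) * (g.1 : Matrix (Fin n) (Fin n) F) = g.1 * b.1
    rw [hc, (Matrix.scalar_commute c (mul_comm c) (b.1 : Matrix (Fin n) (Fin n) F)).eq]

theorem psuMk_pow_eq_one_iff {n q : ℕ} (hF : Fintype.card F = q ^ 2) (hn : 3 ≤ n) (g : Cfsg.SU n F q)
    (k : ℕ) : (QuotientGroup.mk g : Cfsg.PSU n F q) ^ k = 1 ↔
      ∃ c : F, (g.1 : Matrix (Fin n) (Fin n) F) ^ k = Matrix.scalar (Fin n) c := by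
  rw [← QuotientGroup.mk_pow, psuMk_eq_one_iff hF hn, SubmonoidClass.coe_pow,
    Matrix.SpecialLinearGroup.coe_pow]

variable (p l : ℕ) [Fact p.Prime] [CharP F p] (hF : Fintype.card F = (p ^ l) ^ 2)

include hF

theorem pow_sq_card (x : F) : x ^ (p ^ l * p ^ l) = x := by
  rw [← sq, ← hF]; exact FiniteField.pow_card x

theorem iterateFrobenius_ne_id : iterateFrobenius F p l ≠ RingHom.id F := by
  intro h
  obtain ⟨c, hc⟩ := CfsgLib.Classical.Herm.exists_qPow_ne hF
  exact hc (by
    rw [CfsgLib.Classical.Herm.qPow_apply, ← iterateFrobenius_def]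
    exact RingHom.congr_fun h c)

theorem exists_psu_of_twistForm {n : ℕ} (hn : 3 ≤ n) {A : Type*} [CommRing A] [Algebra F A]
    [Module.Finite F A] (hfin : Module.finrank F A = n) {st : A →+* A} {lam : A →ₗ[F] F}
    (h : IsTwistForm (p ^ l) (1 : F) st lam) (a : A) (ha : a * st a = 1)
    (hdet : Algebra.norm F a = 1) :
    ∃ g : Cfsg.PSU n F (p ^ l), ∀ k : ℕ, g ^ k = 1 ↔ ∃ c : F, a ^ k = algebraMap F A c := by
  set σ := iterateFrobenius F p l with hσ
  have hlam : ∀ z, lam (st z) = σ (lam z) := fun z => by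
    rw [h.lam_st, one_mul, hσ, iterateFrobenius_def]
  let B : A →ₛₗ[σ] A →ₗ[F] F := LinearMap.mk₂'ₛₗ σ (RingHom.id F) (fun x y => lam (st x * y))
    (fun x x' y => by rw [map_add, add_mul, map_add])
    (fun c x y => by
      rw [h.st_smul, smul_mul_assoc, map_smul, hσ, iterateFrobenius_def])
    (fun x y y' => by rw [mul_add, map_add])
    (fun c x y => by rw [mul_smul_comm, map_smul]; rfl)
  have hB : ∀ x y, B x y = lam (st x * y) := fun x y => rfl
  have hsymm : B.IsSymm := ⟨fun x y => by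
    rw [hB, hB, ← hlam, map_mul st, h.invol, mul_comm]⟩
  obtain ⟨b, hspan, hb⟩ := CfsgLib.Forms.exists_orthonormal_family B (iterateFrobenius_ne_id p l hF)
    (fun c => by rw [hσ, iterateFrobenius_def, iterateFrobenius_def, ← pow_mul, pow_sq_card p l hF])
    hsymm n ⊤ (by rw [finrank_top, hfin]) (fun x _ hx => by
      by_contra hx0
      obtain ⟨y, hy⟩ := h.nondeg (st x) (fun h0 => hx0 (by rw [← h.invol x, h0, map_zero]))
      exact hy (hx y Submodule.mem_top))
  have hli : LinearIndependent F b :=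
    linearIndependent_of_top_le_span_of_card_eq_finrank hspan.ge (by simp [hfin])
  let bb : Module.Basis (Fin n) F A := Module.Basis.mk hli hspan.ge
  have hform : ∀ x y, Cfsg.hermForm n F (p ^ l) (bb.repr x) (bb.repr y) = B y x := by
    intro x y
    conv_rhs => rw [← bb.sum_repr y, ← bb.sum_repr x]
    simp only [map_sum, LinearMap.map_smulₛₗ, LinearMap.map_smul, LinearMap.sum_apply,
      LinearMap.smul_apply, smul_eq_mul, RingHom.id_apply, bb, Module.Basis.mk_apply, hb,
      mul_ite, mul_one, mul_zero, Finset.sum_ite_eq, Finset.sum_ite_eq', Finset.mem_univ, if_true]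
    exact Finset.sum_congr rfl fun i _ => by rw [hσ, iterateFrobenius_def, mul_comm]
  let M : Matrix.SpecialLinearGroup (Fin n) F :=
    ⟨Algebra.leftMulMatrix bb a, by rw [← Algebra.norm_eq_matrix_det bb a, hdet]⟩
  have hMem : M ∈ Cfsg.SU n F (p ^ l) := by
    intro u v
    show Cfsg.hermForm n F (p ^ l) (Algebra.leftMulMatrix bb a *ᵥ u) (Algebra.leftMulMatrix bb a *ᵥ v) = _
    obtain ⟨x, rfl⟩ : ∃ x, (bb.repr x : Fin n → F) = u :=
      ⟨bb.equivFun.symm u, bb.equivFun.apply_symm_apply u⟩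
    obtain ⟨y, rfl⟩ : ∃ y, (bb.repr y : Fin n → F) = v :=
      ⟨bb.equivFun.symm v, bb.equivFun.apply_symm_apply v⟩
    rw [Algebra.leftMulMatrix_mulVec_repr, Algebra.leftMulMatrix_mulVec_repr, hform, hform, hB, hB,
      map_mul st, show st a * st y * (a * x) = (a * st a) * (st y * x) by ring, ha, one_mul]
  refine ⟨QuotientGroup.mk (⟨M, hMem⟩ : Cfsg.SU n F (p ^ l)), fun k => ?_⟩
  rw [psuMk_pow_eq_one_iff hF hn]
  show (∃ c : F, Algebra.leftMulMatrix bb a ^ k = Matrix.scalar (Fin n) c) ↔ _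
  refine exists_congr fun c => ?_
  rw [← map_pow, show Matrix.scalar (Fin n) c = Algebra.leftMulMatrix bb (algebraMap F A c) by
    rw [AlgHom.commutes]; rfl]
  exact (Algebra.leftMulMatrix_injective bb).eq_iff

omit [Fintype F] [Fact p.Prime] [CharP F p] hF in
theorem norm_prod_eq {A B : Type*} [CommRing A] [Algebra F A] [Module.Finite F A] [Module.Free F A]
    [CommRing B] [Algebra F B] [Module.Finite F B] [Module.Free F B] (a : A) (b : B) :
    Algebra.norm F ((a, b) : A × B) = Algebra.norm F a * Algebra.norm F b := by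
  rw [Algebra.norm_apply, Algebra.norm_apply, Algebra.norm_apply, ← LinearMap.det_prodMap]
  congr 1

omit [Fact p.Prime] [CharP F p] in
theorem exists_algebraMap_iff {K : Type*} [Field K] [Algebra F K] {x : K} (hx : x ≠ 0) :
    (∃ c : F, x = algebraMap F K c) ↔ x ^ ((p ^ l - 1) * (p ^ l + 1)) = 1 := by
  have h2 : (p ^ l) ^ 2 = (p ^ l - 1) * (p ^ l + 1) + 1 := by
    rw [← hF]
    have := Fintype.one_lt_card (α := F)
    rw [hF] at this ⊢
    rw [← sub_one_mul_add_one (Nat.one_le_iff_ne_zero.2 (fun h0 => by rw [h0] at this; simp at this))]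
    omega
  constructor
  · rintro ⟨c, rfl⟩
    rw [← map_pow, show (p ^ l - 1) * (p ^ l + 1) = Fintype.card F - 1 by rw [hF]; omega,
      FiniteField.pow_card_sub_one_eq_one c (fun h => hx (by rw [h, map_zero])), map_one]
  · intro h
    obtain ⟨c, hc⟩ := exists_algebraMap_eq_of_pow_card (F := F) x
      (by rw [hF, h2, pow_succ, h, one_mul])
    exact ⟨c, hc.symm⟩

omit [Fintype F] [Fact p.Prime] [CharP F p] hF in
theorem dvd_mul_add_one_iff {q : ℕ} (hq : 1 ≤ q) (n k : ℕ) :
    altExp q n ∣ k * (q + 1) ↔ singerExpU q n ∣ k := by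
  have hg : 0 < Nat.gcd n (q + 1) := Nat.gcd_pos_of_pos_right _ (by omega)
  obtain ⟨b, hb⟩ := Nat.gcd_dvd_right n (q + 1)
  have hco : Nat.Coprime (singerExpU q n) b := by
    have h1 := gcd_altExp hq n
    rw [← singerExpU_mul hq n, mul_comm _ (Nat.gcd n (q + 1))] at h1
    nth_rewrite 2 [hb] at h1
    rw [Nat.gcd_mul_left] at h1
    exact Nat.eq_of_mul_eq_mul_left hg (h1.trans (mul_one _).symm)
  rw [← singerExpU_mul hq n, mul_comm _ (Nat.gcd n (q + 1))]
  nth_rewrite 2 [hb]
  rw [← mul_assoc k, mul_comm k, mul_assoc, Nat.mul_dvd_mul_iff_left hg]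
  exact hco.dvd_mul_right

theorem two_le_pow : 2 ≤ p ^ l := CfsgLib.Classical.Herm.two_le_of_card hF

theorem exists_orderOf_eq_singerExpU {n : ℕ} (hn : 3 ≤ n) :
    ∃ g : Cfsg.PSU n F (p ^ l), orderOf g = singerExpU (p ^ l) n := by
  set q := p ^ l with hq
  have hq2 : 2 ≤ q := two_le_pow p l hF
  have hqc : ∀ c : F, (c ^ q) ^ q = c := fun c => by rw [← pow_mul, pow_sq_card p l hF]
  rcases Nat.even_or_odd n with ⟨m, rfl⟩ | hodd
  · -- n even
    haveI : NeZero m := ⟨by omega⟩
    let K := FiniteField.Extension F p m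
    haveI : CharP K p := charP_of_injective_algebraMap (algebraMap F K).injective p
    haveI : Fintype K := Fintype.ofFinite K
    haveI : Module.Finite F K := .of_finite
    have hfinK : Module.finrank F K = m := FiniteField.finrank_extension F p m
    have hK : Fintype.card K = q ^ (m + m) := by
      rw [← Nat.card_eq_fintype_card, FiniteField.natCard_extension, Nat.card_eq_fintype_card, hF,
        ← pow_mul, two_mul]
    set r := l * (m + m - 1) with hr
    have hpr : p ^ r = q ^ (m + m - 1) := by rw [hr, pow_mul]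
    have hKr : ∀ z : K, (z ^ (p ^ r)) ^ (p ^ l) = z := fun z => by
      rw [hpr, ← hq, ← pow_mul, ← pow_succ, show m + m - 1 + 1 = m + m by omega, ← hK,
        FiniteField.pow_card]
    have hFr : ∀ c : F, c ^ (p ^ r) = c ^ (p ^ l) := fun c => by
      rw [hpr, ← hq]
      obtain ⟨j, hj⟩ : ∃ j, m + m - 1 = 2 * j + 1 := ⟨m - 1, by omega⟩
      rw [hj, pow_succ, pow_mul c, pow_mul, show q ^ 2 = Fintype.card F from hF.symm,
        FiniteField.pow_card_pow]
    obtain ⟨st, lam, hl, hst⟩ := exists_twistForm_double p l (F := F) (K := K) l r (fun _ => rfl) hFr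
      (fun z => by rw [← pow_mul, mul_comm, pow_mul, hKr]) 1 (mul_one 1) (one_pow _)
    obtain ⟨γ, hγ⟩ := IsCyclic.exists_ofOrder_eq_natCard (α := Kˣ)
    rw [Nat.card_units, Nat.card_eq_fintype_card, hK] at hγ
    obtain ⟨u, hu⟩ := exists_orderOf_eq_of_dvd_orderOf γ (m := altExp q (m + m))
      (hγ ▸ Dvd.intro_left _ (add_one_mul_altExp_even (by omega) ⟨m, rfl⟩))
    set v : K := ((u : K)⁻¹) ^ (p ^ r) with hv
    have huv : (u : K) * v ^ (p ^ l) = 1 := by rw [hv, hKr, mul_inv_cancel₀ u.ne_zero]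
    have hnorm : Algebra.norm F (((u : K), v) : K × K) = 1 := by
      rw [norm_prod_eq, hv, map_pow, hFr, Algebra.norm_inv]
      have hN0 : Algebra.norm F (u : K) ≠ 0 := Algebra.norm_ne_zero_iff.2 u.ne_zero
      have hN : Algebra.norm F (u : K) ^ (q - 1) = 1 := by
        apply (algebraMap F K).injective
        rw [map_pow, map_one, FiniteField.algebraMap_norm_eq_pow_sum, ← pow_mul, hfinK,
          Nat.card_eq_fintype_card, hF]
        show (u : K) ^ (geomExp (q ^ 2) m * (q - 1)) = 1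
        rw [mul_comm, sub_one_mul_geomExp_sq (by omega), two_mul, ← hu, ← Units.val_pow_eq_pow_val,
          pow_orderOf_eq_one, Units.val_one]
      rw [inv_pow, ← hq, show q = q - 1 + 1 by omega, pow_succ, hN, one_mul, mul_inv_cancel₀ hN0]
    obtain ⟨g, hg⟩ := exists_psu_of_twistForm p l hF hn
      (by rw [Module.finrank_prod, hfinK]) hl ((u : K), v)
      (by
        rw [hst, Prod.mk_mul_mk, huv, hv, inv_pow, inv_mul_cancel₀ (pow_ne_zero _ u.ne_zero)]
        rfl) hnorm
    refine ⟨g, orderOf_eq_of_pow_iff g fun k => ?_⟩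
    rw [hg, ← dvd_mul_add_one_iff (by omega : 1 ≤ q) (m + m) k, ← hu, orderOf_dvd_iff_pow_eq_one,
      ← Units.val_eq_one, Units.val_pow_eq_pow_val]
    have hu0 : (u : K) ^ k ≠ 0 := pow_ne_zero _ u.ne_zero
    constructor
    · rintro ⟨c, hc⟩
      simp only [Prod.pow_mk, Prod.algebraMap_apply, Prod.mk.injEq] at hc
      obtain ⟨hc1, hc2⟩ := hc
      rw [hv, ← pow_mul, mul_comm, pow_mul, inv_pow, hc1, inv_pow, ← map_pow, hFr, ← map_inv₀] at hc2
      have hc3 := (algebraMap F K).injective hc2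
      have hc0 : c ≠ 0 := fun h => hu0 (by rw [hc1, h, map_zero])
      rw [pow_mul, hc1, ← map_pow, pow_succ]
      nth_rewrite 2 [← hc3]
      rw [mul_inv_cancel₀ (pow_ne_zero _ hc0), map_one]
    · intro h
      obtain ⟨c, hc⟩ := (exists_algebraMap_iff p l hF hu0).2
        (by rw [← pow_mul, ← hq, mul_comm (q - 1), ← mul_assoc, pow_mul, h, one_pow])
      refine ⟨c, ?_⟩
      have hcq : c ^ (q + 1) = 1 := by
        apply (algebraMap F K).injective
        rw [map_pow, map_one, ← hc, ← pow_mul, h]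
      simp only [Prod.pow_mk, Prod.algebraMap_apply, Prod.mk.injEq]
      refine ⟨hc, ?_⟩
      rw [hv, ← pow_mul, mul_comm, pow_mul, inv_pow, hc, inv_pow, ← map_pow, hFr, ← map_inv₀]
      congr 1
      exact (eq_inv_of_mul_eq_one_left (by rw [← hq, ← pow_succ', hcq])).symm
  · -- n odd
    haveI : NeZero n := ⟨by omega⟩
    let K := FiniteField.Extension F p n
    haveI : CharP K p := charP_of_injective_algebraMap (algebraMap F K).injective p
    haveI : Fintype K := Fintype.ofFinite K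
    haveI : Module.Finite F K := .of_finite
    have hfinK : Module.finrank F K = n := FiniteField.finrank_extension F p n
    have hK : Fintype.card K = q ^ n * q ^ n := by
      rw [← Nat.card_eq_fintype_card, FiniteField.natCard_extension, Nat.card_eq_fintype_card, hF,
        ← pow_mul, two_mul, pow_add]
    have hpn : p ^ (l * n) = q ^ n := by rw [pow_mul]
    have hFn : ∀ c : F, c ^ (p ^ (l * n)) = c ^ (p ^ l) := fun c => by
      rw [hpn, ← hq]
      obtain ⟨j, hj⟩ := hodd
      rw [hj, pow_succ, pow_mul c, pow_mul, show q ^ 2 = Fintype.card F from hF.symm,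
        FiniteField.pow_card_pow]
    obtain ⟨lam, hl⟩ := exists_twistForm_field (F := F) p l (K := K) (l * n) hFn
      (fun z => by rw [hpn, ← pow_mul, ← hK, FiniteField.pow_card]) 1 1 one_ne_zero (by simp) (mul_one 1)
    obtain ⟨γ, hγ⟩ := IsCyclic.exists_ofOrder_eq_natCard (α := Kˣ)
    rw [Nat.card_units, Nat.card_eq_fintype_card, hK] at hγ
    have hfact : q ^ n * q ^ n - 1 = (q ^ n - 1) * (q ^ n + 1) := by
      rw [← sub_one_mul_add_one (Nat.one_le_pow _ _ (by omega)), sq]
    obtain ⟨u, hu⟩ := exists_orderOf_eq_of_dvd_orderOf γ (m := altExp q n)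
      (hγ ▸ hfact ▸ Dvd.dvd.mul_left (Dvd.intro_left _ (add_one_mul_altExp_odd (by omega) hodd)) _)
    have hone : ∀ e, altExp q n ∣ e → (u : K) ^ e = 1 := fun e he => by
      rw [← Units.val_pow_eq_pow_val, orderOf_dvd_iff_pow_eq_one.1 (hu ▸ he), Units.val_one]
    obtain ⟨g, hg⟩ := exists_psu_of_twistForm p l hF hn hfinK hl (u : K)
      (by
        rw [iterateFrobenius_def, hpn, ← pow_succ']
        exact hone _ (Dvd.intro_left _ (add_one_mul_altExp_odd (by omega) hodd)))
      (by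
        apply (algebraMap F K).injective
        rw [map_one, FiniteField.algebraMap_norm_eq_pow_sum, hfinK, Nat.card_eq_fintype_card, hF]
        show (u : K) ^ geomExp (q ^ 2) n = 1
        exact hone _ (by rw [geomExp_sq_odd hq2 hodd]; exact dvd_mul_left _ _))
    refine ⟨g, orderOf_eq_of_pow_iff g fun k => ?_⟩
    rw [hg, exists_algebraMap_iff p l hF (pow_ne_zero _ u.ne_zero), ← pow_mul,
      ← dvd_mul_add_one_iff (by omega : 1 ≤ q) n k, ← Units.val_pow_eq_pow_val, Units.val_eq_one,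
      ← orderOf_dvd_iff_pow_eq_one, hu, ← hq, mul_left_comm]
    exact (coprime_altExp_sub_one (by omega) hodd).dvd_mul_left

theorem exists_trace_ne_zero (m : ℕ) :
    ∃ κ : F, κ + 1 * ((-1) ^ (m - 1) * κ) ^ (p ^ l) ≠ 0 := by
  obtain ⟨c, hc⟩ := CfsgLib.Classical.Herm.exists_qPow_ne hF
  rw [CfsgLib.Classical.Herm.qPow_apply] at hc
  have hneg : ((-1 : F)) ^ (p ^ l) = -1 := by
    rw [← iterateFrobenius_def, map_neg, map_one]
  by_contra hall
  push Not at hall
  have h1 := hall 1
  have h2 := hall c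
  simp only [one_mul, mul_one, mul_pow, pow_right_comm _ _ (p ^ l), hneg] at h1 h2
  rcases neg_one_pow_eq_or F (m - 1) with h | h <;> rw [h] at h1 h2
  · refine hc ?_
    have h3 : (1 : F) + 1 = 0 := h1
    linear_combination h2 - c * h3
  · exact hc (by linear_combination -h2)

theorem exists_twist_truncated {m : ℕ} (hm : 1 ≤ m) :
    ∃ (st : AdjoinRoot (X ^ m : F[X]) →+* AdjoinRoot (X ^ m : F[X]))
      (lam : AdjoinRoot (X ^ m : F[X]) →ₗ[F] F), IsTwistForm (p ^ l) (1 : F) st lam ∧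
      (1 + AdjoinRoot.root (X ^ m : F[X])) * st (1 + AdjoinRoot.root (X ^ m : F[X])) = 1 :=
  exists_twistForm_truncated p l (pow_sq_card p l hF) hm 1 (mul_one 1) (one_pow _)
    (exists_trace_ne_zero p l hF m)

theorem exists_orderOf_eq_unipotentU {n : ℕ} (hn : 3 ≤ n) :
    ∃ g : Cfsg.PSU n F (p ^ l), orderOf g = p ^ Nat.clog p n := by
  obtain ⟨st, lam, hl, ha⟩ := exists_twist_truncated p l hF (show 1 ≤ n by omega)
  obtain ⟨hfin, hord, ⟨ev, hev⟩, hnorm⟩ := truncated_one_add_root (F := F) p (show 1 ≤ n by omega)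
  haveI : Module.Finite F (AdjoinRoot (X ^ n : F[X])) :=
    (AdjoinRoot.powerBasis (pow_ne_zero _ X_ne_zero)).finite
  obtain ⟨g, hg⟩ := exists_psu_of_twistForm p l hF hn hfin hl _ ha hnorm
  refine ⟨g, orderOf_eq_of_pow_iff g fun k => ?_⟩
  rw [hg, ← hord, orderOf_dvd_iff_pow_eq_one]
  constructor
  · rintro ⟨c, hc⟩
    have := congrArg ev hc
    rw [map_pow, hev, one_pow, AlgHom.commutes, Algebra.algebraMap_self, RingHom.id_apply] at this
    rw [hc, ← this, map_one]
  · intro h
    exact ⟨1, by rw [h, map_one]⟩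

theorem exists_orderOf_eq_blockU {n r : ℕ} (hn : 3 ≤ n) (hr : r.Prime) (hrq : r ∣ p ^ l + 1)
    (hrn : ¬ r ∣ n) :
    ∃ g : Cfsg.PSU n F (p ^ l), orderOf g = p ^ Nat.clog p (n - 1) * r := by
  have hp : p.Prime := Fact.out
  have hrF : r ∣ Fintype.card F - 1 := by
    rw [hF, sub_one_mul_add_one (Nat.one_le_pow _ _ hp.pos)]; exact hrq.mul_left _
  obtain ⟨ζ, hζ⟩ := exists_orderOf_eq_of_prime_dvd_card_sub_one hr hrF
  have hζq : (ζ : F) * (ζ : F) ^ (p ^ l) = 1 := by
    rw [← pow_succ', ← Units.val_pow_eq_pow_val, orderOf_dvd_iff_pow_eq_one.1 (hζ ▸ hrq), Units.val_one]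
  obtain ⟨st', lam', hl', hw'⟩ := exists_twist_truncated p l hF (show 1 ≤ n - 1 by omega)
  obtain ⟨hfin, hord, ⟨ev, hev⟩, -⟩ :=
    truncated_one_add_root (F := F) p (show 1 ≤ n - 1 by omega)
  set A := AdjoinRoot (X ^ (n - 1) : F[X])
  set w : A := 1 + AdjoinRoot.root (X ^ (n - 1) : F[X])
  haveI : Module.Finite F A := (AdjoinRoot.powerBasis (pow_ne_zero _ X_ne_zero)).finite
  have hfinB : Module.finrank F (A × F) = n := by
    rw [Module.finrank_prod, hfin, Module.finrank_self]; omega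
  let y : A × F := (algebraMap F A (ζ : F), 1)
  have hy : IsUnit y := Prod.isUnit_iff.2 ⟨(ζ.isUnit).map _, isUnit_one⟩
  set c := Algebra.norm F y
  have hc : c ≠ 0 := (hy.map (Algebra.norm F)).ne_zero
  have hcr : c ^ r = 1 := by
    rw [← map_pow, ← map_one (Algebra.norm F (S := A × F))]
    congr 1
    simp [y, ← map_pow, ← Units.val_pow_eq_pow_val, orderOf_dvd_iff_pow_eq_one.1 hζ.dvd]
  have hcq : c⁻¹ * c⁻¹ ^ (p ^ l) = 1 := by
    obtain ⟨j, hj⟩ := hrq
    rw [← pow_succ', hj, pow_mul, inv_pow, hcr, inv_one, one_pow]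
  have hu : ((w, 1) : A × F) ^ (p ^ Nat.clog p (n - 1)) = 1 := by
    rw [Prod.pow_mk, one_pow, ← hord, pow_orderOf_eq_one]; rfl
  have hu1 : Algebra.norm F ((w, 1) : A × F) = 1 := by
    have h := congrArg (Algebra.norm F) hu
    rw [map_pow, map_one] at h
    exact eq_one_of_pow_char_pow p _ _ h
  set x : A × F := algebraMap F (A × F) c⁻¹ * y ^ n * (w, 1) with hxdef
  have hx : Algebra.norm F x = 1 := by
    rw [map_mul, map_mul, Algebra.norm_algebraMap, hfinB, map_pow, hu1, mul_one, ← mul_pow,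
      inv_mul_cancel₀ hc, one_pow]
  have hl := hl'.prod (IsTwistForm.self p l (pow_sq_card p l hF)) (fun a b => add_pow_char_pow a b p l)
  have hstC : ∀ e : F, st' (algebraMap F A e) = algebraMap F A (e ^ (p ^ l)) := fun e => by
    rw [Algebra.algebraMap_eq_smul_one, hl'.st_smul, map_one, Algebra.algebraMap_eq_smul_one]
  have hxst : x * RingHom.prodMap st' (iterateFrobenius F p l) x = 1 := by
    have h1 : algebraMap F (A × F) c⁻¹ * RingHom.prodMap st' (iterateFrobenius F p l)
        (algebraMap F (A × F) c⁻¹) = 1 := by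
      ext
      · simp only [Prod.fst_mul, Prod.algebraMap_apply, RingHom.coe_prodMap, Prod.map_apply, Prod.fst_one, hstC]
        rw [← map_mul, hcq, map_one]
      · simp only [Prod.snd_mul, Prod.algebraMap_apply, RingHom.coe_prodMap, Prod.map_apply, Prod.snd_one,
          iterateFrobenius_def, Algebra.algebraMap_self, RingHom.id_apply]
        exact hcq
    have h2 : y * RingHom.prodMap st' (iterateFrobenius F p l) y = 1 := by
      simp only [y, RingHom.coe_prodMap, Prod.map_apply, Prod.mk_mul_mk, map_one, mul_one, hstC]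
      rw [← map_mul, hζq, map_one]; rfl
    have h3 : ((w, 1) : A × F) * RingHom.prodMap st' (iterateFrobenius F p l) (w, 1) = 1 := by
      simp only [RingHom.coe_prodMap, Prod.map_apply, Prod.mk_mul_mk, map_one, mul_one, hw']
      rfl
    set φ := RingHom.prodMap st' (iterateFrobenius F p l)
    rw [hxdef, map_mul, map_mul, map_pow,
      show ∀ a b d a' b' d' : A × F, a * b * d * (a' * b' * d') = a * a' * (b * b') * (d * d') from
        fun a b d a' b' d' => by ring, ← mul_pow, h1, h2, h3, one_pow, mul_one, mul_one]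
  obtain ⟨g, hg⟩ := exists_psu_of_twistForm p l hF hn hfinB hl x hxst hx
  refine ⟨g, orderOf_eq_of_pow_iff g fun k => ?_⟩
  have hrp : r ≠ p := by
    rintro rfl
    rcases eq_or_ne l 0 with rfl | hl0
    · have := two_le_pow r 0 hF
      simp at this
    · exact hr.not_dvd_one ((Nat.dvd_add_right (dvd_pow_self r hl0)).1 hrq)
  have hcop : Nat.Coprime (p ^ Nat.clog p (n - 1)) r :=
    Nat.Coprime.pow_left _ ((Nat.coprime_primes hp hr).2 (Ne.symm hrp))
  have hxk : x ^ k = (algebraMap F A (c⁻¹ ^ k * (ζ : F) ^ (n * k)) * w ^ k, c⁻¹ ^ k) := by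
    ext
    · simp only [x, y, Prod.fst_mul, Prod.pow_fst, Prod.algebraMap_apply, mul_pow, ← map_pow,
        map_mul, ← pow_mul]
    · simp [x, y, mul_pow]
  rw [hg k, hxk]
  constructor
  · rintro ⟨s, hs⟩
    rw [Prod.ext_iff] at hs
    obtain ⟨hs1, hs2⟩ := hs
    have hs2' : c⁻¹ ^ k = s := by simpa using hs2
    replace hs1 : algebraMap F A (c⁻¹ ^ k * (ζ : F) ^ (n * k)) * w ^ k = algebraMap F A s := hs1
    have he := congrArg ev hs1
    rw [map_mul, map_pow, hev, one_pow, mul_one, AlgHom.commutes, AlgHom.commutes] at he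
    have hz : (ζ : F) ^ (n * k) = 1 := by
      have he' : c⁻¹ ^ k * (ζ : F) ^ (n * k) = c⁻¹ ^ k * 1 :=
        ((by simpa using he : c⁻¹ ^ k * (ζ : F) ^ (n * k) = s)).trans (by rw [mul_one, hs2'])
      exact mul_left_cancel₀ (pow_ne_zero _ (inv_ne_zero hc)) he'
    have hrk : r ∣ k := by
      refine (hr.dvd_mul.1 ?_).resolve_left hrn
      rw [← hζ, orderOf_dvd_iff_pow_eq_one]
      exact Units.ext (by simpa using hz)
    rw [hz, mul_one, ← hs2'] at hs1
    have hw : w ^ k = 1 :=
      ((inv_ne_zero hc |> pow_ne_zero k).isUnit.map (algebraMap F A)).mul_left_cancel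
        (by rw [mul_one]; exact hs1)
    exact hcop.mul_dvd_of_dvd_of_dvd (hord ▸ orderOf_dvd_of_pow_eq_one hw) hrk
  · intro hk
    refine ⟨c⁻¹ ^ k, ?_⟩
    have h1 : w ^ k = 1 := orderOf_dvd_iff_pow_eq_one.1 (hord ▸ (dvd_mul_right _ _).trans hk)
    have h2 : (ζ : F) ^ (n * k) = 1 := by
      have h : ζ ^ (n * k) = 1 :=
        orderOf_dvd_iff_pow_eq_one.1 (hζ ▸ ((dvd_mul_left _ _).trans hk).mul_left n)
      simpa using congrArg Units.val h
    rw [h1, h2, mul_one, mul_one]
    rfl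

end finite

end CfsgLib.Spectrum
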