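/-
PSU_n(q): an element either commutes with an element of order r, or its order divides p^clog times
the Singer exponent.
-/
import Cfsg.Agent.Lib.Spectrum.UnitaryElements

set_option autoImplicit false

open Polynomial Matrix

namespace CfsgLib.Spectrum

variable {F : Type*} [Field F] [Fintype F] (p l : ℕ) [Fact p.Prime] [CharP F p]

theorem pow_eq_scalar_of_charpoly_dvd {n A a : ℕ} [NeZero n] (M : Matrix (Fin n) (Fin n) F) (c : F)
    (h : M.charpoly ∣ (X ^ A - C c) ^ a) (ha : a ≤ n) :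
    M ^ (p ^ Nat.clog p n * A) = Matrix.scalar (Fin n) (c ^ (p ^ Nat.clog p n)) := by
  haveI : CharP (Matrix (Fin n) (Fin n) F) p := charP_of_injective_algebraMap' F p
  have h0 : (M ^ A - algebraMap F _ c) ^ a = 0 := by
    obtain ⟨b, hb⟩ := h
    have := congrArg (aeval M) hb
    simpa [map_mul, Matrix.aeval_self_charpoly] using this
  have h1 : (M ^ A - algebraMap F _ c) ^ (p ^ Nat.clog p n) = 0 :=
    pow_eq_zero_of_le (ha.trans (Nat.le_pow_clog (Fact.out : p.Prime).one_lt n)) h0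
  rw [sub_pow_char_pow_of_commute _ _ (Algebra.commute_algebraMap_right _ _), sub_eq_zero,
    ← pow_mul, ← map_pow, mul_comm] at h1
  exact h1

variable (hF : Fintype.card F = (p ^ l) ^ 2)
include hF

theorem self_conjugate_spec (f : F[X]) [hff : Fact (Irreducible f)] {j : ℕ} (hjd : j < f.natDegree)
    (hα0 : AdjoinRoot.root f ≠ 0)
    (hj : (AdjoinRoot.root f)⁻¹ ^ (p ^ l) = AdjoinRoot.root f ^ (Fintype.card F ^ j)) :
    Odd f.natDegree ∧ AdjoinRoot.root f ^ ((p ^ l) ^ f.natDegree + 1) = 1 := by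
  have hfi : Irreducible f := Fact.out
  haveI : Module.Finite F (AdjoinRoot f) := (AdjoinRoot.powerBasis hfi.ne_zero).finite
  haveI : Finite (AdjoinRoot f) := Module.finite_of_finite F
  haveI : CharP (AdjoinRoot f) p := charP_of_injective_algebraMap (algebraMap F _).injective p
  haveI : ExpChar (AdjoinRoot f) p := ExpChar.prime Fact.out
  have hq2 : 2 ≤ p ^ l := two_le_pow p l hF
  set α := AdjoinRoot.root f with hα
  set d := f.natDegree with hd
  set q := p ^ l with hq
  rw [hF] at hj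
  -- the conjugation `φ z = z ^ (q²)^j` sends `α` to `α⁻¹ ^ q`
  have h2j : α ^ ((q ^ 2) ^ (j + j)) = α ^ (q ^ 2) := by
    rw [pow_add, pow_mul, ← hj, ← pow_mul, mul_comm, pow_mul, inv_pow, ← hj, inv_pow α, inv_inv,
      ← pow_mul, sq]
  rcases Nat.eq_zero_or_pos j with rfl | hj0
  · rw [pow_zero, pow_one] at hj
    have h1 : α ^ (q + 1) = 1 := by
      rw [pow_succ]
      nth_rewrite 2 [← hj]
      rw [← mul_pow, mul_inv_cancel₀ hα0, one_pow]
    have h2 : α ^ ((q ^ 2) ^ 1) = α := by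
      rw [pow_one, sq, pow_mul, eq_inv_of_mul_eq_one_left ((pow_succ α q).symm.trans h1), hj]
    have hd' : d ∣ 1 := dvd_of_root_pow_card_eq (by rw [hF]; exact h2)
    rw [Nat.dvd_one.1 hd', pow_one]
    exact ⟨odd_one, h1⟩
  · have h3 : α ^ ((q ^ 2) ^ (j + j - 1)) = α := by
      apply iterateFrobenius_inj (AdjoinRoot f) p (l * 2)
      simp only [iterateFrobenius_def]
      rw [pow_mul p l 2, ← hq, ← pow_mul, ← pow_succ, show j + j - 1 + 1 = j + j by omega, h2j]
    have hdvd : d ∣ j + j - 1 := dvd_of_root_pow_card_eq (by rw [hF]; exact h3)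
    have hdj : d = j + j - 1 := by
      obtain ⟨c, hc⟩ := hdvd
      rcases c with _ | _ | c
      · omega
      · omega
      · exfalso
        have : d * 2 ≤ d * (c + 1 + 1) := Nat.mul_le_mul_left _ (by omega)
        omega
    refine ⟨⟨j - 1, by omega⟩, ?_⟩
    apply iterateFrobenius_inj (AdjoinRoot f) p l
    simp only [iterateFrobenius_def, one_pow]
    rw [← hq, ← pow_mul, add_mul, one_mul, ← pow_succ, pow_add, show q ^ (d + 1) = (q ^ 2) ^ j by
      rw [← pow_mul q 2 j]; congr 1; omega, ← hj, inv_pow, inv_mul_cancel₀ (pow_ne_zero _ hα0)]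

theorem exists_commute_orderOf_or_pow_eq_oneU {n r : ℕ} (hn : 3 ≤ n) (hr : r.Prime)
    (hrq : r ∣ p ^ l + 1) (hrn : ¬ r ∣ n) : ∀ g : Cfsg.SU n F (p ^ l),
    (∃ y : Cfsg.PSU n F (p ^ l), Commute (QuotientGroup.mk g) y ∧ orderOf y = r) ∨
      (QuotientGroup.mk g : Cfsg.PSU n F (p ^ l)) ^
        (p ^ Nat.clog p n * singerExpU (p ^ l) n) = 1 := by
  classical
  haveI : NeZero n := ⟨by omega⟩
  haveI : Nontrivial (Matrix (Fin n) (Fin n) F) := inferInstance
  set q := p ^ l with hq
  intro g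
  have hq2 : 2 ≤ q := two_le_pow p l hF
  have he := pow_sq_card p l hF
  set M := (g.1 : Matrix (Fin n) (Fin n) F) with hM
  have hτM : hermAdj q M * M = 1 := (mem_SU_iff g.1).1 g.2
  haveI : Finite (Matrix.SpecialLinearGroup (Fin n) F) := inferInstance
  set w := orderOf g.1 with hwdef
  have hw : 1 ≤ w := orderOf_pos g.1
  have hMw : M ^ w = 1 := by
    rw [hM, ← Matrix.SpecialLinearGroup.coe_pow, hwdef, pow_orderOf_eq_one,
      Matrix.SpecialLinearGroup.coe_one]
  have hdetM : M.det = 1 := g.1.2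
  rcases (isTwist_hermAdj (F := F) (n := n) p l he).dichotomy he hw hMw hτM with
    ⟨E, hcE, hEE, hE0, hE1, hτE⟩ | ⟨f, hff, a, hfm, ha1, hαw, hcase⟩
  · left
    have hrF : r ∣ Fintype.card F - 1 := by
      rw [hF, sub_one_mul_add_one (Nat.one_le_pow _ _ (Fact.out : p.Prime).pos)]
      exact hrq.mul_left _
    obtain ⟨ζ, hζ⟩ := exists_orderOf_eq_of_prime_dvd_card_sub_one hr hrF
    have hζr : (ζ : F) ^ r = 1 := by
      rw [← Units.val_pow_eq_pow_val, orderOf_dvd_iff_pow_eq_one.1 hζ.dvd, Units.val_one]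
    have hζq : (ζ : F) * (ζ : F) ^ q = 1 := by
      obtain ⟨j, hj⟩ := hrq
      rw [← pow_succ', hj, pow_mul, hζr, one_pow]
    have hT := isTwist_hermAdj (F := F) (n := n) p l he
    have hE10 : E * (1 - E) = 0 := by rw [mul_sub, mul_one, hEE, sub_self]
    have hE01 : (1 - E) * E = 0 := by rw [sub_mul, one_mul, hEE, sub_self]
    have hE11 : (1 - E) * (1 - E) = 1 - E := by rw [sub_mul, one_mul, hE10, sub_zero]
    have hmulY : ∀ s t : F, (s • E + (1 - E)) * (t • E + (1 - E)) = (s * t) • E + (1 - E) := by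
      intro s t
      rw [add_mul, mul_add, mul_add, smul_mul_smul_comm, hEE, smul_mul_assoc, hE10, smul_zero,
        mul_smul_comm, hE01, smul_zero, hE11, add_zero, zero_add]
    have hpowY : ∀ (s : F) (k : ℕ), (s • E + (1 - E)) ^ k = (s ^ k) • E + (1 - E) := by
      intro s k
      induction k with
      | zero => rw [pow_zero, pow_zero, one_smul, add_sub_cancel]
      | succ k ih => rw [pow_succ, ih, hmulY, pow_succ]
    have hτY : ∀ s : F, hermAdj q (s • E + (1 - E)) = (s ^ q) • E + (1 - E) := by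
      intro s
      have h1 : hermAdj q (1 - E) = 1 - E := by
        rw [eq_sub_iff_add_eq]
        conv_lhs => arg 2; rw [← hτE]
        rw [← hT.τ_add, sub_add_cancel, hT.τ_one]
      rw [hT.τ_add, hT.τ_smul, hτE, h1]
    set Y₀ := (ζ : F) • E + (1 - E) with hY₀
    set δ := Y₀.det with hδ
    have hδr : δ ^ r = 1 := by
      rw [hδ, ← Matrix.det_pow, hY₀, hpowY, hζr, one_smul, add_sub_cancel, Matrix.det_one]
    have hδ0 : δ ≠ 0 := fun h => by
      rw [h, zero_pow hr.ne_zero] at hδr; exact zero_ne_one hδr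
    have hδq : δ⁻¹ * δ⁻¹ ^ q = 1 := by
      obtain ⟨j, hj⟩ := hrq
      rw [← pow_succ', hj, pow_mul, inv_pow, hδr, inv_one, one_pow]
    set Y := δ⁻¹ • ((ζ : F) ^ n • E + (1 - E)) with hY
    have hYdet : Y.det = 1 := by
      rw [hY, Matrix.det_smul, Fintype.card_fin, ← hpowY, Matrix.det_pow, ← hδ, ← mul_pow,
        inv_mul_cancel₀ hδ0, one_pow]
    have hYmem : (⟨Y, hYdet⟩ : Matrix.SpecialLinearGroup (Fin n) F) ∈ Cfsg.SU n F q := by
      refine (mem_SU_iff (p := p) (l := l) (⟨Y, hYdet⟩ : Matrix.SpecialLinearGroup (Fin n) F)).2 ?_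
      show hermAdj q Y * Y = 1
      rw [hY, hermAdj_smul, hτY, smul_mul_smul_comm, hmulY, mul_comm (_ ^ q) δ⁻¹, hδq, one_smul,
        ← pow_mul, mul_comm n q, pow_mul, ← mul_pow, mul_comm, hζq, one_pow, one_smul, add_sub_cancel]
    have hY1 : (QuotientGroup.mk (⟨⟨Y, hYdet⟩, hYmem⟩ : Cfsg.SU n F q) : Cfsg.PSU n F q) ≠ 1 := by
      rw [Ne, psuMk_eq_one_iff hF hn]
      rintro ⟨c, hc⟩
      change Y = Matrix.scalar (Fin n) c at hc
      rw [← Matrix.smul_one_eq_diagonal c |>.trans (Matrix.scalar_apply c).symm] at hc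
      have h1 := congrArg (E * ·) hc
      have h2 := congrArg ((1 - E) * ·) hc
      simp only [hY, mul_smul_comm, mul_add, hEE, hE10, hE01, hE11, smul_zero, add_zero, zero_add,
        mul_one, smul_smul] at h1 h2
      have h1' := smul_left_injective F hE0 h1
      have h2' := smul_left_injective F hE1 h2
      rw [← h2', mul_eq_left₀ (inv_ne_zero hδ0)] at h1'
      refine hrn ?_
      rw [← hζ, orderOf_dvd_iff_pow_eq_one]
      exact Units.ext (by simpa using h1')
    refine ⟨QuotientGroup.mk ⟨⟨Y, hYdet⟩, hYmem⟩, ?_, ?_⟩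
    · have hc : Commute g (⟨⟨Y, hYdet⟩, hYmem⟩ : Cfsg.SU n F q) := by
        apply Subtype.ext
        apply Subtype.ext
        show M * Y = Y * M
        exact (((hcE.smul_right _).add_right ((Commute.one_right M).sub_right hcE)).smul_right _).eq
      exact hc.map (QuotientGroup.mk' (Subgroup.center (Cfsg.SU n F q)))
    · haveI := Fact.mk hr
      refine orderOf_eq_prime ?_ hY1
      rw [psuMk_pow_eq_one_iff hF hn]
      refine ⟨δ⁻¹ ^ r, ?_⟩
      show Y ^ r = _
      rw [hY, _root_.smul_pow, hpowY, ← pow_mul, mul_comm, pow_mul, hζr, one_pow, one_smul, add_sub_cancel,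
        Matrix.scalar_apply, Matrix.smul_one_eq_diagonal]
  right
  haveI := hff
  have hfi : Irreducible f := Fact.out
  haveI : Module.Finite F (AdjoinRoot f) := (AdjoinRoot.powerBasis hfi.ne_zero).finite
  haveI : Finite (AdjoinRoot f) := Module.finite_of_finite F
  haveI : CharP (AdjoinRoot f) p := charP_of_injective_algebraMap (algebraMap F _).injective p
  haveI : ExpChar (AdjoinRoot f) p := ExpChar.prime Fact.out
  set α := AdjoinRoot.root f with hα
  set d := f.natDegree with hd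
  have hd1 : 1 ≤ d := hfi.natDegree_pos
  have hfinK : Module.finrank F (AdjoinRoot f) = d := by
    rw [(AdjoinRoot.powerBasis hfi.ne_zero).finrank, AdjoinRoot.powerBasis_dim]
  have hα0 : α ≠ 0 := by
    intro h0; rw [h0, zero_pow (by omega)] at hαw; exact zero_ne_one hαw
  have hN : Algebra.norm F α = (-1) ^ d * f.coeff 0 := by
    have := Algebra.PowerBasis.norm_gen_eq_coeff_zero_minpoly (AdjoinRoot.powerBasis hfi.ne_zero)
    rwa [AdjoinRoot.powerBasis_gen, AdjoinRoot.powerBasis_dim, AdjoinRoot.minpoly_root hfi.ne_zero,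
      hfm.leadingCoeff, inv_one, C_1, mul_one] at this
  have hNpow : algebraMap F (AdjoinRoot f) (Algebra.norm F α) = α ^ geomExp (q ^ 2) d := by
    rw [FiniteField.algebraMap_norm_eq_pow_sum, hfinK, Nat.card_eq_fintype_card, hF]; rfl
  have hdetcp : (-1 : F) ^ n * M.charpoly.coeff 0 = 1 := by
    have h := Matrix.det_eq_sign_charpoly_coeff M
    rw [hdetM, Fintype.card_fin] at h
    exact h.symm
  have finish : ∀ D : ℕ, orderOf α ∣ D → D ∣ singerExpU q n * (q + 1) →
      ∃ c : F, c ^ (q + 1) = 1 ∧ α ^ singerExpU q n = algebraMap F (AdjoinRoot f) c := by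
    intro D h1 h2
    have h3 : α ^ (singerExpU q n * (q + 1)) = 1 :=
      orderOf_dvd_iff_pow_eq_one.1 (h1.trans h2)
    obtain ⟨c, hc⟩ := (exists_algebraMap_iff p l hF (pow_ne_zero (singerExpU q n) hα0)).2 (by
      rw [← pow_mul, ← hq, mul_comm (q - 1), ← mul_assoc, pow_mul, h3, one_pow])
    refine ⟨c, ?_, hc⟩
    apply (algebraMap F (AdjoinRoot f)).injective
    rw [map_pow, map_one, ← hc, ← pow_mul, h3]
  have hroot : ∀ (c : F), α ^ singerExpU q n = algebraMap F (AdjoinRoot f) c →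
      f ∣ X ^ singerExpU q n - C c := by
    intro c hc
    rw [← AdjoinRoot.mk_eq_zero, map_sub, map_pow, AdjoinRoot.mk_X, AdjoinRoot.mk_C,
      ← AdjoinRoot.algebraMap_eq, ← hα, hc, sub_self]
  rw [psuMk_pow_eq_one_iff hF hn]
  rcases hcase with ⟨hcp, j, hjd, hj⟩ | ⟨hcp, hco⟩
  · have hnd : n = d * a := by
      have := congrArg natDegree hcp
      rwa [Matrix.charpoly_natDegree_eq_dim, natDegree_pow, Fintype.card_fin, mul_comm a] at this
    obtain ⟨hdo, hαd⟩ := self_conjugate_spec p l hF f hjd hα0 hj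
    have h1 : Algebra.norm F α ^ a = 1 := by
      rw [hN, mul_pow, ← pow_mul, ← hnd]
      rw [hcp, coeff_zero_eq_eval_zero, eval_pow, ← coeff_zero_eq_eval_zero] at hdetcp
      exact hdetcp
    have h2 : α ^ (altExp q d * (geomExp q d * a)) = 1 := by
      have h := congrArg (algebraMap F (AdjoinRoot f)) h1
      rw [map_pow, hNpow, ← pow_mul, map_one, geomExp_sq_odd hq2 hdo] at h
      rw [← h]; congr 1; ring
    have hord : orderOf α ∣ altExp q d * Nat.gcd a (q + 1) := by
      rw [← Nat.Coprime.gcd_mul_left_cancel a (coprime_geomExp_add_one hdo), ← Nat.gcd_mul_left]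
      refine Nat.dvd_gcd (orderOf_dvd_of_pow_eq_one h2) ?_
      rw [mul_comm, add_one_mul_altExp_odd (by omega) hdo]
      exact orderOf_dvd_of_pow_eq_one hαd
    obtain ⟨c, -, hc⟩ := finish _ hord (hnd ▸ dvd_singerExpU_self (by omega) hdo)
    exact ⟨_, pow_eq_scalar_of_charpoly_dvd p M c
      (hcp ▸ pow_dvd_pow_of_dvd (hroot c hc) a) (by rw [hnd]; exact Nat.le_mul_of_pos_left a hd1)⟩
  · obtain ⟨hm', hi', hd', hroot', -, -, -, -, hnorm'⟩ := conjFactor_spec p l he f hfm hw hαw
    have hnd : n = 2 * d * a := by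
      have := congrArg natDegree hcp
      rw [Matrix.charpoly_natDegree_eq_dim, natDegree_pow, natDegree_mul hfm.ne_zero hm'.ne_zero, hd',
        Fintype.card_fin, ← hd] at this
      rw [this]; ring
    rw [← hd, ← hq, ← hα] at hnorm'
    have hN0 : Algebra.norm F α ≠ 0 := Algebra.norm_ne_zero_iff.2 hα0
    have h1 : (Algebra.norm F α ^ (q - 1)) ^ a = 1 := by
      rw [hcp, coeff_zero_eq_eval_zero, eval_pow, eval_mul, ← coeff_zero_eq_eval_zero,
        ← coeff_zero_eq_eval_zero] at hdetcp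
      have h : (Algebra.norm F α * Algebra.norm F (α⁻¹ ^ q)) ^ a = 1 := by
        refine Eq.trans ?_ hdetcp
        rw [hN, hnorm', hnd]
        ring
      rw [map_pow, Algebra.norm_inv, inv_pow] at h
      have h' : Algebra.norm F α * (Algebra.norm F α ^ q)⁻¹ = (Algebra.norm F α ^ (q - 1))⁻¹ := by
        obtain ⟨Q, hQ⟩ : ∃ Q, q = Q + 1 := ⟨q - 1, by omega⟩
        rw [hQ, pow_succ, mul_inv, Nat.add_sub_cancel, mul_comm, mul_assoc, inv_mul_cancel₀ hN0, mul_one]
      rw [h', inv_pow, inv_eq_one] at h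
      exact h
    have h2 : α ^ (altExp q (2 * d) * a) = 1 := by
      have h := congrArg (algebraMap F (AdjoinRoot f)) h1
      rw [map_pow, map_pow, hNpow, ← pow_mul, ← pow_mul, map_one] at h
      rw [← h, ← sub_one_mul_geomExp_sq (show 1 ≤ q by omega) d]
      congr 1
      ring
    have hord : orderOf α ∣ altExp q (2 * d) * Nat.gcd a (q + 1) := by
      rw [← Nat.gcd_mul_left]
      refine Nat.dvd_gcd (orderOf_dvd_of_pow_eq_one h2) ?_
      rw [mul_comm, add_one_mul_altExp_even (by omega) (even_two_mul d)]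
      apply orderOf_dvd_of_pow_eq_one
      haveI : Fintype (AdjoinRoot f) := Fintype.ofFinite _
      have hcard : Fintype.card (AdjoinRoot f) = q ^ (2 * d) := by
        rw [Module.card_eq_pow_finrank (K := F), hfinK, hF, ← pow_mul]
      rw [← hcard]
      exact FiniteField.pow_card_sub_one_eq_one _ hα0
    obtain ⟨c, hcq, hc⟩ := finish _ hord (hnd ▸ dvd_singerExpU_pair (by omega))
    refine ⟨_, pow_eq_scalar_of_charpoly_dvd p M c (hcp ▸ pow_dvd_pow_of_dvd
      (hco.mul_dvd (hroot c hc) ?_) a) (by rw [hnd]; exact Nat.le_mul_of_pos_left a (by omega))⟩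
    refine minpoly.dvd F _ ?_
    rw [map_sub, map_pow, aeval_X, aeval_C, ← hq, ← hα, ← pow_mul, mul_comm, pow_mul, inv_pow, hc,
      ← map_inv₀, ← map_pow, ← map_sub]
    have : c⁻¹ ^ q = c := by
      rw [inv_pow]
      exact (eq_inv_of_mul_eq_one_left (by rw [← pow_succ', hcq])).symm
    rw [this, sub_self, map_zero]

end CfsgLib.Spectrum
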