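/-
Matrices whose order has a primitive prime divisor.
-/
import Cfsg.Agent.Lib.Spectrum.UnitaryBound

set_option autoImplicit false

open Polynomial Matrix

namespace CfsgLib.Spectrum

variable {F : Type*} [Field F] (p : ℕ) [Fact p.Prime] [CharP F p]

theorem exists_factor_of_prime_dvd {n : ℕ} [NeZero n] (M : Matrix (Fin n) (Fin n) F) {w ℓ : ℕ}
    (hw : 1 ≤ w) (hMw : M ^ w = 1) (hℓ : ℓ.Prime) (hℓp : ℓ ≠ p)
    (hdvd : ∀ L, M ^ L = 1 → ℓ ∣ L) :
    ∃ (f : F[X]) (_ : Fact (Irreducible f)), f.Monic ∧ f ∣ minpoly F M ∧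
      AdjoinRoot.root f ^ w = 1 ∧ ℓ ∣ orderOf (AdjoinRoot.root f) := by
  classical
  haveI : CharP (Matrix (Fin n) (Fin n) F) p := charP_of_injective_algebraMap' F p
  have hint : IsIntegral F M := Matrix.isIntegral M
  have hm : minpoly F M ∣ X ^ w - 1 := minpoly.dvd F M (by simp [hMw])
  by_contra hcon
  push Not at hcon
  obtain ⟨k, L, hL, hwL⟩ := Nat.exists_eq_pow_mul_and_not_dvd (show w ≠ 0 by omega) ℓ hℓ.ne_one
  obtain ⟨j, hj⟩ := exists_dvd_pow_of_forall_irreducible (P := X ^ L - 1) (minpoly.ne_zero hint)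
    (fun h hh hd => by
      have hass : Associated (normalize h) h := normalize_associated h
      haveI := Fact.mk (hass.symm.irreducible hh)
      have hmn : (normalize h).Monic := monic_normalize hh.ne_zero
      have hdn : normalize h ∣ minpoly F M := hass.dvd.trans hd
      have hαw : AdjoinRoot.root (normalize h) ^ w = 1 := by
        rw [← sub_eq_zero, ← AdjoinRoot.mk_X, ← map_pow, ← map_one (AdjoinRoot.mk (normalize h)),
          ← map_sub, AdjoinRoot.mk_eq_zero]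
        exact hdn.trans hm
      have hnd := hcon (normalize h) inferInstance hmn hdn hαw
      refine hass.symm.dvd.trans ?_
      rw [← AdjoinRoot.mk_eq_zero, map_sub, map_pow, map_one, AdjoinRoot.mk_X, sub_eq_zero,
        ← orderOf_dvd_iff_pow_eq_one]
      have h1 := orderOf_dvd_of_pow_eq_one hαw
      rw [hwL] at h1
      exact (Nat.Coprime.pow_right k ((hℓ.coprime_iff_not_dvd.2 hnd).symm)).dvd_of_dvd_mul_left h1)
  have h0 : (M ^ L - 1) ^ j = 0 := by
    obtain ⟨s, hs⟩ := hj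
    have := congrArg (aeval M) hs
    simpa using this
  have h1 := pow_eq_zero_of_isNilpotent_matrix (M ^ L - 1) ⟨j, h0⟩
    (Nat.le_pow_clog (Fact.out : p.Prime).one_lt n)
  rw [sub_pow_char_pow_of_commute _ _ (Commute.one_right _), one_pow, sub_eq_zero, ← pow_mul] at h1
  rcases hℓ.dvd_mul.1 (hdvd _ h1) with h | h
  · exact hL h
  · exact hℓp ((Nat.prime_dvd_prime_iff_eq hℓ Fact.out).1 (hℓ.dvd_of_dvd_pow h))

theorem aeval_charpoly_conj {n : ℕ} [NeZero n] (l : ℕ) (he : ∀ x : F, x ^ (p ^ l * p ^ l) = x)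
    (M : Matrix (Fin n) (Fin n) F) (hM : hermAdj (p ^ l) M * M = 1) {K : Type*} [Field K]
    [Algebra F K] (α : K) (hα0 : α ≠ 0) (hα : aeval α M.charpoly = 0) :
    aeval (α⁻¹ ^ (p ^ l)) M.charpoly = 0 := by
  have hT := isTwist_hermAdj (F := F) (n := n) p l he
  set N := hermAdj (p ^ l) M
  have hdet : ∀ (A : Matrix (Fin n) (Fin n) F) (t : K),
      aeval t A.charpoly = (Matrix.scalar (Fin n) t - A.map (algebraMap F K)).det := by
    intro A t
    rw [← Matrix.eval_charpoly, Matrix.charpoly_map, eval_map, aeval_def]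
  rw [hdet, ← Matrix.exists_mulVec_eq_zero_iff] at hα
  obtain ⟨v, hv0, hv⟩ := hα
  rw [Matrix.sub_mulVec, sub_eq_zero, Matrix.scalar_apply, ← Matrix.smul_one_eq_diagonal,
    Matrix.smul_mulVec, Matrix.one_mulVec] at hv
  have hNM : N.map (algebraMap F K) * M.map (algebraMap F K) = 1 := by
    rw [← Matrix.map_mul, hM, Matrix.map_one _ (map_zero _) (map_one _)]
  have hNv : N.map (algebraMap F K) *ᵥ v = α⁻¹ • v := by
    have h1 := congrArg (N.map (algebraMap F K) *ᵥ ·) hv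
    simp only [Matrix.mulVec_mulVec, hNM, Matrix.one_mulVec, Matrix.mulVec_smul] at h1
    rw [eq_inv_smul_iff₀ hα0, h1]
  have h2 : aeval α⁻¹ N.charpoly = 0 := by
    rw [hdet, ← Matrix.exists_mulVec_eq_zero_iff]
    refine ⟨v, hv0, ?_⟩
    rw [Matrix.sub_mulVec, sub_eq_zero, Matrix.scalar_apply, ← Matrix.smul_one_eq_diagonal,
      Matrix.smul_mulVec, Matrix.one_mulVec, hNv]
  rw [hT.τ_charpoly] at h2
  have h3 := aeval_pow_map_frobenius p l α⁻¹ (M.charpoly.map (iterateFrobenius F p l))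
  rwa [map_map_frobenius p l he, h2, zero_pow (pow_ne_zero _ (Fact.out : p.Prime).ne_zero)] at h3

theorem gcd_two_mul_dvd_iff {m x : ℕ} (hm : m ≠ 0) (hx : x ≠ 0) :
    Nat.gcd (2 * m) x ∣ m ↔ padicValNat 2 x < padicValNat 2 (2 * m) := by
  haveI : Fact (Nat.Prime 2) := ⟨Nat.prime_two⟩
  obtain ⟨e, o, ho, rfl⟩ := Nat.exists_eq_pow_mul_and_not_dvd hm 2 (by norm_num)
  have ho0 : o ≠ 0 := by rintro rfl; simp at ho
  have hv : padicValNat 2 (2 * (2 ^ e * o)) = e + 1 := by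
    rw [← mul_assoc, ← pow_succ', padicValNat.mul (by positivity) ho0, padicValNat.prime_pow,
      padicValNat.eq_zero_of_not_dvd ho, add_zero]
  rw [hv, Nat.lt_succ_iff, ← not_lt, ← Nat.succ_le_iff, ← padicValNat_dvd_iff_le hx]
  constructor
  · intro h h2
    have h3 : 2 ^ (e + 1) ∣ 2 ^ e * o :=
      (Nat.dvd_gcd ⟨o, by rw [← mul_assoc, ← pow_succ']⟩ h2).trans h
    rw [pow_succ] at h3
    exact ho (Nat.dvd_of_mul_dvd_mul_left (by positivity) h3)
  · intro h
    have hco : Nat.Coprime (2 ^ (e + 1)) o :=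
      Nat.Coprime.pow_left _ ((Nat.prime_two.coprime_iff_not_dvd).2 ho)
    rw [← mul_assoc, ← pow_succ', Nat.gcd_comm, hco.gcd_mul x]
    refine mul_dvd_mul ?_ (Nat.gcd_dvd_right _ _)
    obtain ⟨i, hi, hg⟩ := (Nat.dvd_prime_pow Nat.prime_two).1 (Nat.gcd_dvd_right x (2 ^ (e + 1)))
    rw [hg]
    refine pow_dvd_pow 2 ?_
    by_contra hie
    exact h ((pow_dvd_pow 2 (by omega : e + 1 ≤ i)).trans (hg ▸ Nat.gcd_dvd_left _ _))

end CfsgLib.Spectrum
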