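/-
Odd element orders in PSp_{2n}(q), q odd: either the element commutes with an involution's worth of
extra order, or its order divides one of three explicit numbers.
-/
import Cfsg.Agent.Lib.Spectrum.SympElements

set_option autoImplicit false

open Polynomial Matrix

namespace CfsgLib.Spectrum

variable {F : Type*} [Field F]

theorem dvd_X_pow_sub_one_of_root {f : F[X]} [Fact (Irreducible f)] {T : ℕ}
    (h : AdjoinRoot.root f ^ T = 1) : f ∣ X ^ T - 1 := by
  rw [← AdjoinRoot.mk_eq_zero, map_sub, map_pow, map_one, AdjoinRoot.mk_X, h, sub_self]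

theorem pow_eq_one_of_charpoly_dvd (p : ℕ) [Fact p.Prime] [CharP F p] {ι : Type*} [Fintype ι]
    [DecidableEq ι] [Nonempty ι] (M : Matrix ι ι F) {T a : ℕ}
    (h : M.charpoly ∣ (X ^ T - 1) ^ a) : M ^ (T * p ^ Nat.clog p a) = 1 := by
  haveI : CharP (Matrix ι ι F) p := charP_of_injective_algebraMap' F p
  have h0 : (M ^ T - 1) ^ a = 0 := by
    obtain ⟨c, hc⟩ := h
    have := congrArg (aeval M) hc
    simpa [map_mul, Matrix.aeval_self_charpoly] using this
  have ha : a ≤ p ^ Nat.clog p a := Nat.le_pow_clog (Fact.out : p.Prime).one_lt a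
  have h1 : (M ^ T - 1) ^ (p ^ Nat.clog p a) = 0 := pow_eq_zero_of_le ha h0
  rw [sub_pow_char_pow_of_commute _ _ (Commute.one_right _), one_pow, sub_eq_zero, ← pow_mul] at h1
  exact h1

theorem exists_orderOf_two_mul_or_dvd [Fintype F] (p : ℕ) [Fact p.Prime] [CharP F p]
    (h2 : (2 : F) ≠ 0) {n : ℕ} (hn : 1 ≤ n) (g : Cfsg.PSp n F) (hodd : Odd (orderOf g)) :
    (∃ y : Cfsg.PSp n F, 2 * orderOf g ∣ orderOf y) ∨ orderOf g ∣ p ^ Nat.clog p (n + n) ∨
      orderOf g ∣ (Fintype.card F ^ n + 1) / 2 ∨ orderOf g ∣ (Fintype.card F ^ n - 1) / 2 := by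
  classical
  haveI : Nonempty (Fin n ⊕ Fin n) := ⟨.inl ⟨0, hn⟩⟩
  set o := orderOf g with ho
  have ho1 : 1 ≤ o := hodd.pos
  obtain ⟨M, rfl, hMo⟩ : ∃ M : symplecticGroup (Fin n) F,
      (QuotientGroup.mk M : Cfsg.PSp n F) = g ∧ (M : Matrix (Fin n ⊕ Fin n) (Fin n ⊕ Fin n) F) ^ o = 1 := by
    obtain ⟨M₀, hM₀⟩ := QuotientGroup.mk_surjective g
    have h1 : g ^ o = 1 := pow_orderOf_eq_one g
    rw [← hM₀, pspMk_pow_eq_one_iff hn] at h1
    rcases h1 with h1 | h1
    · exact ⟨M₀, hM₀, h1⟩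
    · let M₁ : symplecticGroup (Fin n) F := ⟨-1, mem_symplecticGroup_of_adj (by
        simp [sympAdj, Matrix.transpose_neg, J_squared])⟩
      refine ⟨M₀ * M₁, ?_, ?_⟩
      · rw [QuotientGroup.mk_mul, hM₀, (pspMk_eq_one_iff hn M₁).2 (Or.inr rfl), mul_one]
      · show ((M₀ : Matrix (Fin n ⊕ Fin n) (Fin n ⊕ Fin n) F) * -1) ^ o = 1
        rw [mul_neg, mul_one, hodd.neg_pow, h1, neg_neg]
  set N := (M : Matrix (Fin n ⊕ Fin n) (Fin n ⊕ Fin n) F) with hN
  have hord : ∀ k, N ^ k = 1 → o ∣ k := fun k hk => by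
    rw [ho, orderOf_dvd_iff_pow_eq_one, pspMk_pow_eq_one_iff hn]
    exact Or.inl hk
  have hdeg : N.charpoly.natDegree = n + n := by
    rw [Matrix.charpoly_natDegree_eq_dim, Fintype.card_sum, Fintype.card_fin]
  rcases (isTwist_sympAdj (F := F) (n := n) p).dichotomy (fun x => by simp) ho1 hMo
      (sympAdj_mul_self M) with ⟨E, hcE, hEE, hE0, hE1, hτE⟩ | ⟨f, hff, a, hfm, ha1, hαw, hcase⟩
  · left
    set Y := (2 : F) • E - 1 with hY
    have hYY : Y * Y = 1 := by
      rw [hY, sub_mul, mul_sub, mul_sub, smul_mul_smul_comm, hEE, one_mul, mul_one, one_mul]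
      rw [show (2 : F) * 2 = 2 + 2 by ring, add_smul]
      abel
    have hYτ : sympAdj Y = Y := by
      have h := isTwist_sympAdj (F := F) (n := n) p
      have hneg : sympAdj (-1 : Matrix (Fin n ⊕ Fin n) (Fin n ⊕ Fin n) F) = -1 := by
        rw [← neg_one_smul F (1 : Matrix (Fin n ⊕ Fin n) (Fin n ⊕ Fin n) F), h.τ_smul, h.τ_one]
        simp
      rw [hY, sub_eq_add_neg, h.τ_add, h.τ_smul, hτE, hneg, pow_zero, pow_one]
    have hYmem : Y ∈ symplecticGroup (Fin n) F := mem_symplecticGroup_of_adj (by rw [hYτ, hYY])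
    have hy1 : (QuotientGroup.mk (⟨Y, hYmem⟩ : symplecticGroup (Fin n) F) : Cfsg.PSp n F) ≠ 1 := by
      rw [Ne, pspMk_eq_one_iff hn]
      rintro (h | h)
      · refine hE1 (sub_eq_zero.2 ?_)
        have h' : (2 : F) • E = (2 : F) • (1 : Matrix (Fin n ⊕ Fin n) (Fin n ⊕ Fin n) F) := by
          rw [two_smul F (1 : Matrix (Fin n ⊕ Fin n) (Fin n ⊕ Fin n) F)]
          exact sub_eq_iff_eq_add.1 h
        exact (smul_right_injective _ h2 h').symm
      · refine hE0 ?_
        have h' : (2 : F) • E = (2 : F) • (0 : Matrix (Fin n ⊕ Fin n) (Fin n ⊕ Fin n) F) := by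
          rw [smul_zero]
          exact (sub_eq_iff_eq_add.1 h).trans (neg_add_cancel 1)
        exact smul_right_injective _ h2 h'
    have hy2 : orderOf (QuotientGroup.mk (⟨Y, hYmem⟩ : symplecticGroup (Fin n) F) : Cfsg.PSp n F) = 2 := by
      refine orderOf_eq_prime ?_ hy1
      rw [pspMk_pow_eq_one_iff hn, pow_two]
      exact Or.inl hYY
    have hc : Commute (M : symplecticGroup (Fin n) F) ⟨Y, hYmem⟩ := by
      apply Subtype.ext
      show N * Y = Y * N
      exact ((hcE.smul_right (2 : F)).sub_right (Commute.one_right N)).eq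
    refine ⟨QuotientGroup.mk (⟨Y, hYmem⟩ * M), dvd_of_eq ?_⟩
    have hc' : Commute (QuotientGroup.mk (⟨Y, hYmem⟩ : symplecticGroup (Fin n) F) : Cfsg.PSp n F)
        (QuotientGroup.mk M) :=
      hc.symm.map (QuotientGroup.mk' (Subgroup.center (symplecticGroup (Fin n) F)))
    rw [QuotientGroup.mk_mul, Commute.orderOf_mul_eq_mul_orderOf_of_coprime hc', hy2]
    rw [hy2]
    exact Nat.coprime_two_left.2 hodd
  haveI := hff
  have hfi : Irreducible f := Fact.out
  have hq1 : 1 < Fintype.card F := Fintype.one_lt_card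
  set q := Fintype.card F
  have main : ∀ T d : ℕ, 1 ≤ d → T ∣ o → (T ∣ q ^ d + 1 ∨ T ∣ q ^ d - 1) → a * d = n →
      o ∣ T * p ^ Nat.clog p a →
      (∃ y : Cfsg.PSp n F, 2 * o ∣ orderOf y) ∨ o ∣ (q ^ n + 1) / 2 ∨ o ∣ (q ^ n - 1) / 2 := by
    intro T d hd hTo hT had hoT
    have hTodd : Odd T := hodd.of_dvd_nat hTo
    rcases eq_or_ne a 1 with rfl | ha
    · right
      rw [Nat.clog_one_right, pow_zero, mul_one] at hoT
      rw [one_mul] at had
      subst had
      have hqodd : Odd (q ^ d) := by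
        obtain ⟨c, hc, hq⟩ := card_eq_pow (F := F) p
        rw [show q = p ^ c from hq]
        exact (((Fact.out : p.Prime).odd_of_ne_two (odd_char p h2)).pow).pow
      obtain ⟨r, hr⟩ := hqodd
      refine hT.imp (fun hT => ?_) (fun hT => ?_)
      · refine Nat.Coprime.dvd_of_dvd_mul_left (m := 2) (Nat.coprime_two_right.2 hodd) ?_
        rw [show 2 * ((q ^ d + 1) / 2) = q ^ d + 1 by omega]
        exact hoT.trans hT
      · refine Nat.Coprime.dvd_of_dvd_mul_left (m := 2) (Nat.coprime_two_right.2 hodd) ?_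
        rw [show 2 * ((q ^ d - 1) / 2) = q ^ d - 1 by omega]
        exact hoT.trans hT
    · left
      have ha2 : 2 ≤ a := by omega
      have hdn : d < n := by
        rw [← had]
        exact lt_mul_of_one_lt_left (by omega) (by omega)
      obtain ⟨y, hy⟩ := exists_orderOf_mixed p h2 hd hdn hT hTodd
      refine ⟨y, Dvd.dvd.trans ?_ hy⟩
      rw [mul_assoc]
      refine Nat.mul_dvd_mul_left 2 (hoT.trans (Nat.mul_dvd_mul_left T (pow_dvd_pow p ?_)))
      refine Nat.clog_mono_right p ?_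
      obtain ⟨b, rfl⟩ : ∃ b, a = b + 2 := ⟨a - 2, by omega⟩
      have h3 : n - d = (b + 1) * d := by rw [← had]; ring_nf; omega
      rw [h3]
      nlinarith
  rcases hcase with ⟨hcp, j, hjd, hj⟩ | ⟨hcp, hco⟩
  · rw [pow_zero, pow_one] at hj
    have hα0 : AdjoinRoot.root f ≠ 0 := by
      intro h0; rw [h0, zero_pow (by omega)] at hαw; exact zero_ne_one hαw
    have hα1 : AdjoinRoot.root f ^ (q ^ j + 1) = 1 := by
      rw [pow_succ, ← hj, inv_mul_cancel₀ hα0]
    have hfa : a * f.natDegree = n + n := by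
      rw [← hdeg, hcp, natDegree_pow]
    rcases Nat.eq_zero_or_pos j with rfl | hj0
    · right; left
      rw [pow_zero] at hα1
      have hα : AdjoinRoot.root f = 1 := by
        obtain ⟨r, hr⟩ := hodd
        rw [hr, pow_succ, pow_mul, show AdjoinRoot.root f ^ 2 = 1 from hα1, one_pow, one_mul] at hαw
        exact hαw
      have hfX : f = X - 1 := by
        have h1 : f ∣ X - 1 := by
          rw [← AdjoinRoot.mk_eq_zero, map_sub, map_one, AdjoinRoot.mk_X, hα, sub_self]
        have h2' : Irreducible (X - 1 : F[X]) := by rw [← C_1]; exact irreducible_X_sub_C 1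
        exact eq_of_monic_of_associated hfm (by rw [← C_1]; exact monic_X_sub_C 1)
          (hfi.associated_of_dvd h2' h1)
      have ha : a = n + n := by
        rw [← hfa, hfX, ← C_1, natDegree_X_sub_C, mul_one]
      have h := pow_eq_one_of_charpoly_dvd p N (T := 1) (a := a) (by rw [hcp, hfX, pow_one])
      rw [one_mul, ha] at h
      exact hord _ h
    · have hper : AdjoinRoot.root f ^ (q ^ (j + j)) = AdjoinRoot.root f := by
        rw [pow_add, pow_mul, ← hj, inv_pow, ← hj, inv_inv]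
      have hdvd : f.natDegree ∣ j + j := dvd_of_root_pow_card_eq hper
      have hdj : f.natDegree = j + j := by
        obtain ⟨c, hc⟩ := hdvd
        rcases c with _ | _ | c
        · omega
        · omega
        · exfalso; nlinarith
      have had : a * j = n := by
        rw [hdj, mul_add] at hfa; omega
      set T := Nat.gcd o (q ^ j + 1)
      have hαT : AdjoinRoot.root f ^ T = 1 := by
        rw [← orderOf_dvd_iff_pow_eq_one]
        exact Nat.dvd_gcd (orderOf_dvd_of_pow_eq_one hαw) (orderOf_dvd_of_pow_eq_one hα1)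
      have h := hord _ (pow_eq_one_of_charpoly_dvd p N (T := T) (a := a)
        (hcp ▸ pow_dvd_pow_of_dvd (dvd_X_pow_sub_one_of_root hαT) a))
      rcases main T j hj0 (Nat.gcd_dvd_left _ _) (Or.inl (Nat.gcd_dvd_right _ _)) had h with h | h
      · exact Or.inl h
      · exact Or.inr (Or.inr h)
  · obtain ⟨hm', hi', hd', hroot, -⟩ := conjFactor_spec p 0 (fun x => by simp) f hfm ho1 hαw
    set d := f.natDegree with hd
    have hd1 : 1 ≤ d := hfi.natDegree_pos
    have had : a * d = n := by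
      have := congrArg natDegree hcp
      rw [hdeg, natDegree_pow, natDegree_mul hfm.ne_zero hm'.ne_zero, hd', ← hd, mul_add] at this
      omega
    have hα0 : AdjoinRoot.root f ≠ 0 := by
      intro h0; rw [h0, zero_pow (by omega)] at hαw; exact zero_ne_one hαw
    haveI : Module.Finite F (AdjoinRoot f) := (AdjoinRoot.powerBasis hfi.ne_zero).finite
    haveI : Finite (AdjoinRoot f) := Module.finite_of_finite F
    haveI : Fintype (AdjoinRoot f) := Fintype.ofFinite _
    set T := Nat.gcd o (q ^ d - 1)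
    have hαQ : AdjoinRoot.root f ^ (q ^ d - 1) = 1 := by
      have hcard : Fintype.card (AdjoinRoot f) = q ^ d := by
        rw [Module.card_eq_pow_finrank (K := F), (AdjoinRoot.powerBasis hfi.ne_zero).finrank,
          AdjoinRoot.powerBasis_dim]
      rw [← hcard]
      exact FiniteField.pow_card_sub_one_eq_one _ hα0
    have hαT : AdjoinRoot.root f ^ T = 1 := by
      rw [← orderOf_dvd_iff_pow_eq_one]
      exact Nat.dvd_gcd (orderOf_dvd_of_pow_eq_one hαw) (orderOf_dvd_of_pow_eq_one hαQ)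
    have hβT : conjFactor p 0 f ∣ X ^ T - 1 := by
      refine minpoly.dvd F _ ?_
      rw [map_sub, map_pow, aeval_X, map_one, pow_zero, pow_one, inv_pow, hαT, inv_one, sub_self]
    have h := hord _ (pow_eq_one_of_charpoly_dvd p N (T := T) (a := a)
      (hcp ▸ pow_dvd_pow_of_dvd (hco.mul_dvd (dvd_X_pow_sub_one_of_root hαT) hβT) a))
    rcases main T d hd1 (Nat.gcd_dvd_left _ _) (Or.inr (Nat.gcd_dvd_right _ _)) had h with h | h
    · exact Or.inl h
    · exact Or.inr (Or.inr h)

end CfsgLib.Spectrum
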