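/-
Element orders of PSU_3(q), q odd.
-/
import Cfsg.Agent.Lib.Spectrum.UnitaryBound
import Cfsg.Agent.Lib.Spectrum.RankTwo

set_option autoImplicit false

open Polynomial Matrix

namespace CfsgLib.Spectrum

variable {F : Type*} [Field F] [Fintype F] (p l : ℕ) [Fact p.Prime] [CharP F p]
  (hF : Fintype.card F = (p ^ l) ^ 2)
include hF

theorem unitary_conj_root {n : ℕ} (g : Cfsg.SU n F (p ^ l)) {K : Type*} [Field K] [Algebra F K] {x : K}
    (hx : x ≠ 0) (h : aeval x (g.1 : Matrix (Fin n) (Fin n) F).charpoly = 0) :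
    aeval (x⁻¹ ^ (p ^ l)) (g.1 : Matrix (Fin n) (Fin n) F).charpoly = 0 := by
  set M := (g.1 : Matrix (Fin n) (Fin n) F)
  have he := pow_sq_card p l hF
  have hτM : hermAdj (p ^ l) M * M = 1 := (mem_SU_iff g.1).1 g.2
  have hMu : IsUnit M := IsUnit.of_mul_eq_one_right _ hτM
  have h1 := Matrix.charpoly_inv M hMu
  rw [Matrix.inv_eq_left_inv hτM, (isTwist_hermAdj p l he).τ_charpoly, ← Matrix.reverse_charpoly] at h1
  have h2 := congrArg (Polynomial.map (iterateFrobenius F p l)) h1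
  rw [map_map_frobenius p l he, Polynomial.map_mul] at h2
  haveI := invertibleOfNonzero hx
  have h3 := (Polynomial.eval₂_reverse_eq_zero_iff (algebraMap F K) x M.charpoly).2 h
  rw [invOf_eq_inv, ← aeval_def] at h3
  rw [h2, map_mul, aeval_pow_map_frobenius p l x⁻¹ M.charpoly.reverse, h3,
    zero_pow (pow_ne_zero _ (Fact.out : p.Prime).ne_zero), mul_zero]

theorem psuMk_dvd_of_charpoly_dvd {n : ℕ} (hn : 3 ≤ n) (g : Cfsg.SU n F (p ^ l)) {k : ℕ} {s : F}
    (h : (g.1 : Matrix (Fin n) (Fin n) F).charpoly ∣ X ^ k - C s) :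
    orderOf (QuotientGroup.mk g : Cfsg.PSU n F (p ^ l)) ∣ k := by
  refine orderOf_dvd_of_pow_eq_one ((psuMk_pow_eq_one_iff hF hn g k).2 ⟨s, ?_⟩)
  obtain ⟨c, hc⟩ := h
  have := congrArg (aeval (g.1 : Matrix (Fin n) (Fin n) F)) hc
  rw [map_mul, Matrix.aeval_self_charpoly, zero_mul, map_sub, map_pow, aeval_X, aeval_C,
    sub_eq_zero] at this
  exact this

omit [Fintype F] [Fact p.Prime] [CharP F p] hF in
theorem altExp_three {q : ℕ} (hq : 1 ≤ q) : altExp q 3 = q ^ 2 - q + 1 := by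
  refine Nat.eq_of_mul_eq_mul_left (show 0 < q + 1 by omega) ?_
  rw [add_one_mul_altExp_odd hq (by decide)]
  have : q ≤ q ^ 2 := Nat.le_self_pow (by norm_num) q
  zify [this]
  ring

/-- The upper bound. -/
theorem orderOf_psu_three_dvd (hp2 : p ≠ 2) (g : Cfsg.SU 3 F (p ^ l)) (d : ℕ)
    (hd : Nat.gcd 3 (p ^ l + 1) = d) :
    let q := p ^ l
    let o := orderOf (QuotientGroup.mk g : Cfsg.PSU 3 F q)
    o ∣ q + 1 ∨ o ∣ p * (q + 1) / d ∨ o ∣ (q ^ 2 - 1) / d ∨ o ∣ (q ^ 2 - q + 1) / d := by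
  intro q o
  have hp : p.Prime := Fact.out
  have hq2 : 2 ≤ q := two_le_pow p l hF
  have he : ∀ x : F, x ^ (q * q) = x := pow_sq_card p l hF
  have hdvd3 := @psuMk_dvd_of_charpoly_dvd F _ _ p l _ _ hF 3 le_rfl g
  set P := (g.1 : Matrix (Fin 3) (Fin 3) F).charpoly with hPdef
  have hP : P.Monic := Matrix.charpoly_monic _
  have hPd : P.natDegree = 3 := by rw [hPdef, Matrix.charpoly_natDegree_eq_dim, Fintype.card_fin]
  have hP0 : P.eval 0 = -1 := by
    have h := Matrix.det_eq_sign_charpoly_coeff (g.1 : Matrix (Fin 3) (Fin 3) F)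
    rw [g.1.2, Fintype.card_fin, ← hPdef, coeff_zero_eq_eval_zero] at h
    linear_combination h
  obtain ⟨m, hm⟩ : d ∣ q + 1 := hd ▸ Nat.gcd_dvd_right 3 _
  obtain ⟨t, ht⟩ : d ∣ 3 := hd ▸ Nat.gcd_dvd_left 3 _
  have hdpos : 0 < d := hd ▸ Nat.gcd_pos_of_pos_left _ (by norm_num)
  have hq21 : q ^ 2 - 1 = (q - 1) * (q + 1) := sub_one_mul_add_one (by omega)
  by_cases hirr : Irreducible P
  · right; right; right
    haveI := Fact.mk hirr
    have h1 := root_pow_geomExp (f := P) hP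
    rw [hPd, hP0, hF, show ((-1 : F) ^ 3 * -1) = 1 by norm_num, map_one] at h1
    have hα0 : AdjoinRoot.root P ≠ 0 := by
      intro h0
      rw [h0, zero_pow (by simp [geomExp, Finset.sum_range_succ])] at h1
      exact zero_ne_one h1
    obtain ⟨j, hjd, hj⟩ := root_eq_pow_card
      (unitary_conj_root p l hF g hα0 ((AdjoinRoot.aeval_eq P).trans AdjoinRoot.mk_self))
    obtain ⟨hodd, hα⟩ := self_conjugate_spec p l hF P hjd hα0 hj
    rw [hPd] at hodd hα
    set A := altExp q 3 with hAdef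
    have hA : orderOf (AdjoinRoot.root P) ∣ A := by
      have h2 := Nat.dvd_gcd (orderOf_dvd_of_pow_eq_one h1) (orderOf_dvd_of_pow_eq_one hα)
      rwa [geomExp_sq_odd hq2 hodd, ← add_one_mul_altExp_odd (by omega : 1 ≤ q) hodd, mul_comm (q + 1),
        mul_comm (geomExp q 3), Nat.gcd_mul_left, (coprime_geomExp_add_one hodd).gcd_eq_one,
        mul_one] at h2
    obtain ⟨N, hN⟩ : d ∣ A := by
      have h3 := gcd_altExp (q := q) (by omega) 3
      rw [← hd, ← h3]
      exact Nat.gcd_dvd_left _ _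
    rw [← altExp_three (by omega), ← hAdef, hN, Nat.mul_div_cancel_left _ hdpos]
    obtain ⟨c, hc⟩ := (exists_algebraMap_iff p l hF (pow_ne_zero N hα0)).2 (by
      rw [← pow_mul, hm, show N * ((q - 1) * (d * m)) = A * ((q - 1) * m) by rw [hN]; ring, pow_mul,
        orderOf_dvd_iff_pow_eq_one.1 hA, one_pow])
    refine hdvd3 (s := c) ?_
    rw [← AdjoinRoot.mk_eq_zero, map_sub, map_pow, AdjoinRoot.mk_X, AdjoinRoot.mk_C,
      ← AdjoinRoot.algebraMap_eq, hc, sub_self]
  obtain ⟨c, hcroot⟩ : ∃ c, P.IsRoot c := by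
    by_contra h
    refine hirr ((hP.irreducible_iff_roots_eq_zero_of_degree_le_three (by omega) (by omega)).2 ?_)
    exact Multiset.eq_zero_of_forall_notMem fun c hc => h ⟨c, isRoot_of_mem_roots hc⟩
  obtain ⟨Q, hQ⟩ := dvd_iff_isRoot.2 hcroot
  have hQm : Q.Monic := (monic_X_sub_C c).of_mul_monic_left (hQ ▸ hP)
  have hQd : Q.natDegree = 2 := by
    have := congrArg natDegree hQ
    rw [hPd, (monic_X_sub_C c).natDegree_mul hQm, natDegree_X_sub_C] at this
    omega
  have hroot0 : ∀ {x : F}, P.eval x = 0 → x ≠ 0 := by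
    rintro x hx rfl
    rw [hP0, neg_eq_zero] at hx
    exact one_ne_zero hx
  have hφ : ∀ {x : F}, P.eval x = 0 → P.eval (x⁻¹ ^ q) = 0 := fun {x} hx => by
    have := unitary_conj_root p l hF g (hroot0 hx) (K := F) (by rw [← hPdef, coe_aeval_eq_eval]; exact hx)
    rwa [← hPdef, coe_aeval_eq_eval] at this
  have hinvol : ∀ x : F, (x⁻¹ ^ q)⁻¹ ^ q = x := fun x => by
    rw [inv_pow x, inv_inv, ← pow_mul, he]
  have hfix : ∀ {x : F}, x ≠ 0 → x⁻¹ ^ q = x → x ^ (q + 1) = 1 := fun {x} hx h => by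
    rw [pow_succ]
    nth_rewrite 2 [← h]
    rw [← mul_pow, mul_inv_cancel₀ hx, one_pow]
  have hcr : P.eval c = 0 := hcroot
  by_cases hQi : Irreducible Q
  · exfalso
    haveI := Fact.mk hQi
    have hnoroot : ∀ x : F, Q.eval x ≠ 0 := fun x hx => by
      have h := natDegree_eq_of_degree_eq (degree_eq_degree_of_associated
        ((irreducible_X_sub_C x).associated_of_dvd hQi (dvd_iff_isRoot.2 hx)))
      rw [natDegree_X_sub_C, hQd] at h
      omega
    have hc0 := hroot0 hcr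
    have hcc : c⁻¹ ^ q = c := by
      have h := hφ hcr
      rw [hQ, eval_mul, mul_eq_zero, or_iff_left (hnoroot _), eval_sub, eval_X, eval_C, sub_eq_zero] at h
      exact h
    haveI : CharP (AdjoinRoot Q) p := charP_of_injective_algebraMap (algebraMap F _).injective p
    haveI : ExpChar (AdjoinRoot Q) p := ExpChar.prime hp
    set α := AdjoinRoot.root Q with hαdef
    have hαQ : aeval α Q = 0 := (AdjoinRoot.aeval_eq Q).trans AdjoinRoot.mk_self
    have hαP : aeval α P = 0 := by rw [hQ, map_mul, hαQ, mul_zero]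
    have hα0 : α ≠ 0 := by
      intro h0
      have h1 := hαQ
      rw [h0, ← map_zero (algebraMap F (AdjoinRoot Q)),
        Polynomial.aeval_algebraMap_apply_eq_algebraMap_eval] at h1
      exact hnoroot 0 ((algebraMap F (AdjoinRoot Q)).injective h1)
    have h := unitary_conj_root p l hF g hα0 (by rw [← hPdef]; exact hαP)
    rw [← hPdef, hQ, map_mul, mul_eq_zero, map_sub, aeval_X, aeval_C, sub_eq_zero] at h
    rcases h with h | h
    · rw [← hcc, map_pow] at h
      have h' : α⁻¹ = algebraMap F _ c⁻¹ := iterateFrobenius_inj (AdjoinRoot Q) p l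
        (by simpa [iterateFrobenius_def] using h)
      rw [map_inv₀, _root_.inv_inj] at h'
      refine hnoroot c ((algebraMap F (AdjoinRoot Q)).injective ?_)
      rw [map_zero, ← Polynomial.aeval_algebraMap_apply_eq_algebraMap_eval, ← h', hαQ]
    · obtain ⟨j, hjd, hj⟩ := root_eq_pow_card h
      have h2 := (self_conjugate_spec p l hF Q hjd hα0 hj).1
      rw [hQd] at h2
      exact absurd h2 (by decide)
  obtain ⟨a, haroot⟩ : ∃ a, Q.IsRoot a := by
    by_contra h
    refine hQi ((hQm.irreducible_iff_roots_eq_zero_of_degree_le_three (by omega) (by omega)).2 ?_)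
    exact Multiset.eq_zero_of_forall_notMem fun a ha => h ⟨a, isRoot_of_mem_roots ha⟩
  obtain ⟨L, hL⟩ := dvd_iff_isRoot.2 haroot
  have hLm : L.Monic := (monic_X_sub_C a).of_mul_monic_left (hL ▸ hQm)
  have hLd : L.natDegree = 1 := by
    have := congrArg natDegree hL
    rw [hQd, (monic_X_sub_C a).natDegree_mul hLm, natDegree_X_sub_C] at this
    omega
  obtain ⟨b, rfl⟩ : ∃ b, L = X - C b :=
    ⟨-L.coeff 0, by rw [map_neg, sub_neg_eq_add]; exact hLm.eq_X_add_C hLd⟩
  rw [hL] at hQ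
  have habc : a * b * c = 1 := by
    have h := hP0
    rw [hQ, eval_mul, eval_mul, eval_sub, eval_sub, eval_sub, eval_X, eval_C, eval_C, eval_C] at h
    linear_combination -h
  have hroots : ∀ {x : F}, P.eval x = 0 ↔ x = a ∨ x = b ∨ x = c := fun {x} => by
    rw [hQ, eval_mul, eval_mul, mul_eq_zero, mul_eq_zero, eval_sub, eval_sub, eval_sub, eval_X, eval_C,
      eval_C, eval_C, sub_eq_zero, sub_eq_zero, sub_eq_zero]
    tauto
  have hpm : p * (q + 1) / d = p * m := by
    rw [hm, show p * (d * m) = d * (p * m) by ring, Nat.mul_div_cancel_left _ hdpos]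
  -- a repeated root
  have rep : ∀ u v : F, P = (X - C u) ^ 2 * (X - C v) → u * u * v = 1 → o ∣ p * (q + 1) / d := by
    intro u v hPuv huv
    have hu : u ≠ 0 := fun h => by simp [h] at huv
    have hv : v ≠ 0 := fun h => by simp [h] at huv
    have hr : ∀ {x : F}, P.eval x = 0 → x = u ∨ x = v := fun {x} hx => by
      rw [hPuv, eval_mul, eval_pow, eval_sub, eval_sub, eval_X, eval_C, eval_C, mul_eq_zero,
        sq_eq_zero_iff, sub_eq_zero, sub_eq_zero] at hx
      exact hx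
    have hpu : P.eval u = 0 := by simp [hPuv]
    have hpv : P.eval v = 0 := by simp [hPuv]
    rw [hpm]
    rcases eq_or_ne u v with rfl | hne
    · refine hdvd3 (s := u ^ (p * m)) ?_
      rw [hPuv, ← pow_succ]
      exact X_sub_C_pow_dvd p u (by have := hp.two_le; omega) m
    have hvv : v⁻¹ ^ q = v := by
      refine (hr (hφ hpv)).resolve_left fun h => hne ?_
      have h2 : u⁻¹ ^ q = v := by rw [← h, hinvol]
      have hv' : v = (u * u)⁻¹ := eq_inv_of_mul_eq_one_right huv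
      have h3 : u ^ q = u * u := inv_injective (by rw [← inv_pow, h2, hv'])
      rw [hv', inv_inv, mul_pow, h3] at h
      have h4 : u * u * u = 1 := by
        apply mul_left_cancel₀ hu
        rw [mul_one]
        nth_rewrite 5 [← h]
        ring
      exact mul_left_cancel₀ (mul_ne_zero hu hu) (h4.trans huv.symm)
    have huu : u⁻¹ ^ q = u := by
      refine (hr (hφ hpu)).resolve_right fun h => hne ?_
      rw [← hinvol u, h, hvv]
    refine hdvd3 (s := u ^ (p * m)) ?_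
    rw [hPuv]
    refine IsCoprime.mul_dvd (IsCoprime.pow_left ?_) (X_sub_C_pow_dvd p u hp.two_le m) ?_
    · exact isCoprime_X_sub_C_of_isUnit_sub (sub_ne_zero.2 hne).isUnit
    · have : u ^ (p * m) = v ^ (p * m) := by
        have hx : (u * u) ^ (p * m) * v ^ (p * m) = 1 := by rw [← mul_pow, huv, one_pow]
        have hy : (u * u) ^ (p * m) * u ^ (p * m) = 1 := by
          rw [← mul_pow, show u * u * u = u ^ 3 by ring, ← pow_mul,
            show 3 * (p * m) = (q + 1) * (t * p) by rw [hm, ht]; ring, pow_mul, hfix hu huu, one_pow]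
        exact mul_left_cancel₀ (pow_ne_zero _ (mul_ne_zero hu hu)) (hy.trans hx.symm)
      rw [this]
      exact X_sub_C_dvd_pow_sub v _
  rcases eq_or_ne a b with rfl | hab
  · exact Or.inr (Or.inl (rep a c (by rw [hQ]; ring) habc))
  rcases eq_or_ne a c with rfl | hac
  · exact Or.inr (Or.inl (rep a b (by rw [hQ]; ring) (by linear_combination habc)))
  rcases eq_or_ne b c with rfl | hbc
  · exact Or.inr (Or.inl (rep b a (by rw [hQ]; ring) (by linear_combination habc)))
  have ha0 : a ≠ 0 := fun h => by simp [h] at habc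
  have hb0 : b ≠ 0 := fun h => by simp [h] at habc
  have hc0 : c ≠ 0 := fun h => by simp [h] at habc
  have three : ∀ {x y z : F} {k : ℕ} {s : F}, P = (X - C x) * ((X - C y) * (X - C z)) → x ≠ y → x ≠ z →
      y ≠ z → x ^ k = s → y ^ k = s → z ^ k = s → o ∣ k := by
    intro x y z k s hxyz h1 h2 h3 hx hy hz
    refine hdvd3 (s := s) ?_
    rw [hxyz]
    refine IsCoprime.mul_dvd (IsCoprime.mul_right ?_ ?_) (hx ▸ X_sub_C_dvd_pow_sub x k)
      (IsCoprime.mul_dvd ?_ (hy ▸ X_sub_C_dvd_pow_sub y k) (hz ▸ X_sub_C_dvd_pow_sub z k)) <;>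
      apply isCoprime_X_sub_C_of_isUnit_sub <;> refine (sub_ne_zero.2 ?_).isUnit
    exacts [h1, h2, h3]
  -- two roots exchanged by the conjugation
  have pair : ∀ {x y z : F}, P = (X - C x) * ((X - C y) * (X - C z)) → x ≠ y → x ≠ z → y ≠ z →
      x * y * z = 1 → x⁻¹ ^ q = y → o ∣ (q ^ 2 - 1) / d := by
    intro x y z hxyz h1 h2 h3 hprod hy
    have hx : x ≠ 0 := fun h => by simp [h] at hprod
    rw [hq21, hm, show (q - 1) * (d * m) = d * ((q - 1) * m) by ring, Nat.mul_div_cancel_left _ hdpos]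
    set N := (q - 1) * m with hN
    set e := x ^ N with he'
    have hcard : x ^ ((q - 1) * (q + 1)) = 1 := by
      rw [← hq21, ← hF]; exact FiniteField.pow_card_sub_one_eq_one x hx
    have he0 : e ≠ 0 := pow_ne_zero _ hx
    have he1 : e ^ (q + 1) = 1 := by
      rw [he', ← pow_mul, show N * (q + 1) = (q - 1) * (q + 1) * m by rw [hN]; ring, pow_mul, hcard,
        one_pow]
    have he3 : e ^ 3 = 1 := by
      rw [he', ← pow_mul, show N * 3 = (q - 1) * (q + 1) * t by rw [hN, hm, ht]; ring, pow_mul, hcard,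
        one_pow]
    have hye : y ^ N = e := by
      rw [← hy, ← pow_mul, mul_comm, pow_mul, inv_pow, ← he', inv_pow]
      exact inv_eq_of_mul_eq_one_left (by rw [← pow_succ', he1])
    refine three hxyz h1 h2 h3 (s := e) rfl hye ?_
    have h4 : x ^ N * y ^ N * z ^ N = 1 := by rw [← mul_pow, ← mul_pow, hprod, one_pow]
    rw [hye, ← he'] at h4
    apply mul_left_cancel₀ (mul_ne_zero he0 he0)
    rw [h4, ← he3]
    ring
  rcases hroots.1 (hφ (hroots.2 (Or.inl rfl) : P.eval a = 0)) with h | h | h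
  swap
  · exact Or.inr (Or.inr (Or.inl (pair (x := a) (y := b) (z := c) (by rw [hQ]; ring) hab hac hbc habc h)))
  swap
  · exact Or.inr (Or.inr (Or.inl (pair (x := a) (y := c) (z := b) (by rw [hQ]; ring) hac hab hbc.symm
      (by linear_combination habc) h)))
  rcases hroots.1 (hφ (hroots.2 (Or.inr (Or.inl rfl)) : P.eval b = 0)) with hb | hb | hb
  · exact absurd (by rw [← hinvol b, hb, h]) hab.symm
  swap
  · exact Or.inr (Or.inr (Or.inl (pair (x := b) (y := c) (z := a) (by rw [hQ]; ring) hbc hab.symm hac.symm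
      (by linear_combination habc) hb)))
  rcases hroots.1 (hφ (hroots.2 (Or.inr (Or.inr rfl)) : P.eval c = 0)) with hc | hc | hc
  · exact absurd (by rw [← hinvol c, hc, h]) hac.symm
  · exact absurd (by rw [← hinvol c, hc, hb]) hbc.symm
  exact Or.inl (three (x := a) (y := b) (z := c) (k := q + 1) (s := 1) (by rw [hQ]; ring) hab hac hbc
    (hfix ha0 h) (hfix hb0 hb) (hfix hc0 hc))

/-- The torus of norm one diagonal matrices. -/
theorem exists_psu_three_split :
    ∃ g : Cfsg.PSU 3 F (p ^ l), orderOf g = p ^ l + 1 := by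
  classical
  have hq2 := two_le_pow p l hF
  obtain ⟨γ, hγ⟩ := IsCyclic.exists_ofOrder_eq_natCard (α := Fˣ)
  rw [Nat.card_eq_fintype_card, Fintype.card_units, hF, sub_one_mul_add_one (by omega)] at hγ
  obtain ⟨ζ, hζ⟩ := exists_orderOf_eq_of_dvd_orderOf γ (m := p ^ l + 1) (hγ ▸ dvd_mul_left _ _)
  have hz : (ζ : F) * (ζ : F) ^ (p ^ l) = 1 := by
    rw [← pow_succ', ← Units.val_pow_eq_pow_val, orderOf_dvd_iff_pow_eq_one.1 hζ.dvd, Units.val_one]
  have hs := IsTwistForm.self (F := F) p l (pow_sq_card p l hF)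
  have hadd := fun a b : F => add_pow_char_pow a b p l
  have hl := (hs.prod hs hadd).prod hs hadd
  have hfin : Module.finrank F ((F × F) × F) = 3 := by simp [Module.finrank_prod]
  let x : (F × F) × F := (((ζ : F), (ζ : F)⁻¹), 1)
  obtain ⟨g, hg⟩ := exists_psu_of_twistForm p l hF le_rfl hfin hl x
    (by
      simp only [x, RingHom.coe_prodMap, Prod.map_apply, Prod.mk_mul_mk, map_one, mul_one,
        iterateFrobenius_def, one_pow]
      rw [hz, inv_pow, ← mul_inv, hz, inv_one]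
      rfl)
    (by simp [x, norm_prod_eq, Algebra.norm_self])
  refine ⟨g, orderOf_eq_of_pow_iff g fun k => ?_⟩
  rw [hg, ← hζ, orderOf_dvd_iff_pow_eq_one]
  constructor
  · rintro ⟨c, hc⟩
    simp only [x, Prod.pow_mk, Prod.algebraMap_apply, Algebra.algebraMap_self, RingHom.id_apply,
      Prod.mk.injEq, one_pow] at hc
    exact Units.ext (by rw [Units.val_pow_eq_pow_val, hc.1.1, ← hc.2, Units.val_one])
  · intro h
    have h' : (ζ : F) ^ k = 1 := by rw [← Units.val_pow_eq_pow_val, h, Units.val_one]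
    exact ⟨1, by simp [x, h']⟩

/-- A semisimple times a unipotent element. -/
theorem exists_psu_three_mixed (hp2 : p ≠ 2) (d : ℕ) (hd : Nat.gcd 3 (p ^ l + 1) = d) :
    ∃ g : Cfsg.PSU 3 F (p ^ l), orderOf g = p * (p ^ l + 1) / d := by
  classical
  have hp : p.Prime := Fact.out
  have hq2 := two_le_pow p l hF
  obtain ⟨γ, hγ⟩ := IsCyclic.exists_ofOrder_eq_natCard (α := Fˣ)
  rw [Nat.card_eq_fintype_card, Fintype.card_units, hF, sub_one_mul_add_one (by omega)] at hγ
  obtain ⟨ζ, hζ⟩ := exists_orderOf_eq_of_dvd_orderOf γ (m := p ^ l + 1) (hγ ▸ dvd_mul_left _ _)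
  have hζq : (ζ : F) * (ζ : F) ^ (p ^ l) = 1 := by
    rw [← pow_succ', ← Units.val_pow_eq_pow_val, orderOf_dvd_iff_pow_eq_one.1 hζ.dvd, Units.val_one]
  obtain ⟨st', lam', hl', hw'⟩ := exists_twist_truncated p l hF (show 1 ≤ 2 by norm_num)
  obtain ⟨hfin, hord, ⟨ev, hev⟩, hnorm⟩ := truncated_one_add_root (F := F) p (show 1 ≤ 2 by norm_num)
  rw [show Nat.clog p 2 = 1 from Nat.clog_eq_one le_rfl hp.two_le, pow_one] at hord
  set A := AdjoinRoot (X ^ 2 : F[X])
  set w : A := 1 + AdjoinRoot.root (X ^ 2 : F[X])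
  haveI : Module.Finite F A := (AdjoinRoot.powerBasis (pow_ne_zero _ X_ne_zero)).finite
  have hfinB : Module.finrank F (A × F) = 3 := by
    rw [Module.finrank_prod, hfin, Module.finrank_self]
  let x : A × F := (algebraMap F A (ζ : F) * w, ((ζ : F) ^ 2)⁻¹)
  have hstC : ∀ e : F, st' (algebraMap F A e) = algebraMap F A (e ^ (p ^ l)) := fun e => by
    rw [Algebra.algebraMap_eq_smul_one, hl'.st_smul, map_one, Algebra.algebraMap_eq_smul_one]
  obtain ⟨g, hg⟩ := exists_psu_of_twistForm p l hF le_rfl hfinB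
    (hl'.prod (IsTwistForm.self p l (pow_sq_card p l hF)) (fun a b => add_pow_char_pow a b p l)) x
    (by
      simp only [x, RingHom.coe_prodMap, Prod.map_apply, Prod.mk_mul_mk, map_mul, hstC,
        iterateFrobenius_def]
      rw [mul_mul_mul_comm, ← map_mul, hζq, map_one, one_mul, hw', inv_pow, ← mul_inv, ← pow_mul,
        mul_comm 2, pow_mul, ← mul_pow, hζq, one_pow, inv_one]
      rfl)
    (by
      simp only [x, norm_prod_eq, map_mul, Algebra.norm_algebraMap, hfin, hnorm, Algebra.norm_self,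
        MonoidHom.id_apply, mul_one]
      rw [show Module.finrank F A = 2 from hfin]
      exact mul_inv_cancel₀ (pow_ne_zero _ ζ.ne_zero))
  refine ⟨g, orderOf_eq_of_pow_iff g fun k => ?_⟩
  have hcop : Nat.Coprime p ((p ^ l + 1) / d) := by
    refine hp.coprime_iff_not_dvd.2 fun h => ?_
    have h1 : p ∣ p ^ l + 1 := h.trans (Nat.div_dvd_of_dvd (hd ▸ Nat.gcd_dvd_right 3 _))
    have h2 : p ∣ p ^ l := dvd_pow_self p (by rintro rfl; simp at hq2)
    exact hp.not_dvd_one ((Nat.dvd_add_right h2).1 h1)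
  have hiff : (ζ : F) ^ (k * 3) = 1 ↔ (p ^ l + 1) / d ∣ k := by
    rw [← dvd_mul_iff_div_gcd (b := 3) (by omega) (by rw [Nat.gcd_comm, hd]), ← hζ,
      orderOf_dvd_iff_pow_eq_one, ← Units.val_eq_one, Units.val_pow_eq_pow_val]
  have hz : (ζ : F) ^ k ≠ 0 := pow_ne_zero _ ζ.ne_zero
  rw [Nat.mul_div_assoc _ (hd ▸ Nat.gcd_dvd_right 3 (p ^ l + 1)), hg]
  constructor
  · rintro ⟨c, hc⟩
    simp only [x, Prod.pow_mk, Prod.algebraMap_apply, Algebra.algebraMap_self, RingHom.id_apply,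
      Prod.mk.injEq, mul_pow, ← map_pow] at hc
    obtain ⟨h1, h2⟩ := hc
    have he := congrArg ev h1
    rw [map_mul, map_pow ev w, hev, one_pow, mul_one, AlgHom.commutes, AlgHom.commutes] at he
    simp only [Algebra.algebraMap_self, RingHom.id_apply] at he
    have h3 : (ζ : F) ^ (k * 3) = 1 := by
      rw [← h2, inv_pow, ← mul_eq_one_iff_eq_inv₀ (pow_ne_zero _ (pow_ne_zero _ ζ.ne_zero))] at he
      rw [← he]; ring
    rw [← he] at h1
    have hw : w ^ k = 1 := (hz.isUnit.map (algebraMap F A)).mul_left_cancel (by rw [mul_one]; exact h1)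
    exact hcop.mul_dvd_of_dvd_of_dvd (hord ▸ orderOf_dvd_of_pow_eq_one hw) (hiff.1 h3)
  · intro hk
    have h1 : w ^ k = 1 := orderOf_dvd_iff_pow_eq_one.1 (hord ▸ (dvd_mul_right _ _).trans hk)
    have h3 : (ζ : F) ^ (k * 3) = 1 := hiff.2 ((dvd_mul_left _ _).trans hk)
    refine ⟨(ζ : F) ^ k, Prod.ext ?_ ?_⟩
    · show (algebraMap F A (ζ : F) * w) ^ k = algebraMap F A ((ζ : F) ^ k)
      rw [mul_pow, h1, mul_one, map_pow]
    · show ((ζ : F) ^ 2)⁻¹ ^ k = (ζ : F) ^ k
      rw [inv_pow, inv_eq_iff_eq_inv, ← mul_eq_one_iff_eq_inv₀ hz, ← h3]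
      ring

/-- The torus of order `q ^ 2 - 1`. -/
theorem exists_psu_three_quadratic (d : ℕ) (hd : Nat.gcd 3 (p ^ l + 1) = d) :
    ∃ g : Cfsg.PSU 3 F (p ^ l), orderOf g = ((p ^ l) ^ 2 - 1) / d := by
  classical
  set q := p ^ l with hq
  have hq2 : 2 ≤ q := two_le_pow p l hF
  obtain ⟨γ, hγ⟩ := IsCyclic.exists_ofOrder_eq_natCard (α := Fˣ)
  rw [Nat.card_eq_fintype_card, Fintype.card_units, hF] at hγ
  have he : ∀ x : F, x ^ (q * q) = x := pow_sq_card p l hF
  obtain ⟨st, lam, hl, hst⟩ := exists_twistForm_double (F := F) p l (K := F) l l (fun c => rfl)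
    (fun c => rfl) (fun z => by rw [← pow_mul]; exact he z) 1 (one_mul 1) (one_pow _)
  have hl' := hl.prod (IsTwistForm.self (F := F) p l he) (fun a b => add_pow_char_pow a b p l)
  have hfin : Module.finrank F ((F × F) × F) = 3 := by simp [Module.finrank_prod]
  have hγ0 : (γ : F) ≠ 0 := γ.ne_zero
  have hcard : (γ : F) ^ ((q - 1) * (q + 1)) = 1 := by
    rw [← sub_one_mul_add_one (by omega : 1 ≤ q), ← Units.val_pow_eq_pow_val, ← hγ, pow_orderOf_eq_one,
      Units.val_one]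
  let x : (F × F) × F := (((γ : F), (γ : F)⁻¹ ^ q), (γ : F) ^ (q - 1))
  have hq1 : (γ : F) ^ q = (γ : F) * (γ : F) ^ (q - 1) := by
    rw [← pow_succ', show q - 1 + 1 = q by omega]
  obtain ⟨g, hg⟩ := exists_psu_of_twistForm p l hF le_rfl hfin hl' x
    (by
      simp only [x, RingHom.coe_prodMap, Prod.map_apply, Prod.mk_mul_mk, hst, iterateFrobenius_def]
      simp only [← hq, ← pow_mul, he, inv_pow]
      rw [mul_inv_cancel₀ hγ0, inv_mul_cancel₀ (pow_ne_zero _ hγ0), ← pow_add,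
        show q - 1 + (q - 1) * q = (q - 1) * (q + 1) by ring, hcard]
      rfl)
    (by
      simp only [x, norm_prod_eq, Algebra.norm_self, MonoidHom.id_apply, inv_pow, hq1]
      field_simp)
  refine ⟨g, orderOf_eq_of_pow_iff g fun k => ?_⟩
  have hg3 : Nat.gcd (q + 1) (q - 2) = d := by
    rw [← hd, show q + 1 = 3 + (q - 2) by omega, Nat.gcd_add_self_left, Nat.gcd_self_add_right]
  obtain ⟨N, hN⟩ : d ∣ q ^ 2 - 1 :=
    (hd ▸ Nat.gcd_dvd_right 3 (q + 1)).trans (sub_one_mul_add_one (by omega : 1 ≤ q) ▸ dvd_mul_left _ _)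
  have hdpos : 0 < d := hd ▸ Nat.gcd_pos_of_pos_left _ (by norm_num)
  have hiff : N ∣ k ↔ (γ : F) ^ (k * (q + 1)) = 1 ∧ (γ : F) ^ (k * (q - 2)) = 1 := by
    simp only [← Units.val_pow_eq_pow_val, Units.val_eq_one, ← orderOf_dvd_iff_pow_eq_one, hγ]
    rw [← Nat.dvd_gcd_iff, Nat.gcd_mul_left, hg3, hN, mul_comm d, Nat.mul_dvd_mul_iff_right hdpos]
  rw [hg, hN, Nat.mul_div_cancel_left _ hdpos, hiff]
  have key : ∀ a : F, a ≠ 0 → ((a = a⁻¹ ^ q ∧ a = a ^ (q - 1)) ↔ (a ^ (q + 1) = 1 ∧ a ^ (q - 2) = 1)) := by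
    intro a ha
    refine and_congr ?_ ?_
    · rw [inv_pow, ← mul_eq_one_iff_eq_inv₀ (pow_ne_zero _ ha), pow_succ']
    · rw [show q - 1 = (q - 2) + 1 by omega, pow_succ, eq_comm]
      exact mul_eq_right₀ ha
  rw [pow_mul, pow_mul, ← key _ (pow_ne_zero _ hγ0)]
  constructor
  · rintro ⟨c, hc⟩
    simp only [x, Prod.pow_mk, Prod.algebraMap_apply, Algebra.algebraMap_self, RingHom.id_apply,
      Prod.mk.injEq, inv_pow, ← pow_mul] at hc
    simp only [inv_pow, ← pow_mul]
    exact ⟨by rw [hc.1.1, mul_comm k, hc.1.2], by rw [hc.1.1, mul_comm k, hc.2]⟩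
  · rintro ⟨h1, h2⟩
    refine ⟨(γ : F) ^ k, ?_⟩
    simp only [x, Prod.pow_mk, Prod.algebraMap_apply, Algebra.algebraMap_self, RingHom.id_apply,
      Prod.mk.injEq, inv_pow, ← pow_mul] at h1 h2 ⊢
    exact ⟨⟨trivial, by rw [mul_comm q, ← h1]⟩, by rw [mul_comm (q - 1), ← h2]⟩

theorem range_orderOf_psu_three (hp2 : p ≠ 2) :
    Set.range (orderOf : Cfsg.PSU 3 F (p ^ l) → ℕ) =
      {s : ℕ | s ∣ p ^ l + 1} ∪ {s : ℕ | s ∣ p * (p ^ l + 1) / Nat.gcd 3 (p ^ l + 1)} ∪
        {s : ℕ | s ∣ ((p ^ l) ^ 2 - 1) / Nat.gcd 3 (p ^ l + 1)} ∪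
        {s : ℕ | s ∣ ((p ^ l) ^ 2 - p ^ l + 1) / Nat.gcd 3 (p ^ l + 1)} := by
  classical
  ext s
  simp only [Set.mem_union, Set.mem_setOf_eq, or_assoc]
  constructor
  · rintro ⟨x, rfl⟩
    obtain ⟨g, rfl⟩ := QuotientGroup.mk_surjective x
    exact orderOf_psu_three_dvd p l hF hp2 g _ rfl
  · haveI : Finite (Cfsg.PSU 3 F (p ^ l)) := Finite.of_surjective _ QuotientGroup.mk_surjective
    intro hs
    obtain ⟨g, hg⟩ : ∃ g : Cfsg.PSU 3 F (p ^ l), s ∣ orderOf g := by
      rcases hs with h | h | h | h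
      · obtain ⟨g, hg⟩ := exists_psu_three_split p l hF
        exact ⟨g, hg ▸ h⟩
      · obtain ⟨g, hg⟩ := exists_psu_three_mixed p l hF hp2 _ rfl
        exact ⟨g, hg ▸ h⟩
      · obtain ⟨g, hg⟩ := exists_psu_three_quadratic p l hF _ rfl
        exact ⟨g, hg ▸ h⟩
      · obtain ⟨g, hg⟩ := exists_orderOf_eq_singerExpU p l hF (n := 3) le_rfl
        refine ⟨g, hg ▸ ?_⟩
        rw [singerExpU, altExp_three (by have := two_le_pow p l hF; omega)]
        exact h
    exact exists_orderOf_eq_of_dvd_orderOf g hg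

end CfsgLib.Spectrum
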